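/-
Tensor square of a three-dimensional orthogonal space: forms, half turns, block diagonal maps.
-/
import Cfsg.Agent.Lib.OrthTensor.Main

set_option autoImplicit false
set_option linter.unusedSectionVars false

namespace Cfsg.Agent.TensorSquare

open scoped Matrix Kronecker
open Matrix Cfsg.Agent.Transvec Cfsg.Agent.TensorMax
open Cfsg.Agent.TensorMax.U (kr mv_kr_ten isKron_kr isKron_mul isKron_inv mv_kron_ten ext_ten_mv)
open Cfsg.Agent.Transvec.Orth (pol IsSiegel)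

variable {F : Type*} [Field F]

/-- Half of the dot product. -/
def Qd {κ : Type} [Fintype κ] (v : κ → F) : F := (v ⬝ᵥ v) / 2

/-- The standard basis. -/
def ee (i : Fin 3) : Fin 3 → F := Pi.single i 1

theorem ee_apply (i j : Fin 3) : (ee i : Fin 3 → F) j = if j = i then 1 else 0 := by
  simp [ee, Pi.single_apply]

theorem ee_dot (i : Fin 3) (v : Fin 3 → F) : ee i ⬝ᵥ v = v i := by simp [ee]

theorem dot_ee (i : Fin 3) (v : Fin 3 → F) : v ⬝ᵥ ee i = v i := by simp [ee]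

theorem ee_dot_ee (i j : Fin 3) : (ee i : Fin 3 → F) ⬝ᵥ ee j = if i = j then 1 else 0 := by
  rw [ee_dot, ee_apply]

theorem ee_ne_zero (i : Fin 3) : (ee i : Fin 3 → F) ≠ 0 := fun h => by
  simpa [ee_apply] using congrFun h i

theorem ee_self (i : Fin 3) : (ee i : Fin 3 → F) ⬝ᵥ ee i = 1 := by simp [ee_dot_ee]

theorem decomp3 (v : Fin 3 → F) : v = v 0 • ee 0 + v 1 • ee 1 + v 2 • ee 2 := by
  funext j; fin_cases j <;> simp [ee_apply]

theorem dot3 (u v : Fin 3 → F) : u ⬝ᵥ v = u 0 * v 0 + u 1 * v 1 + u 2 * v 2 := by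
  simp [dotProduct, Fin.sum_univ_three]

theorem ten_dot (u w v z : Fin 3 → F) : ten u w ⬝ᵥ ten v z = (u ⬝ᵥ v) * (w ⬝ᵥ z) := by
  simp only [dotProduct, Fintype.sum_prod_type, ten, Finset.sum_mul, Finset.mul_sum]
  rw [Finset.sum_comm]
  exact Finset.sum_congr rfl fun i _ => Finset.sum_congr rfl fun j _ => by ring

section Half

variable {κ : Type} [Fintype κ] [DecidableEq κ] (h2 : (2 : F) ≠ 0)
include h2

theorem pol_Qd (u v : κ → F) : pol (Qd (F := F) (κ := κ)) u v = u ⬝ᵥ v := by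
  show ((u + v) ⬝ᵥ (u + v)) / 2 - (u ⬝ᵥ u) / 2 - (v ⬝ᵥ v) / 2 = _
  rw [add_dotProduct, dotProduct_add, dotProduct_add, dotProduct_comm v u]
  field_simp
  ring

theorem nondeg_Qd : Geo.IsNondegenerateQuadraticForm (Qd (F := F) (κ := κ)) := by
  refine ⟨fun r v => ?_, ⟨fun x y v => ?_, fun r x v => ?_, fun v x y => ?_, fun r v x => ?_⟩, fun v hv => ?_⟩
  · show (r • v) ⬝ᵥ (r • v) / 2 = r ^ 2 * ((v ⬝ᵥ v) / 2)
    rw [smul_dotProduct, dotProduct_smul, smul_eq_mul, smul_eq_mul]; ring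
  · show pol Qd (x + y) v = pol Qd x v + pol Qd y v
    rw [pol_Qd h2, pol_Qd h2, pol_Qd h2, add_dotProduct]
  · show pol Qd (r • x) v = r * pol Qd x v
    rw [pol_Qd h2, pol_Qd h2, smul_dotProduct, smul_eq_mul]
  · show pol Qd v (x + y) = pol Qd v x + pol Qd v y
    rw [pol_Qd h2, pol_Qd h2, pol_Qd h2, dotProduct_add]
  · show pol Qd v (r • x) = r * pol Qd v x
    rw [pol_Qd h2, pol_Qd h2, dotProduct_smul, smul_eq_mul]
  · obtain ⟨i, hi⟩ := Function.ne_iff.1 hv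
    exact ⟨⟨Pi.single i 1, by show pol Qd _ v ≠ 0; rw [pol_Qd h2]; simpa using hi⟩,
      ⟨Pi.single i 1, by show pol Qd v _ ≠ 0; rw [pol_Qd h2]; simpa using hi⟩⟩

/-- Isometries preserve the dot product, and conversely. -/
theorem mem_iso {g : GL κ F} : g ∈ isometryGroup F (Qd (F := F) (κ := κ)) ↔ ∀ x y, mv g x ⬝ᵥ mv g y = x ⬝ᵥ y := by
  refine ⟨fun h x y => ?_, fun h => Transvec.Orth.mem_isometry.2 fun z => ?_⟩
  · rw [← pol_Qd h2, ← pol_Qd h2]; exact Transvec.Orth.pol_mv (nondeg_Qd h2) h x y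
  · show (mv g z ⬝ᵥ mv g z) / 2 = (z ⬝ᵥ z) / 2
    rw [h]

theorem iso_matrix {g : GL κ F} (h : g ∈ isometryGroup F (Qd (F := F) (κ := κ))) :
    (g : Matrix κ κ F)ᵀ * (g : Matrix κ κ F) = 1 := by
  ext a b
  have e := (mem_iso h2).1 h (Pi.single a 1) (Pi.single b 1)
  simp only [mv, Matrix.mulVec_single_one, single_one_dotProduct] at e
  rw [Matrix.one_apply, Matrix.mul_apply]
  rw [Pi.single_apply] at e
  simpa [dotProduct] using e

end Half

/-- The orthogonal group in dimension three. -/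
abbrev O3 (F : Type*) [Field F] : Subgroup (GL (Fin 3) F) := isometryGroup F (Qd (F := F) (κ := Fin 3))

/-- The rotation group in dimension three. -/
def SO3 (F : Type*) [Field F] : Subgroup (GL (Fin 3) F) :=
  O3 F ⊓ (Matrix.GeneralLinearGroup.det : GL (Fin 3) F →* Fˣ).ker

theorem mem_SO3 {A : GL (Fin 3) F} : A ∈ SO3 F ↔ A ∈ O3 F ∧ (A : Matrix (Fin 3) (Fin 3) F).det = 1 := by
  simp [SO3, Units.ext_iff]

theorem SO3.dot {A : GL (Fin 3) F} (h2 : (2 : F) ≠ 0) (hA : A ∈ SO3 F) (x y : Fin 3 → F) :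
    mv A x ⬝ᵥ mv A y = x ⬝ᵥ y := (mem_iso h2).1 (mem_SO3.1 hA).1 x y

/-! ### Half turns -/

/-- The matrix of the half turn about a. -/
def hhM (a : Fin 3 → F) : Matrix (Fin 3) (Fin 3) F := (2 / (a ⬝ᵥ a)) • vecMulVec a a - 1

theorem hhM_mulVec (a v : Fin 3 → F) : hhM a *ᵥ v = (2 * (a ⬝ᵥ v) / (a ⬝ᵥ a)) • a - v := by
  rw [hhM, Matrix.sub_mulVec, Matrix.one_mulVec, Matrix.smul_mulVec, Matrix.vecMulVec_mulVec]
  funext j
  simp only [Pi.sub_apply, Pi.smul_apply, smul_eq_mul, op_smul_eq_mul]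
  ring

theorem hhM_sq {a : Fin 3 → F} (ha : a ⬝ᵥ a ≠ 0) : hhM a * hhM a = 1 := by
  refine Matrix.ext_iff_mulVec.2 fun v => ?_
  rw [← Matrix.mulVec_mulVec, Matrix.one_mulVec, hhM_mulVec, hhM_mulVec, dotProduct_sub, dotProduct_smul,
    smul_eq_mul]
  funext j
  simp only [Pi.sub_apply, Pi.smul_apply, smul_eq_mul]
  field_simp
  ring

open Classical in
/-- The half turn about an anisotropic vector (the identity for isotropic ones). -/
noncomputable def hh (a : Fin 3 → F) : GL (Fin 3) F :=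
  if h : a ⬝ᵥ a ≠ 0 then ⟨hhM a, hhM a, hhM_sq h, hhM_sq h⟩ else 1

theorem hh_val {a : Fin 3 → F} (ha : a ⬝ᵥ a ≠ 0) : ((hh a : GL (Fin 3) F) : Matrix (Fin 3) (Fin 3) F) = hhM a := by
  rw [hh, dif_pos ha]

theorem mv_hh {a : Fin 3 → F} (ha : a ⬝ᵥ a ≠ 0) (v : Fin 3 → F) :
    mv (hh a) v = (2 * (a ⬝ᵥ v) / (a ⬝ᵥ a)) • a - v := by
  rw [mv, hh_val ha, hhM_mulVec]

theorem mv_hh_self {a : Fin 3 → F} (ha : a ⬝ᵥ a ≠ 0) : mv (hh a) a = a := by
  rw [mv_hh ha, mul_div_assoc, div_self ha, mul_one, two_smul]; abel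

theorem mv_hh_orth {a v : Fin 3 → F} (ha : a ⬝ᵥ a ≠ 0) (h : a ⬝ᵥ v = 0) : mv (hh a) v = -v := by
  rw [mv_hh ha, h, mul_zero, zero_div, zero_smul, zero_sub]

theorem hh_mul_self (a : Fin 3 → F) : (hh a : GL (Fin 3) F) * hh a = 1 := by
  by_cases ha : a ⬝ᵥ a ≠ 0
  · refine Units.ext ?_
    rw [Units.val_mul, hh_val ha, hhM_sq ha]; rfl
  · rw [hh, dif_neg ha, mul_one]

theorem hh_inv (a : Fin 3 → F) : (hh a : GL (Fin 3) F)⁻¹ = hh a := inv_eq_of_mul_eq_one_right (hh_mul_self a)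

theorem det_hh {a : Fin 3 → F} (ha : a ⬝ᵥ a ≠ 0) :
    ((hh a : GL (Fin 3) F) : Matrix (Fin 3) (Fin 3) F).det = 1 := by
  rw [hh_val ha]
  have hc : 2 / (a ⬝ᵥ a) * (a ⬝ᵥ a) = 2 := div_mul_cancel₀ 2 ha
  set c := 2 / (a ⬝ᵥ a) with hcd
  rw [dot3] at hc
  rw [hhM, ← hcd, Matrix.det_fin_three]
  simp only [Matrix.sub_apply, Matrix.smul_apply, Matrix.vecMulVec_apply, smul_eq_mul, Matrix.one_apply,
    Fin.reduceEq, if_true, if_false]
  linear_combination hc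

theorem hh_dot {a : Fin 3 → F} (ha : a ⬝ᵥ a ≠ 0) (x y : Fin 3 → F) :
    mv (hh a) x ⬝ᵥ mv (hh a) y = x ⬝ᵥ y := by
  rw [mv_hh ha, mv_hh ha]
  simp only [sub_dotProduct, dotProduct_sub, smul_dotProduct, dotProduct_smul, smul_eq_mul, dotProduct_comm x a]
  field_simp
  ring

theorem hh_mem (h2 : (2 : F) ≠ 0) (a : Fin 3 → F) : hh a ∈ SO3 F := by
  by_cases ha : a ⬝ᵥ a ≠ 0
  · exact mem_SO3.2 ⟨(mem_iso h2).2 (hh_dot ha), det_hh ha⟩
  · rw [hh, dif_neg ha]; exact Subgroup.one_mem _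

theorem hh_smul {t : F} (ht : t ≠ 0) (a : Fin 3 → F) : (hh (t • a) : GL (Fin 3) F) = hh a := by
  by_cases ha : a ⬝ᵥ a ≠ 0
  · have hta : (t • a) ⬝ᵥ (t • a) ≠ 0 := by
      rw [smul_dotProduct, dotProduct_smul, smul_eq_mul, smul_eq_mul]; exact mul_ne_zero ht (mul_ne_zero ht ha)
    refine ext_mv fun v => ?_
    rw [mv_hh hta, mv_hh ha]
    simp only [smul_dotProduct, dotProduct_smul, smul_eq_mul, smul_smul]
    congr 2
    field_simp
  · have hta : ¬ (t • a) ⬝ᵥ (t • a) ≠ 0 := by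
      rw [not_not] at ha ⊢
      rw [smul_dotProduct, dotProduct_smul, ha, smul_zero, smul_zero]
    rw [hh, dif_neg hta, hh, dif_neg ha]

theorem hh_neg (a : Fin 3 → F) : (hh (-a) : GL (Fin 3) F) = hh a := by
  rw [← neg_one_smul F a, hh_smul (neg_ne_zero.2 one_ne_zero)]

theorem hh_conj (h2 : (2 : F) ≠ 0) {A : GL (Fin 3) F} (hA : A ∈ O3 F) (a : Fin 3 → F) :
    A * hh a * A⁻¹ = hh (mv A a) := by
  have hd := (mem_iso h2).1 hA
  by_cases ha : a ⬝ᵥ a ≠ 0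
  · have hAa : mv A a ⬝ᵥ mv A a ≠ 0 := by rw [hd]; exact ha
    refine ext_mv fun v => ?_
    rw [mv_mul, mv_mul, mv_hh ha, mv_hh hAa, hd, mv_sub, mv_smul, mv_mv_inv]
    congr 2
    rw [← hd a (mv A⁻¹ v), mv_mv_inv]
  · have hAa : ¬ mv A a ⬝ᵥ mv A a ≠ 0 := by rw [hd]; exact ha
    rw [hh, dif_neg ha, hh, dif_neg hAa, mul_one, mul_inv_cancel]

theorem trace_hh {a : Fin 3 → F} (ha : a ⬝ᵥ a ≠ 0) :
    ((hh a : GL (Fin 3) F) : Matrix (Fin 3) (Fin 3) F).trace = -1 := by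
  rw [hh_val ha, hhM, Matrix.trace_sub, Matrix.trace_smul, Matrix.trace_vecMulVec, Matrix.trace_one, smul_eq_mul,
    div_mul_cancel₀ 2 ha]
  norm_num

theorem four_ne_zero' (h2 : (2 : F) ≠ 0) : (4 : F) ≠ 0 := by
  rw [show (4 : F) = 2 * 2 by norm_num]; exact mul_ne_zero h2 h2

theorem hh_ne_one (h2 : (2 : F) ≠ 0) {a : Fin 3 → F} (ha : a ⬝ᵥ a ≠ 0) : (hh a : GL (Fin 3) F) ≠ 1 := by
  intro h
  have := trace_hh ha
  rw [h, Units.val_one, Matrix.trace_one] at this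
  apply four_ne_zero' h2
  norm_num at this
  linear_combination this

theorem hh_eq_hh {a b : Fin 3 → F} (ha : a ⬝ᵥ a ≠ 0) (hb : b ⬝ᵥ b ≠ 0) (h2 : (2 : F) ≠ 0)
    (h : (hh a : GL (Fin 3) F) = hh b) : ∃ t : F, t ≠ 0 ∧ a = t • b := by
  have e := mv_hh_self ha
  rw [h, mv_hh hb, sub_eq_iff_eq_add] at e
  refine ⟨(b ⬝ᵥ a) / (b ⬝ᵥ b), fun h0 => ha ?_, ?_⟩
  · have : (2 : F) • a = 0 := by
      rw [two_smul, ← e, mul_div_assoc, h0, mul_zero, zero_smul]
    rw [(smul_eq_zero.1 this).resolve_left h2, dotProduct_zero]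
  · refine smul_right_injective (Fin 3 → F) h2 ?_
    show (2 : F) • a = (2 : F) • _
    rw [two_smul, ← e, smul_smul, mul_div_assoc]

theorem hh_comm (h2 : (2 : F) ≠ 0) {a : Fin 3 → F} (ha : a ⬝ᵥ a ≠ 0) {A : GL (Fin 3) F} (hA : A ∈ O3 F)
    (h : A * hh a = hh a * A) : mv A a = a ∨ mv A a = -a := by
  have e : (hh (mv A a) : GL (Fin 3) F) = hh a := by
    rw [← hh_conj h2 hA, h, mul_inv_cancel_right]
  have hAa : mv A a ⬝ᵥ mv A a = a ⬝ᵥ a := (mem_iso h2).1 hA a a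
  obtain ⟨t, -, ht⟩ := hh_eq_hh (hAa ▸ ha) ha h2 e
  rw [ht, smul_dotProduct, dotProduct_smul, smul_eq_mul, smul_eq_mul, ← mul_assoc] at hAa
  rcases mul_self_eq_one_iff.1 (mul_right_cancel₀ ha (hAa.trans (one_mul _).symm)) with h | h
  · left; rw [ht, h, one_smul]
  · right; rw [ht, h, neg_one_smul]

theorem hh_comm_hh (h2 : (2 : F) ≠ 0) {a b : Fin 3 → F} (ha : a ⬝ᵥ a ≠ 0) (hb : b ⬝ᵥ b ≠ 0)
    (h : (hh a : GL (Fin 3) F) * hh b = hh b * hh a) : (∃ t : F, t ≠ 0 ∧ b = t • a) ∨ a ⬝ᵥ b = 0 := by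
  rcases hh_comm h2 hb (mem_SO3.1 (hh_mem h2 a)).1 h with e | e
  · rw [mv_hh ha, sub_eq_iff_eq_add] at e
    left
    refine ⟨(a ⬝ᵥ b) / (a ⬝ᵥ a), fun h0 => hb ?_, ?_⟩
    · have : (2 : F) • b = 0 := by rw [two_smul, ← e, mul_div_assoc, h0, mul_zero, zero_smul]
      rw [(smul_eq_zero.1 this).resolve_left h2, dotProduct_zero]
    · refine smul_right_injective (Fin 3 → F) h2 ?_
      show (2 : F) • b = (2 : F) • _
      rw [two_smul, ← e, smul_smul, mul_div_assoc]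
  · right
    rw [mv_hh ha, sub_eq_iff_eq_add, neg_add_cancel, smul_eq_zero] at e
    rcases e with e | e
    · rw [div_eq_zero_iff, mul_eq_zero] at e
      exact (e.resolve_right ha).resolve_left h2
    · rw [e, zero_dotProduct]

theorem mv_hh_ee (i : Fin 3) (v : Fin 3 → F) :
    mv (hh (ee i)) v = fun j => if j = i then v j else -v j := by
  rw [mv_hh (by rw [ee_self]; exact one_ne_zero), ee_self, ee_dot, div_one]
  funext j
  by_cases h : j = i
  · subst h; simp [ee_apply]; ring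
  · simp [ee_apply, h]

/-! ### Block diagonal maps -/

/-- The block diagonal matrix with blocks indexed by the first coordinate. -/
def dgm (G : Fin 3 → Matrix (Fin 3) (Fin 3) F) : Matrix (Fin 3 × Fin 3) (Fin 3 × Fin 3) F :=
  fun p q => if p.1 = q.1 then G p.1 p.2 q.2 else 0

theorem dgm_mulVec (G : Fin 3 → Matrix (Fin 3) (Fin 3) F) (x : Fin 3 × Fin 3 → F) (p : Fin 3 × Fin 3) :
    (dgm G *ᵥ x) p = (G p.1 *ᵥ fun l => x (p.1, l)) p.2 := by
  simp only [Matrix.mulVec, dotProduct, Fintype.sum_prod_type, dgm]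
  rw [Finset.sum_eq_single p.1]
  · simp
  · intro b _ hb; simp [Ne.symm hb]
  · simp

/-- The block diagonal map as a monoid homomorphism on matrices. -/
def dgMon : (Fin 3 → Matrix (Fin 3) (Fin 3) F) →* Matrix (Fin 3 × Fin 3) (Fin 3 × Fin 3) F where
  toFun := dgm
  map_one' := by
    ext ⟨i, j⟩ ⟨k, l⟩
    by_cases h : i = k <;> simp [dgm, Matrix.one_apply, h]
  map_mul' G H := by
    refine Matrix.ext_iff_mulVec.2 fun x => ?_
    funext p
    rw [← Matrix.mulVec_mulVec, dgm_mulVec, dgm_mulVec, Pi.mul_apply, ← Matrix.mulVec_mulVec]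
    congr 1
    funext l
    rw [dgm_mulVec]

/-- The block diagonal embedding. -/
def dg : (Fin 3 → GL (Fin 3) F) →* GL (Fin 3 × Fin 3) F where
  toFun G := ⟨dgMon fun i => (G i : Matrix (Fin 3) (Fin 3) F),
    dgMon fun i => ((G i)⁻¹ : GL (Fin 3) F),
    by rw [← map_mul, ← map_one dgMon]; congr 1; funext i; exact (G i).mul_inv,
    by rw [← map_mul, ← map_one dgMon]; congr 1; funext i; exact (G i).inv_mul⟩
  map_one' := Units.ext (by show dgMon _ = _; rw [Units.val_one, ← map_one dgMon]; rfl)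
  map_mul' G H := Units.ext (by show dgMon _ = dgMon _ * dgMon _; rw [← map_mul]; rfl)

theorem mv_dg (G : Fin 3 → GL (Fin 3) F) (x : Fin 3 × Fin 3 → F) (p : Fin 3 × Fin 3) :
    mv (dg G) x p = mv (G p.1) (fun l => x (p.1, l)) p.2 :=
  dgm_mulVec (fun i => (G i : Matrix (Fin 3) (Fin 3) F)) x p

theorem mv_dg_ten (G : Fin 3 → GL (Fin 3) F) (i : Fin 3) (w : Fin 3 → F) :
    mv (dg G) (ten (ee i) w) = ten (ee i) (mv (G i) w) := by
  funext ⟨k, j⟩
  rw [mv_dg, ten_apply]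
  by_cases h : k = i
  · subst h; simp [ten, ee_apply]
  · simp only [ten, ee_apply, h, if_false, zero_mul]
    rw [show (fun _ : Fin 3 => (0 : F)) = 0 from rfl, mv_zero]; rfl

theorem dg_inj {G H : Fin 3 → GL (Fin 3) F} (h : dg G = dg H) : G = H := by
  funext i
  refine ext_mv fun w => ?_
  have e := congrArg (fun g => mv g (ten (ee i) w)) h
  simp only [mv_dg_ten] at e
  funext j
  simpa [ten, ee_apply] using congrFun e (i, j)

theorem dg_iso (h2 : (2 : F) ≠ 0) {G : Fin 3 → GL (Fin 3) F} :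
    dg G ∈ isometryGroup F (Qd (F := F) (κ := Fin 3 × Fin 3)) ↔ ∀ i, G i ∈ O3 F := by
  refine ⟨fun h i => (mem_iso h2).2 fun w z => ?_, fun h => (mem_iso h2).2 fun x y => ?_⟩
  · have e := (mem_iso h2).1 h (ten (ee i) w) (ten (ee i) z)
    simpa [mv_dg_ten, ten_dot, ee_self] using e
  · simp only [dotProduct, Fintype.sum_prod_type, mv_dg]
    refine Finset.sum_congr rfl fun i _ => ?_
    exact (mem_iso h2).1 (h i) _ _

theorem kr_eq_dg (B : GL (Fin 3) F) : kr (1 : GL (Fin 3) F) B = dg fun _ => B := by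
  refine ext_ten_mv fun u w => ?_
  funext ⟨i, j⟩
  rw [mv_kr_ten, mv_one, mv_dg]
  show u i * mv B w j = mv B (fun l => u i * w l) j
  rw [show (fun l => u i * w l) = u i • w from rfl, mv_smul]; rfl

/-! ### The swap of the two factors -/

/-- The matrix of the swap. -/
def swM : Matrix (Fin 3 × Fin 3) (Fin 3 × Fin 3) F := fun p q => if q = p.swap then 1 else 0

theorem swM_mulVec (x : Fin 3 × Fin 3 → F) (p : Fin 3 × Fin 3) : (swM *ᵥ x) p = x p.swap := by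
  simp [Matrix.mulVec, dotProduct, swM]

theorem swM_sq : (swM * swM : Matrix (Fin 3 × Fin 3) (Fin 3 × Fin 3) F) = 1 := by
  refine Matrix.ext_iff_mulVec.2 fun x => funext fun p => ?_
  rw [← Matrix.mulVec_mulVec, swM_mulVec, swM_mulVec, Matrix.one_mulVec, Prod.swap_swap]

/-- The swap of the two factors. -/
def sw : GL (Fin 3 × Fin 3) F := ⟨swM, swM, swM_sq, swM_sq⟩

theorem mv_sw (x : Fin 3 × Fin 3 → F) (p : Fin 3 × Fin 3) : mv (sw : GL (Fin 3 × Fin 3) F) x p = x p.swap :=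
  swM_mulVec x p

theorem mv_sw_ten (u w : Fin 3 → F) : mv (sw : GL (Fin 3 × Fin 3) F) (ten u w) = ten w u := by
  funext ⟨i, j⟩
  rw [mv_sw]
  show u j * w i = w i * u j
  rw [mul_comm]

theorem sw_mul_self : (sw : GL (Fin 3 × Fin 3) F) * sw = 1 := Units.ext swM_sq

theorem sw_inv : (sw : GL (Fin 3 × Fin 3) F)⁻¹ = sw := inv_eq_of_mul_eq_one_right sw_mul_self

theorem sw_iso (h2 : (2 : F) ≠ 0) : (sw : GL (Fin 3 × Fin 3) F) ∈ isometryGroup F (Qd (F := F) (κ := Fin 3 × Fin 3)) := by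
  refine (mem_iso h2).2 fun x y => ?_
  simp only [dotProduct, mv_sw]
  exact Equiv.sum_comp (Equiv.prodComm (Fin 3) (Fin 3)) fun p => x p * y p

theorem sw_kr (A B : GL (Fin 3) F) : sw * kr A B * sw = kr B A := by
  refine ext_ten_mv fun u w => ?_
  rw [mv_mul, mv_mul, mv_sw_ten, mv_kr_ten, mv_sw_ten, mv_kr_ten]

theorem kr_mul (A A' B B' : GL (Fin 3) F) : kr A B * kr A' B' = kr (A * A') (B * B') :=
  ext_ten_mv fun u w => by simp [mv_mul, mv_kr_ten]

theorem kr_one : kr (1 : GL (Fin 3) F) (1 : GL (Fin 3) F) = 1 :=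
  ext_ten_mv fun u w => by simp [mv_kr_ten, mv_one]

theorem kr_inv (A B : GL (Fin 3) F) : (kr A B)⁻¹ = kr A⁻¹ B⁻¹ :=
  inv_eq_of_mul_eq_one_right (by rw [kr_mul, mul_inv_cancel, mul_inv_cancel, kr_one])

theorem trace_kr (A B : GL (Fin 3) F) : ((kr A B : GL (Fin 3 × Fin 3) F) : Matrix (Fin 3 × Fin 3) (Fin 3 × Fin 3) F).trace =
    (A : Matrix (Fin 3) (Fin 3) F).trace * (B : Matrix (Fin 3) (Fin 3) F).trace :=
  Matrix.trace_kronecker _ _

theorem trace_kr_sw (A B : GL (Fin 3) F) :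
    ((kr A B * sw : GL (Fin 3 × Fin 3) F) : Matrix (Fin 3 × Fin 3) (Fin 3 × Fin 3) F).trace =
      ((A * B : GL (Fin 3) F) : Matrix (Fin 3) (Fin 3) F).trace := by
  rw [Units.val_mul]
  show ((A : Matrix (Fin 3) (Fin 3) F) ⊗ₖ (B : Matrix (Fin 3) (Fin 3) F) * swM).trace = _
  simp only [Matrix.trace, Matrix.diag, Matrix.mul_apply, Units.val_mul, Fintype.sum_prod_type, swM,
    Matrix.kroneckerMap_apply]
  refine Finset.sum_congr rfl fun i _ => ?_
  refine Finset.sum_congr rfl fun j _ => ?_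
  simp [Prod.ext_iff, ite_and]

theorem trace_conj {κ : Type} [Fintype κ] [DecidableEq κ] (g x : GL κ F) :
    ((g * x * g⁻¹ : GL κ F) : Matrix κ κ F).trace = (x : Matrix κ κ F).trace := by
  rw [Units.val_mul, Matrix.trace_mul_comm, ← Units.val_mul, inv_mul_cancel_left]

/-- The diagonal signs of a half turn about a basis vector. -/
theorem kr_hh_dg (i : Fin 3) : kr (hh (ee i)) (1 : GL (Fin 3) F) = dg fun k => if k = i then (1 : GL (Fin 3) F) else -1 := by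
  refine ext_ten_mv fun u w => ?_
  funext ⟨k, j⟩
  rw [mv_kr_ten, mv_one, mv_dg, mv_hh_ee]
  by_cases h : k = i
  · simp [ten, h, mv_one]
  · show (if k = i then u k else -u k) * w j = mv (if k = i then (1 : GL (Fin 3) F) else -1) (fun l => u k * w l) j
    simp [h, mv, Matrix.neg_mulVec]

end Cfsg.Agent.TensorSquare
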