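/-
The commutator subgroup and the factor half turns.
-/
import Cfsg.Agent.Lib.TensorSquare.Forms

set_option autoImplicit false
set_option linter.unusedSectionVars false

namespace Cfsg.Agent.TensorSquare

open scoped Matrix Kronecker
open Matrix Cfsg.Agent.Transvec Cfsg.Agent.TensorMax
open Cfsg.Agent.TensorMax.U (kr mv_kr_ten isKron_kr isKron_mul isKron_inv mv_kron_ten ext_ten_mv)
open Cfsg.Agent.Transvec.Orth (pol IsSiegel)
open Cfsg.Agent.Orth (SqCls sqc SpinVal)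

variable {F : Type*} [Field F]

/-- The isometry group of the tensor square. -/
abbrev O9 (F : Type*) [Field F] : Subgroup (GL (Fin 3 × Fin 3) F) :=
  isometryGroup F (Qd (F := F) (κ := Fin 3 × Fin 3))

/-- Its commutator subgroup. -/
abbrev Om (F : Type*) [Field F] : Subgroup (GL (Fin 3 × Fin 3) F) :=
  Geo.omegaGL (Qd (F := F) (κ := Fin 3 × Fin 3))

theorem om_le (h2 : (2 : F) ≠ 0) {g : GL (Fin 3 × Fin 3) F} (h : g ∈ Om F) : g ∈ O9 F :=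
  Transvec.Orth.omega_le_isometry (nondeg_Qd h2) h

variable [Fintype F]

theorem exists_spin (h2 : (2 : F) ≠ 0) :
    ∃ χ : ↥(O9 F) →* SpinVal F, (∀ x : ↥(O9 F), (x : GL (Fin 3 × Fin 3) F) ∈ Om F ↔ χ x = 1) ∧
      (∀ x : ↥(O9 F), ((x : GL (Fin 3 × Fin 3) F) : Matrix (Fin 3 × Fin 3) (Fin 3 × Fin 3) F).det = 1 →
        (χ x).1 = 1) ∧
      (∀ x : ↥(O9 F), (χ x).1 = 1 →
        ((x : GL (Fin 3 × Fin 3) F) : Matrix (Fin 3 × Fin 3) (Fin 3 × Fin 3) F).det = 1) ∧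
      ∀ a : Fin 3 × Fin 3 → F, a ⬝ᵥ a ≠ 0 → ∃ r : ↥(O9 F),
        χ r = (Multiplicative.ofAdd 1, sqc F ((a ⬝ᵥ a) / 2)) ∧
        ∀ y, mv (r : GL (Fin 3 × Fin 3) F) y = y - (2 * (y ⬝ᵥ a) / (a ⬝ᵥ a)) • a := by
  classical
  have hQ := nondeg_Qd (κ := Fin 3 × Fin 3) h2
  have hcard : 2 ≤ Fintype.card (Fin 3 × Fin 3) := by simp
  have hq : Fintype.card F ≠ 2 ∨ Fintype.card (Fin 3 × Fin 3) ≠ 4 := Or.inr (by simp)
  obtain ⟨χ, hker, hdet, hχ⟩ : ∃ χ : ↥(O9 F) →* SpinVal F, χ.ker = Omega F Qd ∧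
      (∀ x : ↥(O9 F), ((x : GL (Fin 3 × Fin 3) F) : Matrix (Fin 3 × Fin 3) (Fin 3 × Fin 3) F).det =
        Cfsg.Agent.Orth.sgn F (Multiplicative.toAdd (χ x).1)) ∧
      ∀ (x : ↥(O9 F)) (v : Fin 3 × Fin 3 → F), Qd v ≠ 0 →
        ((x : GL (Fin 3 × Fin 3) F) : Matrix (Fin 3 × Fin 3) (Fin 3 × Fin 3) F) = Cfsg.reflectionMatrix Qd v →
        χ x = (Multiplicative.ofAdd 1, sqc F (Qd v)) := by
    obtain ⟨χ, hker, -, hχ⟩ :=
      Cfsg.Agent.Orth.exists_matrix_spinor (OrthEvenMax.qMap hQ) (OrthEvenMax.qMap_nondeg hQ) hcard hq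
    exact ⟨χ, hker, Cfsg.Agent.Orth.det_eq_sgn _ (OrthEvenMax.qMap_nondeg hQ) hq χ hχ, hχ⟩
  refine ⟨χ, fun x => ⟨?_, fun h => ?_⟩, fun x hx => ?_, fun x hx => ?_, fun a ha => ?_⟩
  · rintro ⟨x', hx', he⟩
    rw [← Subtype.ext he, ← MonoidHom.mem_ker, hker]
    exact hx'
  · refine ⟨x, ?_, rfl⟩
    show x ∈ Omega F _
    have := MonoidHom.mem_ker.2 h
    rw [hker] at this
    exact this
  · have h := hdet x
    rw [hx] at h
    rcases (show ∀ z : Multiplicative (ZMod 2), z = 1 ∨ z = Multiplicative.ofAdd 1 by decide) (χ x).1 with e | e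
    · exact e
    · rw [e, toAdd_ofAdd, Cfsg.Agent.Orth.sgn, if_neg (by decide)] at h
      exact absurd (by linear_combination h) h2
  · rw [hdet x, hx, toAdd_one, Cfsg.Agent.Orth.sgn, if_pos rfl]
  · have hQa : Qd a ≠ 0 := div_ne_zero ha h2
    obtain ⟨r, hr, hr'⟩ := Transvec.Orth.exists_refl hQ hQa
    refine ⟨⟨r, hr⟩, hχ ⟨r, hr⟩ _ hQa (Matrix.ext_iff_mulVec.2 fun y => ?_), fun y => ?_⟩
    · rw [show Cfsg.reflectionMatrix Qd a = Cfsg.reflectionMatrix (⇑(OrthEvenMax.qMap hQ)) a from rfl,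
        Cfsg.Agent.Orth.reflectionMatrix_mulVec]
      exact hr'.2 y
    · rw [hr'.2 y, pol_Qd h2]
      congr 2
      show (y ⬝ᵥ a) / ((a ⬝ᵥ a) / 2) = _
      field_simp

theorem det_om (h2 : (2 : F) ≠ 0) {g : GL (Fin 3 × Fin 3) F} (h : g ∈ Om F) :
    (g : Matrix (Fin 3 × Fin 3) (Fin 3 × Fin 3) F).det = 1 := by
  obtain ⟨χ, hom, -, hd, -⟩ := exists_spin (F := F) h2
  exact hd ⟨g, om_le h2 h⟩ (by rw [(hom ⟨g, om_le h2 h⟩).1 h]; rfl)

theorem om_conj (h2 : (2 : F) ≠ 0) {g x : GL (Fin 3 × Fin 3) F} (hg : g ∈ O9 F) (hx : x ∈ Om F) :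
    g * x * g⁻¹ ∈ Om F := by
  obtain ⟨χ, hom, -, -, -⟩ := exists_spin (F := F) h2
  obtain ⟨G, hG⟩ : ∃ G : ↥(O9 F), (G : GL (Fin 3 × Fin 3) F) = g := ⟨⟨g, hg⟩, rfl⟩
  obtain ⟨X, hX⟩ : ∃ X : ↥(O9 F), (X : GL (Fin 3 × Fin 3) F) = x := ⟨⟨x, om_le h2 hx⟩, rfl⟩
  have h1 := (hom X).1 (hX.symm ▸ hx)
  rw [← hG, ← hX, ← Subgroup.coe_inv, ← Subgroup.coe_mul, ← Subgroup.coe_mul, hom]
  rw [map_mul, map_mul, h1, mul_one, ← map_mul, mul_inv_cancel, map_one]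

theorem om_conj_iff (h2 : (2 : F) ≠ 0) {g x : GL (Fin 3 × Fin 3) F} (hg : g ∈ O9 F) :
    g * x * g⁻¹ ∈ Om F ↔ x ∈ Om F := by
  refine ⟨fun h => ?_, om_conj h2 hg⟩
  simpa [mul_assoc] using om_conj h2 ((O9 F).inv_mem hg) h

theorem om_mul_of_not (h2 : (2 : F) ≠ 0) {g h : GL (Fin 3 × Fin 3) F} (hg : g ∈ O9 F) (hh : h ∈ O9 F)
    (dg : (g : Matrix (Fin 3 × Fin 3) (Fin 3 × Fin 3) F).det = 1)
    (dh : (h : Matrix (Fin 3 × Fin 3) (Fin 3 × Fin 3) F).det = 1)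
    (ng : g ∉ Om F) (nh : h ∉ Om F) : g * h ∈ Om F := by
  obtain ⟨χ, hom, hd, -, -⟩ := exists_spin (F := F) h2
  have key : ∀ x : ↥(O9 F), (x : GL (Fin 3 × Fin 3) F) ∉ Om F →
      ((x : GL (Fin 3 × Fin 3) F) : Matrix (Fin 3 × Fin 3) (Fin 3 × Fin 3) F).det = 1 → (χ x).2 ≠ 1 :=
    fun x hx hdx e => hx ((hom x).2 (Prod.ext (hd x hdx) e))
  rw [show g * h = (((⟨g, hg⟩ : ↥(O9 F)) * ⟨h, hh⟩ : ↥(O9 F)) : GL (Fin 3 × Fin 3) F) from rfl, hom, map_mul]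
  refine Prod.ext (by rw [Prod.fst_mul, hd _ dg, hd _ dh]; rfl) ?_
  rw [Prod.snd_mul]
  show (χ ⟨g, hg⟩).2 * (χ ⟨h, hh⟩).2 = 1
  haveI : Finite (SqCls F) := inferInstance
  have h2c := (Cfsg.Agent.Orth.card_sqCls_le (F := F)).2.1 h2
  classical
  haveI : Fintype (SqCls F) := Fintype.ofFinite _
  rw [Nat.card_eq_fintype_card] at h2c
  have e1 := key ⟨g, hg⟩ ng dg
  have e2 := key ⟨h, hh⟩ nh dh
  generalize (χ ⟨g, hg⟩).2 = a at e1 ⊢
  generalize (χ ⟨h, hh⟩).2 = b at e2 ⊢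
  by_contra hab
  have h3 : ({1, a, a * b} : Finset (SqCls F)).card = 3 := by
    rw [Finset.card_eq_three]
    exact ⟨1, a, a * b, fun e => e1 e.symm, fun e => hab e.symm, fun e => e2 (mul_eq_left.1 e.symm), rfl⟩
  have := Finset.card_le_univ ({1, a, a * b} : Finset (SqCls F))
  omega

theorem neg_one_spin (h2 : (2 : F) ≠ 0) :
    ∃ x : ↥(O9 F), (x : GL (Fin 3 × Fin 3) F) = -1 ∧
      ∀ χ : ↥(O9 F) →* SpinVal F,
        (∀ a : Fin 3 × Fin 3 → F, a ⬝ᵥ a ≠ 0 → ∃ r : ↥(O9 F),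
          χ r = (Multiplicative.ofAdd 1, sqc F ((a ⬝ᵥ a) / 2)) ∧
          ∀ y, mv (r : GL (Fin 3 × Fin 3) F) y = y - (2 * (y ⬝ᵥ a) / (a ⬝ᵥ a)) • a) →
        (χ x).2 = sqc F (1 / 2) := by
  classical
  have hm : (-1 : GL (Fin 3 × Fin 3) F) ∈ O9 F := (mem_iso h2).2 fun x y => by
    simp [mv, Matrix.neg_mulVec]
  refine ⟨⟨-1, hm⟩, rfl, fun χ hχ => ?_⟩
  have hb : ∀ p : Fin 3 × Fin 3, (Pi.single p 1 : Fin 3 × Fin 3 → F) ⬝ᵥ Pi.single p 1 = 1 := fun p => by simp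
  have : ∀ T : Finset (Fin 3 × Fin 3), ∃ x : ↥(O9 F), (χ x).2 = sqc F (1 / 2) ^ T.card ∧
      ∀ y q, mv (x : GL (Fin 3 × Fin 3) F) y q = if q ∈ T then -y q else y q := by
    intro T
    induction T using Finset.induction_on with
    | empty => exact ⟨1, by rw [map_one]; simp, fun y q => by simp [mv_one]⟩
    | insert p T hp ih =>
      obtain ⟨x, hx, hxy⟩ := ih
      obtain ⟨r, hr, hry⟩ := hχ (Pi.single p 1) (by rw [hb]; exact one_ne_zero)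
      refine ⟨r * x, ?_, fun y q => ?_⟩
      · rw [map_mul, Prod.snd_mul, hr, hx, hb, Finset.card_insert_of_notMem hp, pow_succ']
      · rw [Subgroup.coe_mul, mv_mul, hry, hb]
        simp only [dotProduct_single, mul_one, div_one, Pi.sub_apply, Pi.smul_apply, smul_eq_mul, Pi.single_apply,
          hxy, hp, if_false, Finset.mem_insert]
        by_cases hq : q = p
        · subst hq; simp [hp]; ring
        · simp [hq]
  obtain ⟨x, hx, hxy⟩ := this Finset.univ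
  have e : (⟨-1, hm⟩ : ↥(O9 F)) = x := Subtype.ext (ext_mv fun y => funext fun q => by
    rw [hxy]; simp [mv, Matrix.neg_mulVec])
  rw [e, hx, Finset.card_univ, Fintype.card_prod, Fintype.card_fin]
  have := Cfsg.Agent.Orth.sqc_mul_self (F := F) (c := 1 / 2) (div_ne_zero one_ne_zero h2)
  rw [show 3 * 3 = 2 * 4 + 1 from rfl, pow_succ, pow_mul, pow_two, this, one_pow, one_mul]

/-- A factor half turn lies in the commutator subgroup exactly for square values. -/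
theorem hL_iff (h2 : (2 : F) ≠ 0) {a : Fin 3 → F} (ha : a ⬝ᵥ a ≠ 0) :
    kr (hh a) (1 : GL (Fin 3) F) ∈ Om F ↔ IsSquare (a ⬝ᵥ a) := by
  classical
  obtain ⟨χ, hom, hd, hd', hχ⟩ := exists_spin (F := F) h2
  obtain ⟨m, hm, hmv⟩ := neg_one_spin (F := F) h2
  have hT : ∀ i : Fin 3, ten a (ee i) ⬝ᵥ ten a (ee i) = a ⬝ᵥ a := fun i => by
    rw [ten_dot, ee_self, mul_one]
  have : ∀ T : Finset (Fin 3), ∃ x : ↥(O9 F), (χ x).2 = sqc F ((a ⬝ᵥ a) / 2) ^ T.card ∧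
      ∀ u w, mv (x : GL (Fin 3 × Fin 3) F) (ten u w) =
        ten u w - (2 * (u ⬝ᵥ a) / (a ⬝ᵥ a)) • ten a (fun j => if j ∈ T then w j else 0) := by
    intro T
    induction T using Finset.induction_on with
    | empty => exact ⟨1, by rw [map_one]; simp, fun u w => by
        simp [mv_one, show (fun _ : Fin 3 => (0 : F)) = 0 from rfl, ten_zero_right]⟩
    | insert i T hi ih =>
      obtain ⟨x, hx, hxy⟩ := ih
      obtain ⟨r, hr, hry⟩ := hχ (ten a (ee i)) (by rw [hT]; exact ha)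
      refine ⟨r * x, ?_, fun u w => ?_⟩
      · rw [map_mul, Prod.snd_mul, hr, hx, hT, Finset.card_insert_of_notMem hi, pow_succ']
      · rw [Subgroup.coe_mul, mv_mul, hry, hxy, hT, sub_dotProduct, smul_dotProduct, ten_dot, ten_dot, dot_ee,
          dot_ee]
        funext ⟨k, j⟩
        simp only [hi, if_false, mul_zero, smul_zero, sub_zero, Pi.sub_apply, Pi.smul_apply, ten_apply,
          smul_eq_mul, Finset.mem_insert, ee_apply]
        by_cases hj : j = i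
        · subst hj; simp [hi]; ring
        · simp [hj]
  obtain ⟨x, hx, hxy⟩ := this Finset.univ
  have hval : ((m * x : ↥(O9 F)) : GL (Fin 3 × Fin 3) F) = kr (hh a) 1 := ext_ten_mv fun u w => by
    rw [Subgroup.coe_mul, mv_mul, hm, hxy, mv_kr_ten, mv_one, mv_hh ha,
      show (fun j => if j ∈ (Finset.univ : Finset (Fin 3)) then w j else 0) = w from funext fun j => by simp,
      ten_sub_left, ten_smul_left, dotProduct_comm a u]
    simp [mv, Matrix.neg_mulVec]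
  have hdet : ((kr (hh a) (1 : GL (Fin 3) F) : GL (Fin 3 × Fin 3) F) :
      Matrix (Fin 3 × Fin 3) (Fin 3 × Fin 3) F).det = 1 := by
    show Matrix.det (Matrix.kroneckerMap (· * ·) ((hh a : GL (Fin 3) F) : Matrix (Fin 3) (Fin 3) F)
      ((1 : GL (Fin 3) F) : Matrix (Fin 3) (Fin 3) F)) = 1
    rw [Matrix.det_kronecker, det_hh ha, Units.val_one, Matrix.det_one]
    simp
  rw [← hval] at hdet
  rw [← hval, hom]
  have h1 : (χ (m * x)).2 = sqc F (a ⬝ᵥ a) := by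
    have hhalf : (1 / 2 : F) ≠ 0 := div_ne_zero one_ne_zero h2
    rw [map_mul, Prod.snd_mul, hmv χ hχ, hx, Finset.card_univ, Fintype.card_fin, pow_succ, pow_two,
      Cfsg.Agent.Orth.sqc_mul_self (div_ne_zero ha h2), one_mul, div_eq_mul_one_div (a ⬝ᵥ a) 2,
      Cfsg.Agent.Orth.sqc_mul ha hhalf, ← mul_assoc, mul_comm (sqc F (1 / 2)) (sqc F (a ⬝ᵥ a)), mul_assoc,
      Cfsg.Agent.Orth.sqc_mul_self hhalf, mul_one]
  rw [← Cfsg.Agent.Orth.sqc_eq_one_iff ha, ← h1]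
  exact ⟨fun h => by rw [h]; rfl, fun h => Prod.ext (hd _ hdet) h⟩

end Cfsg.Agent.TensorSquare
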