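/-
Kronecker products with two equal factors, their involutions, and moves of half turns.
-/
import Cfsg.Agent.Lib.TensorSquare.Spin

set_option autoImplicit false
set_option linter.unusedSectionVars false

namespace Cfsg.Agent.TensorSquare

open scoped Matrix Kronecker
open Matrix Cfsg.Agent.Transvec Cfsg.Agent.TensorMax
open Cfsg.Agent.TensorMax.U (kr mv_kr_ten isKron_kr isKron_mul isKron_inv mv_kron_ten ext_ten_mv)
open Cfsg.Agent.Transvec.Orth (pol IsSiegel)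

variable {F : Type*} [Field F]

/-- A product of a Kronecker product and possibly the swap. -/
def InK (g : GL (Fin 3 × Fin 3) F) : Prop := IsKron g ∨ IsKron (g * sw)

theorem kron_eq {g : GL (Fin 3 × Fin 3) F} (h : IsKron g) : ∃ A B : GL (Fin 3) F, g = kr A B := by
  obtain ⟨A, B, h⟩ := h
  exact ⟨A, B, Units.ext h⟩

theorem kron_sw {g : GL (Fin 3 × Fin 3) F} (h : IsKron g) : IsKron (sw * g * sw) := by
  obtain ⟨A, B, rfl⟩ := kron_eq h
  rw [sw_kr]; exact isKron_kr _ _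

theorem inK_kr (A B : GL (Fin 3) F) : InK (kr A B) := Or.inl (isKron_kr A B)

theorem inK_sw : InK (sw : GL (Fin 3 × Fin 3) F) := Or.inr (by rw [sw_mul_self, ← kr_one]; exact isKron_kr _ _)

theorem inK_mul {g h : GL (Fin 3 × Fin 3) F} (hg : InK g) (hh : InK h) : InK (g * h) := by
  have e : ∀ x : GL (Fin 3 × Fin 3) F, x * sw * sw = x := fun x => by rw [mul_assoc, sw_mul_self, mul_one]
  rcases hg with hg | hg <;> rcases hh with hh | hh
  · exact Or.inl (isKron_mul hg hh)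
  · exact Or.inr (by rw [mul_assoc]; exact isKron_mul hg hh)
  · refine Or.inr ?_
    have := isKron_mul hg (kron_sw hh)
    rwa [show g * sw * (sw * h * sw) = g * (sw * sw) * h * sw by group, sw_mul_self, mul_one] at this
  · refine Or.inl ?_
    have := isKron_mul hg (kron_sw hh)
    rwa [show g * sw * (sw * (h * sw) * sw) = g * (sw * sw) * h * (sw * sw) by group, sw_mul_self, mul_one,
      mul_one] at this

theorem inK_inv {g : GL (Fin 3 × Fin 3) F} (hg : InK g) : InK g⁻¹ := by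
  rcases hg with hg | hg
  · exact Or.inl (isKron_inv hg)
  · refine Or.inr ?_
    have := kron_sw (isKron_inv hg)
    rwa [_root_.mul_inv_rev, sw_inv, ← mul_assoc, sw_mul_self, one_mul] at this

theorem inK_neg {g : GL (Fin 3 × Fin 3) F} (hg : InK g) : InK (-g) := by
  have hn : (-1 : GL (Fin 3 × Fin 3) F) = kr (-1 : GL (Fin 3) F) (1 : GL (Fin 3) F) := ext_ten_mv fun u w => by
    simp [mv_kr_ten, mv, Matrix.neg_mulVec, ten_neg_left]
  rw [← neg_one_mul, hn]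
  exact inK_mul (inK_kr _ _) hg

theorem inK_conj {g x : GL (Fin 3 × Fin 3) F} (hg : InK g) : InK (g * x * g⁻¹) ↔ InK x := by
  refine ⟨fun h => ?_, fun h => inK_mul (inK_mul hg h) (inK_inv hg)⟩
  have := inK_mul (inK_mul (inK_inv hg) h) hg
  simpa [mul_assoc] using this

theorem ten_eq {u u' w w' : Fin 3 → F} (hw : w ≠ 0) (h : ten u w = ten u' w') : ∃ c : F, u = c • u' := by
  obtain ⟨j, hj⟩ := Function.ne_iff.1 hw
  refine ⟨w' j / w j, funext fun i => ?_⟩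
  have e := congrFun h (i, j)
  simp only [ten] at e
  rw [Pi.smul_apply, smul_eq_mul, div_mul_eq_mul_div, eq_div_iff hj, e]
  ring

theorem ten_eq' {u u' w w' : Fin 3 → F} (hu : u ≠ 0) (h : ten u w = ten u' w') : ∃ c : F, w = c • w' := by
  obtain ⟨i, hi⟩ := Function.ne_iff.1 hu
  refine ⟨u' i / u i, funext fun j => ?_⟩
  have e := congrFun h (i, j)
  simp only [ten] at e
  rw [Pi.smul_apply, smul_eq_mul, div_mul_eq_mul_div, eq_div_iff hi, mul_comm, e]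

theorem ten_left_cancel {u u' w : Fin 3 → F} (hw : w ≠ 0) (h : ten u w = ten u' w) : u = u' := by
  obtain ⟨j, hj⟩ := Function.ne_iff.1 hw
  exact funext fun i => mul_right_cancel₀ hj (congrFun h (i, j))

theorem ten_right_cancel {u w w' : Fin 3 → F} (hu : u ≠ 0) (h : ten u w = ten u w') : w = w' := by
  obtain ⟨i, hi⟩ := Function.ne_iff.1 hu
  exact funext fun j => mul_left_cancel₀ hi (congrFun h (i, j))

section Normal

variable (h2 : (2 : F) ≠ 0)
include h2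

theorem det_kr {A B : GL (Fin 3) F} (hA : A ∈ SO3 F) (hB : B ∈ SO3 F) :
    ((kr A B : GL (Fin 3 × Fin 3) F) : Matrix (Fin 3 × Fin 3) (Fin 3 × Fin 3) F).det = 1 := by
  show (Matrix.kroneckerMap (· * ·) (A : Matrix (Fin 3) (Fin 3) F) (B : Matrix (Fin 3) (Fin 3) F)).det = 1
  rw [Matrix.det_kronecker, (mem_SO3.1 hA).2, (mem_SO3.1 hB).2]
  simp

theorem kr_iso {A B : GL (Fin 3) F} (hA : A ∈ O3 F) (hB : B ∈ O3 F) : kr A B ∈ O9 F :=
  OrthTensor.kr_isometry (nondeg_Qd h2) (nondeg_Qd h2) (nondeg_Qd h2) h2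
    (fun u w v z => by rw [pol_Qd h2, pol_Qd h2, pol_Qd h2, ten_dot]) hA hB

theorem kr_eq_one {A B : GL (Fin 3) F} (hA : A ∈ SO3 F) (hB : B ∈ SO3 F) (h : kr A B = 1) : A = 1 ∧ B = 1 := by
  have e : ∀ u w, ten (mv A u) (mv B w) = ten u w := fun u w => by rw [← mv_kr_ten, h, mv_one]
  obtain ⟨c, hc⟩ := ten_eq' (fun h0 => ee_ne_zero 0 (mv_inj A (h0.trans (mv_zero A).symm))) (e (ee 0) (ee 0))
  have hB1 : ∀ w, mv B w = c • w := fun w => by
    have h1 := e (ee 0) w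
    obtain ⟨d, hd⟩ := ten_eq' (fun h0 => ee_ne_zero 0 (mv_inj A (h0.trans (mv_zero A).symm))) h1
    by_cases hw : w = 0
    · rw [hw, mv_zero, smul_zero]
    have h2' := e (ee 0) (ee 0)
    rw [hd, ten_smul_right, ← ten_smul_left] at h1
    rw [hc, ten_smul_right, ← ten_smul_left] at h2'
    have k1 := ten_left_cancel hw h1
    have k2 := ten_left_cancel (ee_ne_zero 0) h2'
    have : (d - c) • mv A (ee 0) = 0 := by rw [sub_smul, k1, k2, sub_self]
    rcases smul_eq_zero.1 this with h' | h'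
    · rw [hd, sub_eq_zero.1 h']
    · exact absurd (mv_inj A (h'.trans (mv_zero A).symm)) (ee_ne_zero 0)
  have hc1 : c * c = 1 := by
    have := SO3.dot h2 hB (ee 0) (ee 0)
    rwa [hB1, smul_dotProduct, dotProduct_smul, ee_self, smul_eq_mul, smul_eq_mul, mul_one] at this
  have hc3 : c * c * c = 1 := by
    have := (mem_SO3.1 hB).2
    rw [show (B : Matrix (Fin 3) (Fin 3) F) = c • 1 from Matrix.ext_iff_mulVec.2 fun w => by
      rw [Matrix.smul_mulVec, Matrix.one_mulVec]; exact hB1 w, Matrix.det_smul, Matrix.det_one,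
      Fintype.card_fin] at this
    linear_combination this
  rw [hc1, one_mul] at hc3
  have hB' : B = 1 := ext_mv fun w => by rw [hB1, hc3, one_smul, mv_one]
  exact ⟨ext_mv fun u => ten_left_cancel (ee_ne_zero 0) (by
    have := e u (ee 0)
    rw [hB', mv_one] at this
    rwa [mv_one]), hB'⟩

theorem kr_inj {A B A' B' : GL (Fin 3) F} (hA : A ∈ SO3 F) (hB : B ∈ SO3 F) (hA' : A' ∈ SO3 F)
    (hB' : B' ∈ SO3 F) (h : kr A B = kr A' B') : A = A' ∧ B = B' := by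
  obtain ⟨e1, e2⟩ := kr_eq_one h2 ((SO3 F).mul_mem ((SO3 F).inv_mem hA') hA)
    ((SO3 F).mul_mem ((SO3 F).inv_mem hB') hB) (by rw [← kr_mul, ← kr_inv, h, inv_mul_cancel])
  exact ⟨(inv_mul_eq_one.1 e1).symm, (inv_mul_eq_one.1 e2).symm⟩

theorem iso_kron {g : GL (Fin 3 × Fin 3) F} (hg : g ∈ O9 F) (hk : IsKron g) :
    ∃ A ∈ SO3 F, ∃ B ∈ O3 F, g = kr A B ∧ (B : Matrix (Fin 3) (Fin 3) F).det * (B : Matrix (Fin 3) (Fin 3) F).det = 1 ∧
      (g : Matrix (Fin 3 × Fin 3) (Fin 3 × Fin 3) F).det = (B : Matrix (Fin 3) (Fin 3) F).det := by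
  obtain ⟨A, B, rfl⟩ := kron_eq hk
  have hd : ∀ u w v z, (mv A u ⬝ᵥ mv A v) * (mv B w ⬝ᵥ mv B z) = (u ⬝ᵥ v) * (w ⬝ᵥ z) := fun u w v z => by
    rw [← ten_dot, ← mv_kr_ten, ← mv_kr_ten, (mem_iso h2).1 hg, ten_dot]
  obtain ⟨t, ht⟩ : ∃ t, t = mv B (ee 0) ⬝ᵥ mv B (ee 0) := ⟨_, rfl⟩
  have hAt : ∀ u v, (mv A u ⬝ᵥ mv A v) * t = u ⬝ᵥ v := fun u v => by rw [ht, hd, ee_self, mul_one]
  have ht0 : t ≠ 0 := fun h0 => by
    have := hAt (ee 0) (ee 0)
    rw [h0, mul_zero, ee_self] at this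
    exact zero_ne_one this
  have hmat : (A : Matrix (Fin 3) (Fin 3) F)ᵀ * (A : Matrix (Fin 3) (Fin 3) F) = t⁻¹ • 1 := by
    ext i j
    have e := hAt (ee i) (ee j)
    simp only [mv, ee, Matrix.mulVec_single_one, single_one_dotProduct, Pi.single_apply] at e
    rw [Matrix.mul_apply, Matrix.smul_apply, Matrix.one_apply, smul_eq_mul, ← e, ← mul_assoc,
      mul_comm t⁻¹, mul_assoc, inv_mul_cancel₀ ht0, mul_one]
    rfl
  obtain ⟨d, hdd⟩ : ∃ d, d = (A : Matrix (Fin 3) (Fin 3) F).det := ⟨_, rfl⟩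
  have hd2 : d * d = (t⁻¹) ^ 3 := by
    have := congrArg Matrix.det hmat
    rw [Matrix.det_mul, Matrix.det_transpose, Matrix.det_smul, Matrix.det_one, Fintype.card_fin, mul_one,
      ← hdd] at this
    exact this
  have hd0 : d ≠ 0 := fun h0 => by
    rw [h0, mul_zero] at hd2
    exact pow_ne_zero 3 (inv_ne_zero ht0) hd2.symm
  obtain ⟨r, hr⟩ : ∃ r, r = t⁻¹ / d := ⟨_, rfl⟩
  have hr0 : r ≠ 0 := hr ▸ div_ne_zero (inv_ne_zero ht0) hd0
  have hr2 : r * r = t := by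
    rw [hr, div_mul_div_comm, hd2]
    field_simp
  have hr3 : r * r * r * d = 1 := by rw [hr2, hr]; field_simp
  have hdetA : ((r • (A : Matrix (Fin 3) (Fin 3) F))).det = 1 := by
    rw [Matrix.det_smul, Fintype.card_fin, ← hdd]
    linear_combination hr3
  have hdB0 : (B : Matrix (Fin 3) (Fin 3) F).det ≠ 0 := (Matrix.GeneralLinearGroup.det B).ne_zero
  have hdetB : (r⁻¹ • (B : Matrix (Fin 3) (Fin 3) F)).det ≠ 0 := by
    rw [Matrix.det_smul]; exact mul_ne_zero (pow_ne_zero _ (inv_ne_zero hr0)) hdB0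
  set A' : GL (Fin 3) F := Matrix.GeneralLinearGroup.mkOfDetNeZero _ (by rw [hdetA]; exact one_ne_zero) with hA'
  set B' : GL (Fin 3) F := Matrix.GeneralLinearGroup.mkOfDetNeZero _ hdetB with hB'
  have eA : ∀ u, mv A' u = r • mv A u := fun u => Matrix.smul_mulVec _ _ _
  have eB : ∀ u, mv B' u = r⁻¹ • mv B u := fun u => Matrix.smul_mulVec _ _ _
  have hA'O : A' ∈ O3 F := (mem_iso h2).2 fun u v => by
    rw [eA, eA, smul_dotProduct, dotProduct_smul, smul_eq_mul, smul_eq_mul, ← mul_assoc, hr2, mul_comm, hAt]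
  have hB'O : B' ∈ O3 F := (mem_iso h2).2 fun w z => by
    have e := hd (ee 0) w (ee 0) z
    rw [ee_self, one_mul] at e
    rw [eB, eB, smul_dotProduct, dotProduct_smul, smul_eq_mul, smul_eq_mul, ← e,
      ← mul_assoc, show r⁻¹ * r⁻¹ = t⁻¹ by rw [← mul_inv, hr2]]
    have := hAt (ee 0) (ee 0)
    rw [ee_self] at this
    rw [show t⁻¹ = mv A (ee 0) ⬝ᵥ mv A (ee 0) from inv_eq_of_mul_eq_one_left this]
  have hkr : kr A B = kr A' B' := ext_ten_mv fun u w => by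
    rw [mv_kr_ten, mv_kr_ten, eA, eB, ten_smul_left, ten_smul_right, smul_smul, mul_inv_cancel₀ hr0, one_smul]
  have hBsq : (B' : Matrix (Fin 3) (Fin 3) F).det * (B' : Matrix (Fin 3) (Fin 3) F).det = 1 := by
    have := congrArg Matrix.det (iso_matrix h2 hB'O)
    rwa [Matrix.det_mul, Matrix.det_transpose, Matrix.det_one] at this
  refine ⟨A', mem_SO3.2 ⟨hA'O, hdetA⟩, B', hB'O, hkr, hBsq, ?_⟩
  rw [hkr]
  show (Matrix.kroneckerMap (· * ·) (A' : Matrix (Fin 3) (Fin 3) F) (B' : Matrix (Fin 3) (Fin 3) F)).det = _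
  rw [Matrix.det_kronecker, show (A' : Matrix (Fin 3) (Fin 3) F).det = 1 from hdetA, one_pow, one_mul,
    Fintype.card_fin, pow_succ, pow_two, hBsq, one_mul]

theorem det_sw : ((sw : GL (Fin 3 × Fin 3) F) : Matrix (Fin 3 × Fin 3) (Fin 3 × Fin 3) F).det = -1 := by
  have e : ((sw : GL (Fin 3 × Fin 3) F) : Matrix (Fin 3 × Fin 3) (Fin 3 × Fin 3) F) =
      Equiv.Perm.permMatrix F (Equiv.prodComm (Fin 3) (Fin 3) : Equiv.Perm (Fin 3 × Fin 3)) := by
    ext ⟨i, j⟩ ⟨k, l⟩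
    simp [sw, swM, Equiv.Perm.permMatrix, PEquiv.toMatrix_apply, Prod.ext_iff, eq_comm]
  rw [e, Matrix.det_permutation]
  have : Equiv.Perm.sign (Equiv.prodComm (Fin 3) (Fin 3) : Equiv.Perm (Fin 3 × Fin 3)) = -1 := by decide
  rw [this]; simp

theorem kr_neg (A B : GL (Fin 3) F) : kr A (-B) = -kr A B := ext_ten_mv fun u w => by
  rw [mv_kr_ten]
  show ten (mv A u) (((-B : GL (Fin 3) F) : Matrix (Fin 3) (Fin 3) F) *ᵥ w) =
    ((-kr A B : GL (Fin 3 × Fin 3) F) : Matrix (Fin 3 × Fin 3) (Fin 3 × Fin 3) F) *ᵥ ten u w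
  rw [Units.val_neg, Matrix.neg_mulVec, Units.val_neg, Matrix.neg_mulVec]
  show ten (mv A u) (-mv B w) = -mv (kr A B) (ten u w)
  rw [mv_kr_ten, ← neg_one_smul F (mv B w), ten_smul_right, neg_one_smul]

theorem om_cases [Fintype F] {g : GL (Fin 3 × Fin 3) F} (hg : g ∈ Om F) (hk : InK g) :
    (∃ A ∈ SO3 F, ∃ B ∈ SO3 F, g = kr A B) ∨ ∃ A ∈ SO3 F, ∃ B ∈ SO3 F, g = -(kr A B * sw) := by
  have hd := det_om h2 hg
  have hgI := om_le h2 hg
  rcases hk with hk | hk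
  · obtain ⟨A, hA, B, hB, rfl, -, hdet⟩ := iso_kron h2 hgI hk
    exact Or.inl ⟨A, hA, B, mem_SO3.2 ⟨hB, hdet.symm.trans hd⟩, rfl⟩
  · obtain ⟨A, hA, B, hB, e, -, hdet⟩ := iso_kron h2 ((O9 F).mul_mem hgI (sw_iso h2)) hk
    rw [Units.val_mul, Matrix.det_mul, hd, det_sw h2, one_mul] at hdet
    have hB' : -B ∈ SO3 F := mem_SO3.2 ⟨(mem_iso h2).2 fun x y => by
      simp only [mv, Units.val_neg, Matrix.neg_mulVec, neg_dotProduct, dotProduct_neg, neg_neg]
      exact (mem_iso h2).1 hB x y, by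
      rw [Units.val_neg, Matrix.det_neg, Fintype.card_fin, ← hdet]; ring⟩
    refine Or.inr ⟨A, hA, -B, hB', ?_⟩
    rw [kr_neg h2, neg_mul, neg_neg, ← e, mul_assoc, sw_mul_self, mul_one]

theorem hR_iff [Fintype F] {a : Fin 3 → F} (ha : a ⬝ᵥ a ≠ 0) :
    kr (1 : GL (Fin 3) F) (hh a) ∈ Om F ↔ IsSquare (a ⬝ᵥ a) := by
  rw [← sw_kr (hh a) 1, ← hL_iff h2 ha]
  nth_rw 2 [← sw_inv]
  exact om_conj_iff h2 (sw_iso h2)

theorem hZ_iff [Fintype F] {a b : Fin 3 → F} (ha : a ⬝ᵥ a ≠ 0) (hb : b ⬝ᵥ b ≠ 0) :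
    kr (hh a) (hh b) ∈ Om F ↔ (IsSquare (a ⬝ᵥ a) ↔ IsSquare (b ⬝ᵥ b)) := by
  have e : (kr (hh a) (hh b) : GL (Fin 3 × Fin 3) F) = kr (hh a) 1 * kr 1 (hh b) := by
    rw [kr_mul, mul_one, one_mul]
  have hL := hL_iff h2 ha
  have hR := hR_iff h2 hb
  have ha' := hh_mem h2 a
  have hb' := hh_mem h2 b
  rw [← hL, ← hR, e]
  refine ⟨fun h => ⟨fun h1 => ?_, fun h1 => ?_⟩, fun h => ?_⟩
  · simpa using (Om F).mul_mem ((Om F).inv_mem h1) h
  · simpa using (Om F).mul_mem h ((Om F).inv_mem h1)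
  · by_cases h1 : kr (hh a) (1 : GL (Fin 3) F) ∈ Om F
    · exact (Om F).mul_mem h1 (h.1 h1)
    · exact om_mul_of_not h2 (kr_iso h2 (mem_SO3.1 ha').1 (O3 F).one_mem)
        (kr_iso h2 (O3 F).one_mem (mem_SO3.1 hb').1) (det_kr h2 ha' (SO3 F).one_mem)
        (det_kr h2 (SO3 F).one_mem hb') h1 fun h3 => h1 (h.2 h3)

theorem so3_invol {A : GL (Fin 3) F} (hA : A ∈ SO3 F) (hAA : A * A = 1) :
    A = 1 ∨ ∃ a : Fin 3 → F, a ⬝ᵥ a ≠ 0 ∧ A = hh a := by
  obtain ⟨hO, hdet⟩ := mem_SO3.1 hA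
  have hsym : (A : Matrix (Fin 3) (Fin 3) F)ᵀ = (A : Matrix (Fin 3) (Fin 3) F) := by
    have h1 := iso_matrix h2 hO
    have h2' : (A : Matrix (Fin 3) (Fin 3) F) * A = 1 := by rw [← Units.val_mul, hAA]; rfl
    calc _ = (A : Matrix (Fin 3) (Fin 3) F)ᵀ * ((A : Matrix (Fin 3) (Fin 3) F) * A) := by rw [h2', mul_one]
      _ = _ := by rw [← mul_assoc, h1, one_mul]
  have hadj : Matrix.adjugate (A : Matrix (Fin 3) (Fin 3) F) = (A : Matrix (Fin 3) (Fin 3) F) := by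
    have h2' : (A : Matrix (Fin 3) (Fin 3) F) * A = 1 := by rw [← Units.val_mul, hAA]; rfl
    have h3 := Matrix.mul_adjugate (A : Matrix (Fin 3) (Fin 3) F)
    rw [hdet, one_smul] at h3
    calc _ = ((A : Matrix (Fin 3) (Fin 3) F) * A) * Matrix.adjugate (A : Matrix (Fin 3) (Fin 3) F) := by
          rw [h2', one_mul]
      _ = _ := by rw [mul_assoc, h3, mul_one]
  have hsq : ∀ i j, ∑ k, (A : Matrix (Fin 3) (Fin 3) F) i k * (A : Matrix (Fin 3) (Fin 3) F) k j =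
      if i = j then 1 else 0 := fun i j => by
    rw [← Matrix.mul_apply, ← Units.val_mul, hAA, Units.val_one, Matrix.one_apply]
  have s10 := congrFun (congrFun hsym 0) 1
  have s20 := congrFun (congrFun hsym 0) 2
  have s21 := congrFun (congrFun hsym 1) 2
  rw [Matrix.adjugate_fin_three] at hadj
  have a00 := congrFun (congrFun hadj 0) 0
  have a11 := congrFun (congrFun hadj 1) 1
  have a22 := congrFun (congrFun hadj 2) 2
  have a01 := congrFun (congrFun hadj 0) 1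
  have a02 := congrFun (congrFun hadj 0) 2
  have a12 := congrFun (congrFun hadj 1) 2
  have q00 := hsq 0 0
  have q11 := hsq 1 1
  have q22 := hsq 2 2
  have q01 := hsq 0 1
  have q02 := hsq 0 2
  have q12 := hsq 1 2
  simp only [Matrix.transpose_apply] at s10 s20 s21
  simp only [Fin.sum_univ_three, Fin.reduceEq, if_true, if_false] at q00 q11 q22 q01 q02 q12
  simp only [Matrix.cons_val', Matrix.cons_val_zero, Matrix.cons_val_one, Matrix.cons_val,
    Matrix.empty_val', Matrix.cons_val_fin_one, Matrix.of_apply, Matrix.head_cons, Matrix.head_fin_const] at a00 a11 a22 a01 a02 a12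
  obtain ⟨p, hp⟩ : ∃ p, p = (A : Matrix (Fin 3) (Fin 3) F) 0 0 := ⟨_, rfl⟩
  obtain ⟨q, hq⟩ : ∃ q, q = (A : Matrix (Fin 3) (Fin 3) F) 1 1 := ⟨_, rfl⟩
  obtain ⟨r, hr⟩ : ∃ r, r = (A : Matrix (Fin 3) (Fin 3) F) 2 2 := ⟨_, rfl⟩
  obtain ⟨x, hx⟩ : ∃ x, x = (A : Matrix (Fin 3) (Fin 3) F) 0 1 := ⟨_, rfl⟩
  obtain ⟨y, hy⟩ : ∃ y, y = (A : Matrix (Fin 3) (Fin 3) F) 0 2 := ⟨_, rfl⟩
  obtain ⟨z, hz⟩ : ∃ z, z = (A : Matrix (Fin 3) (Fin 3) F) 1 2 := ⟨_, rfl⟩
  simp only [s10, s20, s21, ← hp, ← hq, ← hr, ← hx, ← hy, ← hz] at q00 q11 q22 q01 q02 q12 a00 a11 a22 a01 a02 a12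
  have ht : (p + q + r + 1) * (p + q + r - 3) = 0 := by
    linear_combination q00 + q11 + q22 + 2 * a00 + 2 * a11 + 2 * a22
  have hval : ∀ v, mv A v = ![p * v 0 + x * v 1 + y * v 2, x * v 0 + q * v 1 + z * v 2,
      y * v 0 + z * v 1 + r * v 2] := fun v => by
    funext i
    fin_cases i <;> simp [mv, Matrix.mulVec, dotProduct, Fin.sum_univ_three, hp, hq, hr, hx, hy, hz, s10, s20, s21]
  rcases mul_eq_zero.1 ht with ht | ht
  · right
    -- the trace is -1: the projection onto the fixed space has rank one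
    have key : ∀ (a : Fin 3 → F) (d : F), a ⬝ᵥ a = 2 * d → d ≠ 0 →
        (a 0 * a 0 = d * (1 + p) ∧ a 1 * a 1 = d * (1 + q) ∧ a 2 * a 2 = d * (1 + r) ∧
          a 0 * a 1 = d * x ∧ a 0 * a 2 = d * y ∧ a 1 * a 2 = d * z) →
        ∃ a : Fin 3 → F, a ⬝ᵥ a ≠ 0 ∧ A = hh a := by
      intro a d haa hd ⟨k00, k11, k22, k01, k02, k12⟩
      have ha : a ⬝ᵥ a ≠ 0 := haa ▸ mul_ne_zero h2 hd
      refine ⟨a, ha, ext_mv fun v => ?_⟩
      rw [hval, mv_hh ha, haa, dot3]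
      funext i
      have hd' : (2 : F) * d ≠ 0 := mul_ne_zero h2 hd
      fin_cases i <;> simp <;> field_simp
      · linear_combination -(v 0) * k00 - (v 1) * k01 - (v 2) * k02
      · linear_combination -(v 0) * k01 - (v 1) * k11 - (v 2) * k12
      · linear_combination -(v 0) * k02 - (v 1) * k12 - (v 2) * k22
    by_cases h0 : 1 + p ≠ 0
    · refine key ![1 + p, x, y] (1 + p) ?_ h0 ⟨?_, ?_, ?_, ?_, ?_, ?_⟩ <;> simp [dot3]
      · linear_combination q00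
      · linear_combination -a22 - ht
      · linear_combination -a11 - ht
      · linear_combination a12
    by_cases h1 : 1 + q ≠ 0
    · refine key ![x, 1 + q, z] (1 + q) ?_ h1 ⟨?_, ?_, ?_, ?_, ?_, ?_⟩ <;> simp [dot3]
      · linear_combination q11
      · linear_combination -a22 - ht
      · linear_combination -a00 - ht
      · ring
      · linear_combination a02
    · rw [not_not] at h0 h1
      have h2' : 1 + r ≠ 0 := fun h2' => h2 (by linear_combination h0 + h1 + h2' - ht)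
      refine key ![y, z, 1 + r] (1 + r) ?_ h2' ⟨?_, ?_, ?_, ?_, ?_, ?_⟩ <;> simp [dot3]
      · linear_combination q22
      · linear_combination -a11 - ht
      · linear_combination -a00 - ht
      · linear_combination a01
      · ring
      · ring
  · left
    have h4 := four_ne_zero' h2
    have hx0 : x = 0 := (mul_eq_zero.1 (show 4 * x = 0 by linear_combination q01 - a01 - x * ht)).resolve_left h4
    have hy0 : y = 0 := (mul_eq_zero.1 (show 4 * y = 0 by linear_combination q02 - a02 - y * ht)).resolve_left h4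
    have hz0 : z = 0 := (mul_eq_zero.1 (show 4 * z = 0 by linear_combination q12 - a12 - z * ht)).resolve_left h4
    subst hx0 hy0 hz0
    have hp1 : p = 1 := mul_left_cancel₀ h4 (by linear_combination a11 + a22 - (p - 1) * ht + q00)
    have hq1 : q = 1 := mul_left_cancel₀ h4 (by linear_combination a00 + a22 - (q - 1) * ht + q11)
    have hr1 : r = 1 := mul_left_cancel₀ h4 (by linear_combination a00 + a11 - (r - 1) * ht + q22)
    refine ext_mv fun v => ?_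
    rw [hval, mv_one, hp1, hq1, hr1]
    funext i
    fin_cases i <;> simp

/-- The trace of the identity and of the involutions separate them. -/
theorem trace_L {a : Fin 3 → F} (ha : a ⬝ᵥ a ≠ 0) :
    ((kr (hh a) (1 : GL (Fin 3) F) : GL (Fin 3 × Fin 3) F) : Matrix (Fin 3 × Fin 3) (Fin 3 × Fin 3) F).trace = -3 := by
  rw [trace_kr, trace_hh ha, Units.val_one, Matrix.trace_one, Fintype.card_fin]; push_cast; ring

theorem trace_R {a : Fin 3 → F} (ha : a ⬝ᵥ a ≠ 0) :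
    ((kr (1 : GL (Fin 3) F) (hh a) : GL (Fin 3 × Fin 3) F) : Matrix (Fin 3 × Fin 3) (Fin 3 × Fin 3) F).trace = -3 := by
  rw [trace_kr, trace_hh ha, Units.val_one, Matrix.trace_one, Fintype.card_fin]; push_cast; ring

theorem trace_Z {a b : Fin 3 → F} (ha : a ⬝ᵥ a ≠ 0) (hb : b ⬝ᵥ b ≠ 0) :
    ((kr (hh a) (hh b) : GL (Fin 3 × Fin 3) F) : Matrix (Fin 3 × Fin 3) (Fin 3 × Fin 3) F).trace = 1 := by
  rw [trace_kr, trace_hh ha, trace_hh hb]; ring

omit h2 in
theorem neg_three_ne_one (h2 : (2 : F) ≠ 0) : (-3 : F) ≠ 1 := fun h =>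
  four_ne_zero' h2 (by linear_combination -h)

theorem trace_swap_invol {A B : GL (Fin 3) F} (hA : A ∈ SO3 F) (hB : B ∈ SO3 F)
    (h : -(kr A B * sw) * -(kr A B * sw) = (1 : GL (Fin 3 × Fin 3) F)) :
    ((-(kr A B * sw) : GL (Fin 3 × Fin 3) F) : Matrix (Fin 3 × Fin 3) (Fin 3 × Fin 3) F).trace = -3 := by
  rw [neg_mul_neg, show kr A B * sw * (kr A B * sw) = kr A B * (sw * kr A B * sw) by simp only [mul_assoc], sw_kr,
    kr_mul] at h
  obtain ⟨e, -⟩ := kr_eq_one h2 ((SO3 F).mul_mem hA hB) ((SO3 F).mul_mem hB hA) h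
  rw [Units.val_neg, Matrix.trace_neg, trace_kr_sw, e, Units.val_one, Matrix.trace_one, Fintype.card_fin]
  push_cast; ring

theorem swap_not_comm_L {A B C : GL (Fin 3) F} (hA : A ∈ SO3 F) (hB : B ∈ SO3 F) (hC : C ∈ SO3 F)
    (h : -(kr A B * sw) * kr C 1 = kr C 1 * -(kr A B * sw)) : C = 1 := by
  rw [neg_mul, mul_neg, neg_inj, show kr A B * sw * kr C (1 : GL (Fin 3) F) =
    kr A B * (sw * kr C 1 * sw) * sw by simp only [mul_assoc, sw_mul_self, mul_one], sw_kr, ← mul_assoc,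
    mul_left_inj, kr_mul, kr_mul, mul_one, one_mul] at h
  obtain ⟨e, -⟩ := kr_inj h2 hA ((SO3 F).mul_mem hB hC) ((SO3 F).mul_mem hC hA) hB h
  exact mul_right_cancel (e.symm.trans (one_mul A).symm)

theorem swap_not_comm_R {A B C : GL (Fin 3) F} (hA : A ∈ SO3 F) (hB : B ∈ SO3 F) (hC : C ∈ SO3 F)
    (h : -(kr A B * sw) * kr 1 C = kr 1 C * -(kr A B * sw)) : C = 1 := by
  rw [neg_mul, mul_neg, neg_inj, show kr A B * sw * kr (1 : GL (Fin 3) F) C =
    kr A B * (sw * kr 1 C * sw) * sw by simp only [mul_assoc, sw_mul_self, mul_one], sw_kr, ← mul_assoc,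
    mul_left_inj, kr_mul, kr_mul, mul_one, one_mul] at h
  obtain ⟨-, e⟩ := kr_inj h2 ((SO3 F).mul_mem hA hC) hB hA ((SO3 F).mul_mem hC hB) h
  exact mul_right_cancel (e.symm.trans (one_mul B).symm)

/-- An element of Ω commuting with a right factor element is a Kronecker product. -/
theorem kron_of_comm_R [Fintype F] {g : GL (Fin 3 × Fin 3) F} (hg : g ∈ Om F) (hk : InK g) {C : GL (Fin 3) F}
    (hC : C ∈ SO3 F) (hC1 : C ≠ 1) (h : g * kr 1 C = kr 1 C * g) :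
    ∃ A ∈ SO3 F, ∃ B ∈ SO3 F, g = kr A B ∧ B * C = C * B := by
  rcases om_cases h2 hg hk with ⟨A, hA, B, hB, rfl⟩ | ⟨A, hA, B, hB, rfl⟩
  · rw [kr_mul, kr_mul, mul_one, one_mul] at h
    exact ⟨A, hA, B, hB, rfl, (kr_inj h2 hA ((SO3 F).mul_mem hB hC) hA ((SO3 F).mul_mem hC hB) h).2⟩
  · exact absurd (swap_not_comm_R h2 hA hB hC h) hC1

theorem kron_of_comm_L [Fintype F] {g : GL (Fin 3 × Fin 3) F} (hg : g ∈ Om F) (hk : InK g) {C : GL (Fin 3) F}
    (hC : C ∈ SO3 F) (hC1 : C ≠ 1) (h : g * kr C 1 = kr C 1 * g) :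
    ∃ A ∈ SO3 F, ∃ B ∈ SO3 F, g = kr A B ∧ A * C = C * A := by
  rcases om_cases h2 hg hk with ⟨A, hA, B, hB, rfl⟩ | ⟨A, hA, B, hB, rfl⟩
  · rw [kr_mul, kr_mul, mul_one, one_mul] at h
    exact ⟨A, hA, B, hB, rfl, (kr_inj h2 ((SO3 F).mul_mem hA hC) hB ((SO3 F).mul_mem hC hA) hB h).1⟩
  · exact absurd (swap_not_comm_L h2 hA hB hC h) hC1

end Normal

/-! ### Involutions -/

/-- Pure unit half turns and inner mixed ones. -/
def Good (g : GL (Fin 3 × Fin 3) F) : Prop :=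
  (∃ u : Fin 3 → F, u ⬝ᵥ u = 1 ∧ g = kr (hh u) 1) ∨ (∃ u : Fin 3 → F, u ⬝ᵥ u = 1 ∧ g = kr 1 (hh u)) ∨
    ∃ u v : Fin 3 → F, u ⬝ᵥ u = 1 ∧ v ⬝ᵥ v = 1 ∧ g = kr (hh u) (hh v)

/-- Mixed involutions with non-square values. -/
def Outer (g : GL (Fin 3 × Fin 3) F) : Prop :=
  ∃ u v : Fin 3 → F, ¬ IsSquare (u ⬝ᵥ u) ∧ ¬ IsSquare (v ⬝ᵥ v) ∧ g = kr (hh u) (hh v)

theorem exists_unit {a : Fin 3 → F} (ha : a ⬝ᵥ a ≠ 0) (hs : IsSquare (a ⬝ᵥ a)) :
    ∃ u : Fin 3 → F, u ⬝ᵥ u = 1 ∧ (hh u : GL (Fin 3) F) = hh a := by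
  obtain ⟨s, hs⟩ := hs
  have hs0 : s ≠ 0 := fun h => ha (by rw [hs, h, mul_zero])
  refine ⟨s⁻¹ • a, ?_, hh_smul (inv_ne_zero hs0) a⟩
  rw [smul_dotProduct, dotProduct_smul, hs, smul_eq_mul, smul_eq_mul]
  field_simp

theorem unit_ne {u : Fin 3 → F} (h : u ⬝ᵥ u = 1) : u ⬝ᵥ u ≠ 0 := by rw [h]; exact one_ne_zero

theorem unit_sq {u : Fin 3 → F} (h : u ⬝ᵥ u = 1) : IsSquare (u ⬝ᵥ u) := by rw [h]; exact ⟨1, by ring⟩

theorem nsq_ne {u : Fin 3 → F} (h : ¬ IsSquare (u ⬝ᵥ u)) : u ⬝ᵥ u ≠ 0 := fun e => h (by rw [e]; exact ⟨0, by ring⟩)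

theorem invol_cases [Fintype F] (h2 : (2 : F) ≠ 0) {A B : GL (Fin 3) F} (hA : A ∈ SO3 F) (hB : B ∈ SO3 F)
    (hg : kr A B ∈ Om F) (hsq : kr A B * kr A B = 1) (hne : kr A B ≠ 1) :
    Good (kr A B) ∨ Outer (kr A B) := by
  rw [kr_mul] at hsq
  obtain ⟨eA, eB⟩ := kr_eq_one h2 ((SO3 F).mul_mem hA hA) ((SO3 F).mul_mem hB hB) hsq
  rcases so3_invol h2 hA eA with rfl | ⟨a, ha, rfl⟩ <;> rcases so3_invol h2 hB eB with rfl | ⟨b, hb, rfl⟩
  · exact absurd kr_one hne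
  · obtain ⟨u, hu, e⟩ := exists_unit hb ((hR_iff h2 hb).1 hg)
    exact Or.inl (Or.inr (Or.inl ⟨u, hu, by rw [e]⟩))
  · obtain ⟨u, hu, e⟩ := exists_unit ha ((hL_iff h2 ha).1 hg)
    exact Or.inl (Or.inl ⟨u, hu, by rw [e]⟩)
  · have h := (hZ_iff h2 ha hb).1 hg
    by_cases hs : IsSquare (a ⬝ᵥ a)
    · obtain ⟨u, hu, e⟩ := exists_unit ha hs
      obtain ⟨v, hv, e'⟩ := exists_unit hb (h.1 hs)
      exact Or.inl (Or.inr (Or.inr ⟨u, v, hu, hv, by rw [e, e']⟩))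
    · exact Or.inr ⟨a, b, hs, fun h' => hs (h.2 h'), rfl⟩

theorem mixed_of_trace [Fintype F] (h2 : (2 : F) ≠ 0) {g : GL (Fin 3 × Fin 3) F} (hg : g ∈ Om F) (hk : InK g)
    (hsq : g * g = 1) (hne : g ≠ 1) (ht : (g : Matrix (Fin 3 × Fin 3) (Fin 3 × Fin 3) F).trace = 1) :
    ∃ u v : Fin 3 → F, u ⬝ᵥ u ≠ 0 ∧ v ⬝ᵥ v ≠ 0 ∧ g = kr (hh u) (hh v) := by
  rcases om_cases h2 hg hk with ⟨A, hA, B, hB, rfl⟩ | ⟨A, hA, B, hB, rfl⟩
  · rw [kr_mul] at hsq
    obtain ⟨eA, eB⟩ := kr_eq_one h2 ((SO3 F).mul_mem hA hA) ((SO3 F).mul_mem hB hB) hsq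
    rcases so3_invol h2 hA eA with rfl | ⟨a, ha, rfl⟩ <;> rcases so3_invol h2 hB eB with rfl | ⟨b, hb, rfl⟩
    · exact absurd kr_one hne
    · rw [trace_R h2 hb] at ht
      exact absurd ht (neg_three_ne_one h2)
    · rw [trace_L h2 ha] at ht
      exact absurd ht (neg_three_ne_one h2)
    · exact ⟨a, b, ha, hb, rfl⟩
  · rw [trace_swap_invol h2 hA hB hsq] at ht
    exact absurd ht (neg_three_ne_one h2)

/-- A half turn moving one line to another of the same value. -/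
theorem move (h2 : (2 : F) ≠ 0) {a b : Fin 3 → F} (ha : a ⬝ᵥ a ≠ 0) (hab : a ⬝ᵥ a = b ⬝ᵥ b) :
    ∃ x : Fin 3 → F, x ⬝ᵥ x ≠ 0 ∧ (mv (hh x) a = b ∨ mv (hh x) a = -b) ∧
      ∀ c, c ⬝ᵥ a = 0 → c ⬝ᵥ b = 0 → mv (hh x) c = -c := by
  have h4 := mul_ne_zero (four_ne_zero' h2) ha
  by_cases hp : (a + b) ⬝ᵥ (a + b) ≠ 0
  · refine ⟨a + b, hp, Or.inl ?_, fun c h1 h3 => mv_hh_orth hp ?_⟩
    · rw [mv_hh hp]
      have e : 2 * ((a + b) ⬝ᵥ a) / ((a + b) ⬝ᵥ (a + b)) = 1 := by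
        rw [div_eq_one_iff_eq hp]
        simp only [add_dotProduct, dotProduct_add, dotProduct_comm b a, ← hab]
        ring
      rw [e, one_smul, add_sub_cancel_left]
    · rw [add_dotProduct, dotProduct_comm a c, dotProduct_comm b c, h1, h3, add_zero]
  · rw [not_not] at hp
    have hm : (a - b) ⬝ᵥ (a - b) ≠ 0 := fun h => h4 (by
      simp only [add_dotProduct, dotProduct_add, sub_dotProduct, dotProduct_sub] at hp h
      linear_combination hp + h + 2 * hab)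
    refine ⟨a - b, hm, Or.inr ?_, fun c h1 h3 => mv_hh_orth hm ?_⟩
    · rw [mv_hh hm]
      have e : 2 * ((a - b) ⬝ᵥ a) / ((a - b) ⬝ᵥ (a - b)) = 1 := by
        rw [div_eq_one_iff_eq hm]
        simp only [sub_dotProduct, dotProduct_sub, dotProduct_comm b a, ← hab]
        ring
      rw [e, one_smul]
      abel
    · rw [sub_dotProduct, dotProduct_comm a c, dotProduct_comm b c, h1, h3, sub_zero]

/-- Conjugating a half turn by a move. -/
theorem hh_move (h2 : (2 : F) ≠ 0) {a b x : Fin 3 → F} (h : mv (hh x) a = b ∨ mv (hh x) a = -b) :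
    hh x * hh a * (hh x)⁻¹ = hh b := by
  rw [hh_conj h2 (mem_SO3.1 (hh_mem h2 x)).1]
  rcases h with h | h
  · rw [h]
  · rw [h, hh_neg]

/-- Sums of two squares. -/
theorem sum_sq [Fintype F] (h2 : (2 : F) ≠ 0) (w : F) : ∃ x y : F, x * x + y * y = w := by
  open Polynomial in
  have hodd : Fintype.card F % 2 = 1 := FiniteField.odd_card_of_char_ne_two fun hc => h2 (by
    haveI := ringChar.charP F
    have := CharP.cast_eq_zero F (ringChar F)
    rw [hc] at this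
    exact_mod_cast this)
  obtain ⟨x, y, h⟩ := FiniteField.exists_root_sum_quadratic (R := F) (f := Polynomial.X ^ 2)
    (g := Polynomial.X ^ 2 - Polynomial.C w) (Polynomial.degree_X_pow 2)
    (Polynomial.degree_X_pow_sub_C (by norm_num) w) hodd
  refine ⟨x, y, ?_⟩
  simp only [Polynomial.eval_sub, Polynomial.eval_pow, Polynomial.eval_X, Polynomial.eval_C] at h
  linear_combination h

/-- A vector with a non-square value orthogonal to a basis vector. -/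
theorem exists_nu [Fintype F] (h2 : (2 : F) ≠ 0) (i : Fin 3) :
    ∃ n : Fin 3 → F, ¬ IsSquare (n ⬝ᵥ n) ∧ n i = 0 := by
  have hc : ringChar F ≠ 2 := fun hc => h2 (by
    haveI := ringChar.charP F
    have := CharP.cast_eq_zero F (ringChar F)
    rw [hc] at this
    exact_mod_cast this)
  obtain ⟨w, hw⟩ := FiniteField.exists_nonsquare hc
  obtain ⟨x, y, rfl⟩ := sum_sq h2 w
  refine ⟨fun k => if k = i + 1 then x else if k = i + 2 then y else 0, ?_, ?_⟩
  · rw [dot3]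
    fin_cases i <;> simp_all [add_comm]
  · fin_cases i <;> simp

/-- The dihedral group of two involutions with different values of a class function. -/
theorem dihedral {G : Type*} [Group G] [Finite G] {β : Type*} (f : G → β) (hf : ∀ g x, f (g * x * g⁻¹) = f x)
    {H : Subgroup G} {t u : G} (ht : t * t = 1) (hu : u * u = 1) (htH : t ∈ H) (huH : u ∈ H) (hne : f t ≠ f u) :
    ∃ c ∈ H, c ≠ 1 ∧ c * c = 1 ∧ c * t = t * c ∧ c * u = u * c ∧
      (∀ z, z * t = t * z → z * u = u * z → z * c = c * z) ∧ (f (t * c) = f t ∨ f (c * u) = f t) := by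
  obtain ⟨n, hn⟩ : ∃ n, n = t * u := ⟨_, rfl⟩
  have ti : t⁻¹ = t := inv_eq_of_mul_eq_one_right ht
  have ui : u⁻¹ = u := inv_eq_of_mul_eq_one_right hu
  have hinv : t * n * t⁻¹ = n⁻¹ := by rw [hn, _root_.mul_inv_rev, ui, ti, ← mul_assoc, ht, one_mul]
  have key : ∀ i : ℕ, t * n ^ i = (n ^ i)⁻¹ * t := fun i => by
    have := conj_pow (i := i) (a := t) (b := n)
    rw [hinv, inv_pow] at this
    rw [this, inv_mul_cancel_right]
  have key' : ∀ i : ℕ, t * (n ^ i)⁻¹ = n ^ i * t := fun i => by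
    calc t * (n ^ i)⁻¹ = t * ((n ^ i)⁻¹ * t) * t := by simp only [mul_assoc, ht, mul_one]
      _ = n ^ i * t := by rw [← key, ← mul_assoc t t, ht, one_mul]
  have conjt : ∀ i : ℕ, f (n ^ (2 * i) * t) = f t := fun i => by
    rw [← hf (n ^ i) t, mul_assoc _ t, key', ← mul_assoc, ← pow_add, two_mul]
  have hu' : u = t * n := by rw [hn, ← mul_assoc, ht, one_mul]
  rcases Nat.even_or_odd (orderOf n) with ⟨k, hk⟩ | ⟨k, hk⟩
  · have hpos : 0 < orderOf n := orderOf_pos n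
    have hc2 : n ^ k * n ^ k = 1 := by rw [← pow_add, ← hk, pow_orderOf_eq_one]
    have hci : (n ^ k)⁻¹ = n ^ k := inv_eq_of_mul_eq_one_right hc2
    have hct : n ^ k * t = t * n ^ k := by rw [key, hci]
    refine ⟨n ^ k, H.pow_mem (hn ▸ H.mul_mem htH huH) _, fun h => ?_, hc2, hct, ?_, fun z h1 h3 => ?_, ?_⟩
    · have := orderOf_le_of_pow_eq_one (by omega : 0 < k) h
      omega
    · rw [hu', ← mul_assoc, hct, mul_assoc, mul_assoc, pow_mul_comm']
    · have hzn : Commute z n := by rw [hn]; exact Commute.mul_right h1 h3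
      exact hzn.pow_right _
    · rcases Nat.even_or_odd k with ⟨i, hi⟩ | ⟨i, hi⟩
      · left
        rw [← hct, hi, ← two_mul, conjt]
      · right
        have : n ^ k * u = n ^ (2 * i) * t := by
          rw [hu', ← mul_assoc, hct, mul_assoc, ← pow_succ, key]
          congr 1
          refine inv_eq_of_mul_eq_one_right ?_
          rw [← pow_add, show k + 1 + 2 * i = k + k by omega, pow_add, hc2]
        rw [this, conjt]
  · exfalso
    refine hne ?_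
    rw [← conjt k, hu']
    congr 1
    rw [show t * n = n⁻¹ * t by simpa using key 1]
    congr 1
    refine (inv_eq_of_mul_eq_one_left ?_).symm
    rw [← pow_succ, ← hk, pow_orderOf_eq_one]

end Cfsg.Agent.TensorSquare
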