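/-
Overgroups of the Kronecker products: transport, root elements, and generation.
-/
import Cfsg.Agent.Lib.TensorSquare.Kron

set_option autoImplicit false
set_option linter.unusedSectionVars false

namespace Cfsg.Agent.TensorSquare

open scoped Matrix Kronecker
open Matrix Cfsg.Agent.Transvec Cfsg.Agent.TensorMax
open Cfsg.Agent.TensorMax.U (kr mv_kr_ten isKron_kr isKron_mul isKron_inv mv_kron_ten ext_ten_mv)
open Cfsg.Agent.Transvec.Orth (pol IsSiegel)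

variable {F : Type*} [Field F]

/-- A proper overgroup of the Kronecker products in Ω. -/
structure Ctx [Fintype F] (M : Subgroup (GL (Fin 3 × Fin 3) F)) : Prop where
  h2 : (2 : F) ≠ 0
  h5 : 5 ≤ Fintype.card F
  le : M ≤ Om F
  kron : ∀ g, InK g → g ∈ Om F → g ∈ M
  proper : M ≠ Om F

/-- The conjugate of a subgroup. -/
def cj (h : GL (Fin 3 × Fin 3) F) (M : Subgroup (GL (Fin 3 × Fin 3) F)) : Subgroup (GL (Fin 3 × Fin 3) F) :=
  M.map (MulAut.conj h).toMonoidHom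

theorem mem_cj {h : GL (Fin 3 × Fin 3) F} {M : Subgroup (GL (Fin 3 × Fin 3) F)} {g : GL (Fin 3 × Fin 3) F} :
    g ∈ cj h M ↔ h⁻¹ * g * h ∈ M := by
  refine ⟨?_, fun hg => ⟨_, hg, by simp [mul_assoc]⟩⟩
  rintro ⟨x, hx, rfl⟩
  simpa [mul_assoc] using hx

theorem conj_mem_cj {h : GL (Fin 3 × Fin 3) F} {M : Subgroup (GL (Fin 3 × Fin 3) F)} {g : GL (Fin 3 × Fin 3) F}
    (hg : g ∈ M) : h * g * h⁻¹ ∈ cj h M := mem_cj.2 (by simpa [mul_assoc] using hg)

variable [Fintype F] {M : Subgroup (GL (Fin 3 × Fin 3) F)}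

theorem Ctx.conj (C : Ctx M) {h : GL (Fin 3 × Fin 3) F} (hI : h ∈ O9 F) (hk : InK h) : Ctx (cj h M) := by
  refine ⟨C.h2, C.h5, fun g hg => ?_, fun g hgk hg => mem_cj.2 (C.kron _ ?_ ?_), fun he => C.proper ?_⟩
  · have := om_conj C.h2 hI (C.le (mem_cj.1 hg))
    simpa [mul_assoc] using this
  · exact inK_mul (inK_mul (inK_inv hk) hgk) hk
  · simpa [mul_assoc] using om_conj C.h2 ((O9 F).inv_mem hI) hg
  · refine le_antisymm C.le fun g hg => ?_
    have h1 : h * g * h⁻¹ ∈ cj h M := he.symm ▸ om_conj C.h2 hI hg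
    simpa [mul_assoc] using mem_cj.1 h1

theorem Ctx.flip (C : Ctx M) : Ctx (cj sw M) := C.conj (sw_iso C.h2) inK_sw

theorem Ctx.iso (C : Ctx M) {g : GL (Fin 3 × Fin 3) F} (hg : g ∈ M) : g ∈ O9 F := om_le C.h2 (C.le hg)

theorem Ctx.memL (C : Ctx M) {u : Fin 3 → F} (hu : u ⬝ᵥ u = 1) : kr (hh u) 1 ∈ M :=
  C.kron _ (inK_kr _ _) ((hL_iff C.h2 (unit_ne hu)).2 (unit_sq hu))

theorem Ctx.memR (C : Ctx M) {u : Fin 3 → F} (hu : u ⬝ᵥ u = 1) : kr 1 (hh u) ∈ M :=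
  C.kron _ (inK_kr _ _) ((hR_iff C.h2 (unit_ne hu)).2 (unit_sq hu))

theorem Ctx.memZ (C : Ctx M) {u v : Fin 3 → F} (hu : u ⬝ᵥ u ≠ 0) (hv : v ⬝ᵥ v ≠ 0)
    (h : IsSquare (u ⬝ᵥ u) ↔ IsSquare (v ⬝ᵥ v)) : kr (hh u) (hh v) ∈ M :=
  C.kron _ (inK_kr _ _) ((hZ_iff C.h2 hu hv).2 h)

theorem Ctx.mem_odd (C : Ctx M) {A B : GL (Fin 3) F} (hA : A ∈ O3 F) (hB : B ∈ O3 F)
    (hA' : Odd (orderOf A)) (hB' : Odd (orderOf B)) : kr A B ∈ M := by
  refine C.kron _ (inK_kr _ _) (OrthTensor.omega_of_odd (nondeg_Qd C.h2) C.h2 (by simp) (kr_iso C.h2 hA hB) ?_)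
  refine (Odd.mul hA' hB').of_dvd_nat (orderOf_dvd_of_pow_eq_one ?_)
  rw [OrthTensor.kr_pow, orderOf_dvd_iff_pow_eq_one.1 (dvd_mul_right _ _),
    orderOf_dvd_iff_pow_eq_one.1 (dvd_mul_left _ _), kr_one]

/-- A Kronecker product of rotations lies in M up to one factor half turn of non-square value. -/
theorem Ctx.adjust (C : Ctx M) {n : Fin 3 → F} (hn : ¬ IsSquare (n ⬝ᵥ n)) {A B : GL (Fin 3) F}
    (hA : A ∈ SO3 F) (hB : B ∈ SO3 F) : kr A B ∈ M ∨ kr (hh n * A) B ∈ M := by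
  by_cases h : kr A B ∈ Om F
  · exact Or.inl (C.kron _ (inK_kr _ _) h)
  right
  refine C.kron _ (inK_kr _ _) ?_
  have hn0 := nsq_ne hn
  have hm := hh_mem C.h2 n
  have e : (kr (hh n * A) B : GL (Fin 3 × Fin 3) F) = kr (hh n) 1 * kr A B := by rw [kr_mul, one_mul]
  rw [e]
  exact om_mul_of_not C.h2 (kr_iso C.h2 (mem_SO3.1 hm).1 (O3 F).one_mem)
    (kr_iso C.h2 (mem_SO3.1 hA).1 (mem_SO3.1 hB).1) (det_kr C.h2 hm (SO3 F).one_mem) (det_kr C.h2 hA hB)
    (fun hc => hn ((hL_iff C.h2 hn0).1 hc)) h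

/-! ### Root elements -/

theorem siegel_iff (h2 : (2 : F) ≠ 0) {κ : Type} [Fintype κ] [DecidableEq κ] {g : GL κ F} {u y : κ → F} :
    IsSiegel (Qd (F := F) (κ := κ)) g u y ↔
      ∀ z, mv g z = z + (z ⬝ᵥ u) • y - (z ⬝ᵥ y + (y ⬝ᵥ y) / 2 * (z ⬝ᵥ u)) • u := by
  simp only [IsSiegel, pol_Qd h2]
  rfl

theorem exists_sg (h2 : (2 : F) ≠ 0) {κ : Type} [Fintype κ] [DecidableEq κ] {c y : κ → F} (hc : c ⬝ᵥ c = 0)
    (hcy : c ⬝ᵥ y = 0) :
    ∃ g ∈ isometryGroup F (Qd (F := F) (κ := κ)), Odd (orderOf g) ∧ IsSiegel Qd g c y := by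
  have hq : Qd c = 0 := by rw [Qd, hc, zero_div]
  have hp : pol Qd c y = 0 := by rw [pol_Qd h2, hcy]
  obtain ⟨g, hg, hs⟩ := Transvec.Orth.exists_siegel (nondeg_Qd h2) hq hp
  exact ⟨g, hg, OrthTensor.siegel_odd (nondeg_Qd h2) h2 hq hp hs, hs⟩

/-- A half turn of a row is a Siegel element of the large space. -/
theorem dg_single_siegel (h2 : (2 : F) ≠ 0) (i : Fin 3) {S : GL (Fin 3) F} {c y : Fin 3 → F}
    (hS : IsSiegel Qd S c y) :
    IsSiegel Qd (dg (Pi.mulSingle i S)) (ten (ee i) c) (ten (ee i) y) := by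
  rw [siegel_iff h2] at hS ⊢
  intro z
  have hd : ∀ w, z ⬝ᵥ ten (ee i) w = (fun l => z (i, l)) ⬝ᵥ w := fun w => by
    simp only [dotProduct, Fintype.sum_prod_type, ten, ee_apply]
    rw [Finset.sum_eq_single i] <;> simp +contextual
  funext ⟨k, j⟩
  rw [mv_dg, ten_dot, ee_self, one_mul, hd, hd]
  simp only [Pi.add_apply, Pi.sub_apply, Pi.smul_apply, smul_eq_mul, ten_apply, ee_apply]
  by_cases hk : k = i
  · subst hk
    simp [Pi.mulSingle_eq_same, hS]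
  · simp [Pi.mulSingle_eq_of_ne hk, mv_one, hk]

/-- Every row carries all its root elements. -/
def RowRoot (M : Subgroup (GL (Fin 3 × Fin 3) F)) : Prop :=
  ∀ (i : Fin 3) (c y : Fin 3 → F) (S : GL (Fin 3) F), c ⬝ᵥ c = 0 → c ⬝ᵥ y = 0 → IsSiegel Qd S c y →
    dg (Pi.mulSingle i S) ∈ M

theorem basis3 {c d y w : Fin 3 → F} {η : F} (hη : η ≠ 0) (hcc : c ⬝ᵥ c = 0) (hdd : d ⬝ᵥ d = 0)
    (hcd : c ⬝ᵥ d = 1) (hcy : c ⬝ᵥ y = 0) (hdy : d ⬝ᵥ y = 0) (hyy : y ⬝ᵥ y = η) :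
    w = (w ⬝ᵥ d) • c + (w ⬝ᵥ c) • d + (w ⬝ᵥ y / η) • y := by
  set v := w - ((w ⬝ᵥ d) • c + (w ⬝ᵥ c) • d + (w ⬝ᵥ y / η) • y) with hv
  suffices v = 0 from sub_eq_zero.1 (hv ▸ this)
  let R : Matrix (Fin 3) (Fin 3) F := Matrix.of ![c, d, y]
  have hRv : R *ᵥ v = 0 := by
    funext k
    fin_cases k <;>
      simp [R, Matrix.mulVec, hv, dotProduct_sub, dotProduct_add, dotProduct_smul, hcc, hdd, hcd, hcy, hdy, hyy,
        dotProduct_comm c w, dotProduct_comm d w, dotProduct_comm y w, dotProduct_comm d c, dotProduct_comm y c,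
        dotProduct_comm y d, hη]
  refine Matrix.eq_zero_of_mulVec_eq_zero (fun h0 => ?_) hRv
  have hG : R * Rᵀ = !![0, 1, 0; 1, 0, 0; 0, 0, η] := by
    ext i j
    rw [show (R * Rᵀ) i j = ![c, d, y] i ⬝ᵥ ![c, d, y] j from rfl]
    fin_cases i <;> fin_cases j <;>
      simp [R, hcc, hdd, hcd, hcy, hdy, hyy, dotProduct_comm d c, dotProduct_comm y c, dotProduct_comm y d]
  have := congrArg Matrix.det hG
  rw [Matrix.det_mul, h0, zero_mul, Matrix.det_fin_three] at this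
  simp at this
  exact hη this

theorem exists_triple (h2 : (2 : F) ≠ 0) {c : Fin 3 → F} (hc0 : c ≠ 0) (hc : c ⬝ᵥ c = 0) :
    ∃ d y : Fin 3 → F, ∃ η : F, η ≠ 0 ∧ d ⬝ᵥ d = 0 ∧ c ⬝ᵥ d = 1 ∧ c ⬝ᵥ y = 0 ∧ d ⬝ᵥ y = 0 ∧ y ⬝ᵥ y = η := by
  have hQ := nondeg_Qd (κ := Fin 3) h2
  have hq : Qd c = 0 := by rw [Qd, hc, zero_div]
  obtain ⟨d, hd, hcd⟩ := OrthTensor.exists_pair hQ hc0 hq
  obtain ⟨hXn, hXf, hXm⟩ := OrthTensor.pair_perp hQ hq hd hcd
  obtain ⟨y, hyX, hy⟩ := Transvec.Orth.exists_anisotropic hQ hXn fun h => by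
    rw [h, finrank_bot] at hXf; simp at hXf
  obtain ⟨hye, hyd⟩ := (hXm y).1 hyX
  rw [pol_Qd h2] at hcd hye hyd
  refine ⟨d, y, y ⬝ᵥ y, fun h => hy (by rw [Qd, h, zero_div]), ?_, hcd, by rw [dotProduct_comm, hye],
    by rw [dotProduct_comm, hyd], rfl⟩
  rw [Qd, div_eq_zero_iff] at hd
  exact hd.resolve_right h2

theorem exists_singular3 (h2 : (2 : F) ≠ 0) : ∃ c : Fin 3 → F, c ≠ 0 ∧ c ⬝ᵥ c = 0 := by
  obtain ⟨c, -, hc0, hc⟩ := Transvec.Orth.exists_singular (nondeg_Qd (κ := Fin 3) h2) (X := ⊤)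
    (by rw [finrank_top, Module.finrank_pi]; simp)
  refine ⟨c, hc0, ?_⟩
  rw [Qd, div_eq_zero_iff] at hc
  exact hc.resolve_right h2

/-- A unit with a prescribed coordinate non-zero and avoiding 1. -/
theorem exists_two_coord (C : Ctx M) {i k : Fin 3} (hik : i ≠ k) :
    ∃ a : Fin 3 → F, a ⬝ᵥ a = 1 ∧ a i ≠ 0 ∧ a k ≠ 0 := by
  classical
  obtain ⟨s, hs0, hs1, hs2⟩ : ∃ s : F, s ≠ 0 ∧ s ≠ 1 ∧ s ≠ -1 := by
    by_contra hcon
    push Not at hcon
    have hsub : (Finset.univ : Finset F) ⊆ {0, 1, -1} := fun s _ => by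
      simp only [Finset.mem_insert, Finset.mem_singleton]
      by_contra h
      push Not at h
      exact h.2.2 (hcon s h.1 h.2.1)
    have := (Finset.card_le_card hsub).trans Finset.card_le_three
    rw [Finset.card_univ] at this
    have := C.h5
    omega
  obtain ⟨x, y, hxy⟩ := sum_sq C.h2 (1 - s * s)
  have hw : (1 - s * s) ≠ 0 := fun h => (mul_self_eq_one_iff.1 (by linear_combination -h)).elim hs1 hs2
  obtain ⟨l, hli, hlk⟩ : ∃ l : Fin 3, l ≠ i ∧ l ≠ k := by revert hik; revert i k; decide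
  by_cases hx : x = 0
  · refine ⟨fun j => if j = i then s else if j = k then y else x, ?_, by simp [hs0], fun h => ?_⟩
    · rw [dot3]
      subst hx
      fin_cases i <;> fin_cases k <;> simp at hik ⊢ <;> linear_combination hxy
    · simp only [if_neg hik.symm, if_pos] at h
      exact hw (by rw [← hxy, hx, h]; ring)
  · refine ⟨fun j => if j = i then s else if j = k then x else y, ?_, by simp [hs0], by simp [hik.symm, hx]⟩
    rw [dot3]
    fin_cases i <;> fin_cases k <;> simp at hik ⊢ <;> linear_combination hxy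

section Full

variable (C : Ctx M) (hR : RowRoot M)
include C hR

theorem root_unit {a c y : Fin 3 → F} (ha : a ⬝ᵥ a = 1) (hc : c ⬝ᵥ c = 0) (hcy : c ⬝ᵥ y = 0) :
    ∃ g ∈ M, IsSiegel Qd g (ten a c) (ten a y) := by
  obtain ⟨x, hx, hxa, -⟩ := move C.h2 (a := (ee 0 : Fin 3 → F)) (b := a) (by rw [ee_self]; exact one_ne_zero)
    (by rw [ee_self, ha])
  obtain ⟨n, hn, -⟩ := exists_nu C.h2 (0 : Fin 3)
  have hxa' := hxa
  obtain ⟨z, hz, hzx⟩ : ∃ z : Fin 3 → F, z ⬝ᵥ z ≠ 0 ∧ (IsSquare (x ⬝ᵥ x) ↔ IsSquare (z ⬝ᵥ z)) := by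
    by_cases hs : IsSquare (x ⬝ᵥ x)
    · exact ⟨ee 0, by rw [ee_self]; exact one_ne_zero, iff_of_true hs (unit_sq (ee_self 0))⟩
    · exact ⟨n, nsq_ne hn, iff_of_false hs hn⟩
  have hm := C.memZ hx hz hzx
  have hhO := (mem_SO3.1 (hh_mem C.h2 z)).1
  obtain ⟨ε, hε, hεa⟩ : ∃ ε : F, ε * ε = 1 ∧ mv (hh x) (ee 0) = ε • a := by
    rcases hxa' with h | h
    · exact ⟨1, by ring, by rw [h, one_smul]⟩
    · exact ⟨-1, by ring, by rw [h, neg_one_smul]⟩
  have hcc : (ε • mv (hh z) c) ⬝ᵥ (ε • mv (hh z) c) = 0 := by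
    rw [smul_dotProduct, dotProduct_smul, (mem_iso C.h2).1 hhO, hc, smul_zero, smul_zero]
  have hcy' : (ε • mv (hh z) c) ⬝ᵥ (ε • mv (hh z) y) = 0 := by
    rw [smul_dotProduct, dotProduct_smul, (mem_iso C.h2).1 hhO, hcy, smul_zero, smul_zero]
  obtain ⟨S, -, -, hS⟩ := exists_sg C.h2 hcc hcy'
  refine ⟨_, M.mul_mem (M.mul_mem hm (hR 0 _ _ S hcc hcy' hS)) (M.inv_mem hm), ?_⟩
  have := Transvec.Orth.isSiegel_conj (nondeg_Qd C.h2) (C.iso hm) (dg_single_siegel C.h2 0 hS)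
  have e : ∀ v, mv (kr (hh x) (hh z)) (ten (ee 0) (ε • mv (hh z) v)) = ten a v := fun v => by
    rw [mv_kr_ten, hεa, mv_smul, ← mv_mul, hh_mul_self, mv_one, ten_smul_left, ten_smul_right, smul_smul, hε,
      one_smul]
  rwa [e, e] at this

/-- All root elements at one singular vector. -/
def Full (M : Subgroup (GL (Fin 3 × Fin 3) F)) (u : Fin 3 × Fin 3 → F) : Prop :=
  ∀ y, u ⬝ᵥ y = 0 → ∃ g ∈ M, IsSiegel Qd g u y

theorem full_row (i : Fin 3) {c : Fin 3 → F} (hc0 : c ≠ 0) (hc : c ⬝ᵥ c = 0) : Full M (ten (ee i) c) := by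
  obtain ⟨d, y, η, hη, hdd, hcd, hcy, hdy, hyy⟩ := exists_triple C.h2 hc0 hc
  have hQ := nondeg_Qd (κ := Fin 3 × Fin 3) C.h2
  set u : Fin 3 × Fin 3 → F := ten (ee i) c with hu
  have huu : u ⬝ᵥ u = 0 := by rw [hu, ten_dot, hc, mul_zero]
  have hqu : Qd u = 0 := by rw [Qd, huu, zero_div]
  let W : Set (Fin 3 × Fin 3 → F) := {z | u ⬝ᵥ z = 0 ∧ ∃ g ∈ M, IsSiegel Qd g u z}
  have hadd : ∀ {a b}, a ∈ W → b ∈ W → a + b ∈ W := by
    rintro a b ⟨ha, g, hg, hgs⟩ ⟨hb, g', hg', hgs'⟩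
    exact ⟨by rw [dotProduct_add, ha, hb, add_zero], g * g', M.mul_mem hg hg',
      Transvec.Orth.isSiegel_mul hQ hqu (by rw [pol_Qd C.h2]; exact ha) (by rw [pol_Qd C.h2]; exact hb) hgs hgs'⟩
  have hrow : ∀ v, c ⬝ᵥ v = 0 → ten (ee i) v ∈ W := fun v hv => by
    obtain ⟨g, hg, hgs⟩ := root_unit C hR (ee_self i) hc hv
    exact ⟨by rw [hu, ten_dot, hv, mul_zero], g, hg, hgs⟩
  have hfix : ∀ {g z}, g ∈ M → mv g u = u → z ∈ W → mv g z ∈ W := by
    rintro g z hg hgu ⟨hz, s, hs, hss⟩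
    refine ⟨?_, g * s * g⁻¹, M.mul_mem (M.mul_mem hg hs) (M.inv_mem hg), ?_⟩
    · rw [← hgu, (mem_iso C.h2).1 (C.iso hg), hz]
    · have := Transvec.Orth.isSiegel_conj hQ (C.iso hg) hss
      rwa [hgu] at this
  have hA : ∀ a, a ⬝ᵥ a = 1 → a i ≠ 0 → ∀ t : F, t • ten a c ∈ W := fun a ha hai t => by
    have hs : ∀ τ : F, c ⬝ᵥ (τ • y) = 0 := fun τ => by rw [dotProduct_smul, hcy, smul_zero]
    obtain ⟨g, hg, hgs⟩ := root_unit C hR ha hc hcy
    rw [siegel_iff C.h2] at hgs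
    have hgu : mv g u = u := by
      rw [hgs, hu, ten_dot, ten_dot, ten_dot, hc, hcy]
      simp
    obtain ⟨τ, hτ⟩ : ∃ τ, τ = -t / (a i * η) := ⟨_, rfl⟩
    have h1 := hfix hg hgu (hrow _ (hs τ))
    have h3 := hrow _ (hs (-τ))
    have key : mv g (ten (ee i) (τ • y)) + ten (ee i) ((-τ) • y) = t • ten a c := by
      rw [hgs, ten_dot, ten_dot, ee_dot, smul_dotProduct, smul_dotProduct, dotProduct_comm y c, hcy, hyy,
        smul_zero, mul_zero, zero_smul, add_zero, mul_zero, add_zero, ten_smul_right, ten_smul_right, neg_smul,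
        sub_add_eq_add_sub, add_neg_cancel, zero_sub, ← neg_smul]
      congr 1
      rw [hτ, smul_eq_mul]
      field_simp
    rw [← key]
    exact hadd h1 h3
  have hother : ∀ k, k ≠ i → ∀ v, ten (ee k) v ∈ W := fun k hki => by
    obtain ⟨a, ha, hai, hak⟩ := exists_two_coord C (Ne.symm hki)
    have ha' : (fun j => if j = k then -a j else a j) ⬝ᵥ (fun j => if j = k then -a j else a j) = 1 := by
      rw [← ha]; simp only [dotProduct]; refine Finset.sum_congr rfl fun j _ => ?_; split_ifs <;> ring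
    have hc1 : ∀ t : F, t • ten (ee k) c ∈ W := fun t => by
      have e1 := hadd (hA a ha hai (t / (2 * a k))) (hA _ ha' (by rwa [if_neg (Ne.symm hki)]) (-(t / (2 * a k))))
      have : (t / (2 * a k)) • ten a c + (-(t / (2 * a k))) • ten (fun j => if j = k then -a j else a j) c =
          t • ten (ee k) c := by
        funext ⟨j, l⟩
        have := C.h2
        simp only [Pi.add_apply, Pi.smul_apply, smul_eq_mul, ten_apply, ee_apply]
        split_ifs with h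
        · subst h; field_simp; ring
        · ring
      rwa [this] at e1
    -- moving c inside the row k
    have hmv : ∀ t s : F, t • ten (ee k) (c + s • y - (s ^ 2 * η / 2) • d) ∈ W := fun t s => by
      obtain ⟨S, -, -, hS⟩ := exists_sg C.h2 (c := d) (y := s • y) hdd (by rw [dotProduct_smul, hdy, smul_zero])
      have hg := hR k d (s • y) S hdd (by rw [dotProduct_smul, hdy, smul_zero]) hS
      have hgu : mv (dg (Pi.mulSingle k S)) u = u := by
        rw [hu, mv_dg_ten, Pi.mulSingle_eq_of_ne (Ne.symm hki), mv_one]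
      have h1 := hfix hg hgu (hc1 t)
      rw [mv_smul, mv_dg_ten, Pi.mulSingle_eq_same] at h1
      rw [siegel_iff C.h2] at hS
      rw [hS, hcd, one_smul, dotProduct_smul, hcy, smul_zero, zero_add, mul_one, smul_dotProduct, dotProduct_smul,
        hyy, smul_eq_mul, smul_eq_mul] at h1
      rwa [show s ^ 2 * η / 2 = s * (s * η) / 2 by ring]
    intro v
    have hv := basis3 (w := v) hη hc hdd hcd hcy hdy hyy
    set α := v ⬝ᵥ d
    set β := v ⬝ᵥ c
    set γ := v ⬝ᵥ y / η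
    rw [hv]
    have e1 := hadd (hmv (γ / 2 - β / η) 1) (hmv (-(γ / 2) - β / η) (-1))
    have e2 := hadd e1 (hc1 (α + 2 * β / η))
    convert e2 using 1
    have := C.h2
    funext ⟨j, l⟩
    simp only [Pi.add_apply, Pi.sub_apply, Pi.smul_apply, smul_eq_mul, ten_apply]
    field_simp
    ring
  intro z hz
  have hzi : c ⬝ᵥ (fun l => z (i, l)) = 0 := by
    rw [← hz, hu]
    symm
    simp only [dotProduct, Fintype.sum_prod_type, ten, ee_apply]
    rw [Finset.sum_eq_single i] <;> simp +contextual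
  have hsplit : z = ten (ee i) (fun l => z (i, l)) + ten (ee (i + 1)) (fun l => z (i + 1, l)) +
      ten (ee (i + 2)) (fun l => z (i + 2, l)) := by
    funext ⟨j, l⟩
    simp only [Pi.add_apply, ten_apply, ee_apply]
    fin_cases i <;> fin_cases j <;> simp
  have := hadd (hadd (hrow _ hzi) (hother (i + 1) (by fin_cases i <;> decide) (fun l => z (i + 1, l))))
    (hother (i + 2) (by fin_cases i <;> decide) (fun l => z (i + 2, l)))
  rw [← hsplit] at this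
  exact this.2

theorem false_of_rowRoot : False := by
  have hQ := nondeg_Qd (κ := Fin 3 × Fin 3) C.h2
  have hscale : ∀ {u} (t : F), t ≠ 0 → Full M u → Full M (t • u) := fun {u} t ht hu y hy => by
    rw [smul_dotProduct, smul_eq_zero] at hy
    have hy' := hy.resolve_left ht
    obtain ⟨g, hg, hgs⟩ := hu (t • y) (by rw [dotProduct_smul, hy', smul_zero])
    refine ⟨g, hg, fun z => ?_⟩
    rw [siegel_iff C.h2] at hgs
    rw [hgs z, pol_Qd C.h2, pol_Qd C.h2]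
    show _ = z + (z ⬝ᵥ t • u) • y - (z ⬝ᵥ y + (y ⬝ᵥ y) / 2 * (z ⬝ᵥ t • u)) • (t • u)
    simp only [dotProduct_smul, smul_dotProduct, smul_eq_mul]
    module
  obtain ⟨c, hc0, hc⟩ := exists_singular3 (F := F) C.h2
  obtain ⟨d, y, η, hη, hdd, hcd, hcy, hdy, hyy⟩ := exists_triple C.h2 hc0 hc
  have hd0 : d ≠ 0 := fun h => by rw [h, dotProduct_zero] at hcd; exact zero_ne_one hcd
  have near : ∀ {p p' w}, Full M p → Full M p' → p ⬝ᵥ p = 0 → p' ⬝ᵥ p' = 0 → p' ⬝ᵥ p = 1 → w ⬝ᵥ w = 0 →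
      w ⬝ᵥ p = 1 → Full M w := by
    intro p p' w hp hp' hpp hpp' h1 hww hw
    obtain ⟨x, hx, -, hmv⟩ := Transvec.Orth.exists_move_along hQ (v := p) (u := p') (w := w)
      (by rw [Qd, hpp, zero_div]) (by rw [Qd, Qd, hpp', hww]) (by rw [pol_Qd C.h2, h1]) (by rw [pol_Qd C.h2, hw])
    rw [pol_Qd C.h2] at hx
    obtain ⟨g, hg, hgs⟩ := hp x hx
    intro z hz
    have hgw := hmv g hgs
    obtain ⟨s, hs, hss⟩ := hp' (mv g⁻¹ z) (by
      rw [← (mem_iso C.h2).1 (C.iso hg), mv_mv_inv, hgw, hz])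
    refine ⟨g * s * g⁻¹, M.mul_mem (M.mul_mem hg hs) (M.inv_mem hg), ?_⟩
    have := Transvec.Orth.isSiegel_conj hQ (C.iso hg) hss
    rwa [hgw, mv_mv_inv] at this
  have all : ∀ w : Fin 3 × Fin 3 → F, w ≠ 0 → w ⬝ᵥ w = 0 → Full M w := by
    intro w hw0 hww
    obtain ⟨i, c', hc'0, hc', hne⟩ : ∃ (i : Fin 3) (c' : Fin 3 → F), c' ≠ 0 ∧ c' ⬝ᵥ c' = 0 ∧
        w ⬝ᵥ ten (ee i) c' ≠ 0 := by
      by_contra hcon
      push Not at hcon
      have hd : ∀ i v, w ⬝ᵥ ten (ee i) v = (fun l => w (i, l)) ⬝ᵥ v := fun i v => by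
        simp only [dotProduct, Fintype.sum_prod_type, ten, ee_apply]
        rw [Finset.sum_eq_single i] <;> simp +contextual
      set e := c + y - (η / 2) • d with he
      have hee : e ⬝ᵥ e = 0 := by
        simp only [he, sub_dotProduct, dotProduct_sub, add_dotProduct, dotProduct_add, smul_dotProduct,
          dotProduct_smul, smul_eq_mul, hc, hdd, hcd, hcy, hdy, hyy, dotProduct_comm d c, dotProduct_comm y c,
          dotProduct_comm y d]
        have := C.h2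
        field_simp
        ring
      have he0 : e ≠ 0 := fun h => hη (by
        have := congrArg (y ⬝ᵥ ·) h
        simpa [he, dotProduct_sub, dotProduct_add, dotProduct_smul, hyy, dotProduct_comm y c, hcy,
          dotProduct_comm y d, hdy] using this)
      refine hw0 (funext fun ⟨i, l⟩ => ?_)
      have h1 := hcon i c hc0 hc
      have h3 := hcon i d hd0 hdd
      have h4 := hcon i e he0 hee
      rw [hd] at h1 h3 h4
      have hb := basis3 (w := fun l => w (i, l)) hη hc hdd hcd hcy hdy hyy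
      have hwy : (fun l => w (i, l)) ⬝ᵥ y = 0 := by
        simpa [he, dotProduct_sub, dotProduct_add, dotProduct_smul, h1, h3] using h4
      rw [h1, h3, hwy, zero_div] at hb
      simpa using congrFun hb l
    obtain ⟨d', y', η', -, hdd', hcd', -, -, -⟩ := exists_triple C.h2 hc'0 hc'
    have hd'0 : d' ≠ 0 := fun h => by rw [h, dotProduct_zero] at hcd'; exact zero_ne_one hcd'
    set r := w ⬝ᵥ ten (ee i) c' with hr
    have h1 := near (full_row C hR i hc'0 hc') (full_row C hR i hd'0 hdd') (by rw [ten_dot, hc', mul_zero])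
      (by rw [ten_dot, hdd', mul_zero]) (by rw [ten_dot, ee_self, one_mul, dotProduct_comm, hcd'])
      (w := r⁻¹ • w) (by rw [smul_dotProduct, dotProduct_smul, hww, smul_zero, smul_zero])
      (by rw [smul_dotProduct, smul_eq_mul, ← hr, inv_mul_cancel₀ hne])
    have := hscale r hne h1
    rwa [smul_smul, mul_inv_cancel₀ hne, one_smul] at this
  refine C.proper (Transvec.Orth.eq_omega hQ (by simp) C.le fun u z hu huz => ?_)
  by_cases hu0 : u = 0
  · refine ⟨1, M.one_mem, fun x => ?_⟩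
    rw [mv_one, hu0, Transvec.Orth.pol_zero_right hQ]
    simp
  rw [Qd, div_eq_zero_iff] at hu
  rw [pol_Qd C.h2] at huz
  exact all u hu0 (hu.resolve_right C.h2) z huz

end Full

end Cfsg.Agent.TensorSquare
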