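/-
Row-wise acting members fixing one row are scalar on every row; centralisers of two factor half turns.
-/
import Cfsg.Agent.Lib.TensorSquare.Ctx

set_option autoImplicit false
set_option linter.unusedSectionVars false

namespace Cfsg.Agent.TensorSquare

open scoped Matrix Kronecker
open Matrix Cfsg.Agent.Transvec Cfsg.Agent.TensorMax
open Cfsg.Agent.TensorMax.U (kr mv_kr_ten isKron_kr isKron_mul isKron_inv mv_kron_ten ext_ten_mv)
open Cfsg.Agent.Transvec.Orth (pol IsSiegel)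

variable {F : Type*} [Field F]

/-- Acting as a scalar. -/
def IsSc (A : GL (Fin 3) F) : Prop := ∃ ε : F, ∀ w, mv A w = ε • w

theorem sc_sq (h2 : (2 : F) ≠ 0) {A : GL (Fin 3) F} (hA : A ∈ O3 F) {ε : F} (h : ∀ w, mv A w = ε • w) :
    ε * ε = 1 := by
  have := (mem_iso h2).1 hA (ee 0) (ee 0)
  rwa [h, smul_dotProduct, dotProduct_smul, ee_self, smul_eq_mul, smul_eq_mul, mul_one] at this

theorem sc_so3 (h2 : (2 : F) ≠ 0) {A : GL (Fin 3) F} (hA : A ∈ SO3 F) (h : IsSc A) : A = 1 := by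
  obtain ⟨ε, h⟩ := h
  have h1 := sc_sq h2 (mem_SO3.1 hA).1 h
  have h3 := (mem_SO3.1 hA).2
  rw [show (A : Matrix (Fin 3) (Fin 3) F) = ε • 1 from Matrix.ext_iff_mulVec.2 fun w => by
    rw [Matrix.smul_mulVec, Matrix.one_mulVec]; exact h w, Matrix.det_smul, Matrix.det_one, Fintype.card_fin] at h3
  have : ε = 1 := by linear_combination h3 - ε * h1
  exact ext_mv fun w => by rw [h, this, one_smul, mv_one]

theorem comm_so3 (h2 : (2 : F) ≠ 0) {A B : GL (Fin 3) F} (hA : A ∈ O3 F) (hB : B ∈ O3 F) :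
    A * B * A⁻¹ * B⁻¹ ∈ SO3 F := by
  refine mem_SO3.2 ⟨(O3 F).mul_mem ((O3 F).mul_mem ((O3 F).mul_mem hA hB) ((O3 F).inv_mem hA)) ((O3 F).inv_mem hB), ?_⟩
  have : Matrix.GeneralLinearGroup.det (A * B * A⁻¹ * B⁻¹) = 1 := by
    simp only [map_mul, map_inv]
    rw [mul_inv_eq_one, mul_inv_cancel_comm]
  show ((Matrix.GeneralLinearGroup.det (A * B * A⁻¹ * B⁻¹) : Fˣ) : F) = 1
  rw [this]; rfl

theorem siegel_scale [Fintype F] (h2 : (2 : F) ≠ 0) {g : GL (Fin 3) F} {u y : Fin 3 → F} {κ : F}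
    (h : IsSiegel Qd g (κ • u) y) : IsSiegel Qd g u (κ • y) := by
  rw [siegel_iff h2] at h ⊢
  intro z
  rw [h]
  simp only [dotProduct_smul, smul_dotProduct, smul_eq_mul]
  module

/-! ### Normalised groups containing a non-scalar element -/

theorem proj_siegel [Fintype F] (h2 : (2 : F) ≠ 0) (h5 : 5 ≤ Fintype.card F) {P : Subgroup (GL (Fin 3) F)}
    (hP : ∀ A ∈ P, A ∈ O3 F)
    (hN : ∀ S c y, c ⬝ᵥ c = 0 → c ⬝ᵥ y = 0 → IsSiegel Qd S c y → ∀ A ∈ P, S * A * S⁻¹ ∈ P)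
    {G : GL (Fin 3) F} (hG : G ∈ P) (hns : ¬ IsSc G) :
    ∀ S c y, c ⬝ᵥ c = 0 → c ⬝ᵥ y = 0 → IsSiegel Qd S c y → S ∈ P := by
  classical
  have hQ := nondeg_Qd (κ := Fin 3) h2
  have hGd := (mem_iso h2).1 (hP G hG)
  have hq : ∀ {v : Fin 3 → F}, v ⬝ᵥ v = 0 → Qd v = 0 := fun {v} h => by rw [Qd, h, zero_div]
  obtain ⟨c, hc0, hc, hcc'⟩ : ∃ c : Fin 3 → F, c ≠ 0 ∧ c ⬝ᵥ c = 0 ∧ c ⬝ᵥ mv G c ≠ 0 := by
    by_contra hcon
    push Not at hcon
    have line : ∀ c : Fin 3 → F, c ≠ 0 → c ⬝ᵥ c = 0 → ∃ t : F, mv G c = t • c := fun c hc0 hc => by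
      obtain ⟨d, y, η, hη, hdd, hcd, hcy, hdy, hyy⟩ := exists_triple h2 hc0 hc
      have hb := basis3 (w := mv G c) hη hc hdd hcd hcy hdy hyy
      rw [dotProduct_comm (mv G c) c, hcon c hc0 hc, zero_smul, add_zero] at hb
      have h0 := hGd c c
      rw [hc, hb] at h0
      simp only [add_dotProduct, dotProduct_add, smul_dotProduct, dotProduct_smul, smul_eq_mul, hc, hcy, hyy,
        dotProduct_comm y c, mul_zero, zero_add, add_zero] at h0
      have hγ : mv G c ⬝ᵥ y / η = 0 := by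
        rcases mul_eq_zero.1 h0 with h | h
        · exact h
        · rcases mul_eq_zero.1 h with h | h
          · exact h
          · exact absurd h hη
      rw [hγ, zero_smul, add_zero] at hb
      exact ⟨_, hb⟩
    obtain ⟨c, hc0, hc⟩ := exists_singular3 (F := F) h2
    obtain ⟨d, y, η, hη, hdd, hcd, hcy, hdy, hyy⟩ := exists_triple h2 hc0 hc
    have hd0 : d ≠ 0 := fun h => by rw [h, dotProduct_zero] at hcd; exact zero_ne_one hcd
    set e := c + y - (η / 2) • d with he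
    have hee : e ⬝ᵥ e = 0 := by
      simp only [he, sub_dotProduct, dotProduct_sub, add_dotProduct, dotProduct_add, smul_dotProduct,
        dotProduct_smul, smul_eq_mul, hc, hdd, hcd, hcy, hdy, hyy, dotProduct_comm d c, dotProduct_comm y c,
        dotProduct_comm y d]
      field_simp
      ring
    have hec : e ⬝ᵥ c = -(η / 2) := by
      simp [he, hc, hcd, hcy, dotProduct_comm d c, dotProduct_comm y c]
    have hed : e ⬝ᵥ d = 1 := by simp [he, hdd, hcd, hdy, dotProduct_comm y d]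
    have he0 : e ≠ 0 := fun h => by rw [h, zero_dotProduct] at hed; exact zero_ne_one hed
    obtain ⟨α, hα⟩ := line c hc0 hc
    obtain ⟨β, hβ⟩ := line d hd0 hdd
    obtain ⟨γ, hγ⟩ := line e he0 hee
    have h1 : α * β = 1 := by
      simpa [hα, hβ, smul_dotProduct, dotProduct_smul, hcd, mul_comm] using (hGd c d)
    have h3 : γ * α = 1 := by
      have := hGd e c
      rw [hγ, hα, smul_dotProduct, dotProduct_smul, smul_eq_mul, smul_eq_mul, hec] at this
      have hη2 : -(η / 2) ≠ 0 := neg_ne_zero.2 (div_ne_zero hη h2)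
      refine mul_right_cancel₀ hη2 ?_
      linear_combination this
    have h4 : γ * β = 1 := by
      simpa [hγ, hβ, smul_dotProduct, dotProduct_smul, hed, mul_comm] using (hGd e d)
    have hβα : β = α := by linear_combination (-β) * h3 + α * h4
    have hγα : γ = α := by linear_combination (-γ) * h1 + α * h4
    refine hns ⟨α, fun w => ?_⟩
    rw [basis3 (w := w) hη hc hdd hcd hcy hdy hyy]
    have hy : mv G y = α • y := by
      have e1 : mv G y = mv G e - mv G c + (η / 2) • mv G d := by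
        rw [← mv_smul, ← mv_sub, ← mv_add]
        congr 1
        rw [he]; abel
      rw [e1, hγ, hα, hβ, hβα, hγα, he]
      module
    simp only [mv_add, mv_smul, hα, hβ, hβα, hy]
    module
  obtain ⟨κ, hκ⟩ : ∃ κ, κ = c ⬝ᵥ mv G c := ⟨_, rfl⟩
  rw [← hκ] at hcc'
  obtain ⟨d, hdef⟩ : ∃ d, d = κ⁻¹ • mv G c := ⟨_, rfl⟩
  have hGc : mv G c = κ • d := by rw [hdef, smul_smul, mul_inv_cancel₀ hcc', one_smul]
  have hdd : d ⬝ᵥ d = 0 := by rw [hdef, smul_dotProduct, dotProduct_smul, hGd, hc, smul_zero, smul_zero]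
  have hcd : c ⬝ᵥ d = 1 := by rw [hdef, dotProduct_smul, ← hκ, smul_eq_mul, inv_mul_cancel₀ hcc']
  obtain ⟨hXn, hXf, hXm⟩ := OrthTensor.pair_perp hQ (hq hc) (hq hdd) (by rw [pol_Qd h2]; exact hcd)
  obtain ⟨y, hyX, hy⟩ := Transvec.Orth.exists_anisotropic hQ hXn fun h => by
    rw [h, finrank_bot] at hXf; simp at hXf
  obtain ⟨hyc, hyd⟩ := (hXm y).1 hyX
  rw [pol_Qd h2, dotProduct_comm] at hyc hyd
  obtain ⟨η, hyy⟩ : ∃ η, y ⬝ᵥ y = η := ⟨_, rfl⟩
  have hη : η ≠ 0 := fun h => hy (by rw [Qd, hyy, h, zero_div])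
  have hcy : ∀ r : F, c ⬝ᵥ (r • y) = 0 := fun r => by rw [dotProduct_smul, hyc, smul_zero]
  have hdy : ∀ r : F, d ⬝ᵥ (r • y) = 0 := fun r => by rw [dotProduct_smul, hyd, smul_zero]
  choose uc huc _ hucs using fun r : F => exists_sg h2 hc (hcy r)
  choose ud hud _ huds using fun r : F => exists_sg h2 hdd (hdy r)
  have ucmul : ∀ r s, uc r * uc s = uc (r + s) := fun r s => by
    have := Transvec.Orth.isSiegel_mul hQ (hq hc) (by rw [pol_Qd h2]; exact hcy r) (by rw [pol_Qd h2]; exact hcy s)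
      (hucs r) (hucs s)
    rw [← add_smul] at this
    exact Transvec.Orth.isSiegel_unique this (hucs _)
  have uc0 : uc 0 = 1 := Transvec.Orth.isSiegel_unique (hucs 0) (by
    rw [zero_smul]; exact Transvec.Orth.isSiegel_zero hQ c)
  have ucinv : ∀ r, (uc r)⁻¹ = uc (-r) := fun r => inv_eq_of_mul_eq_one_right (by rw [ucmul, add_neg_cancel, uc0])
  have nc : ∀ r, ∀ A ∈ P, uc r * A * (uc r)⁻¹ ∈ P := fun r => hN _ _ _ hc (hcy r) (hucs r)
  -- every Siegel element at d is congruent to one at c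
  obtain ⟨σ, hσ⟩ : ∃ σ, σ = (κ • mv G y) ⬝ᵥ y / η := ⟨_, rfl⟩
  have hGyd : (κ • mv G y) ⬝ᵥ d = 0 := by
    rw [smul_dotProduct, hdef, dotProduct_smul, hGd, dotProduct_comm y c, hyc, smul_zero, smul_zero]
  have hGy : κ • mv G y = σ • y + ((κ • mv G y) ⬝ᵥ c) • d + (0 : F) • c := by
    have hb := basis3 (w := κ • mv G y) hη hc hdd hcd hyc hyd hyy
    rw [hGyd, ← hσ] at hb
    rw [zero_smul, add_zero] 
    conv_lhs => rw [hb]
    rw [zero_smul, zero_add, add_comm]
  have hσ0 : σ ≠ 0 := fun h => by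
    rw [h, zero_smul, zero_add, zero_smul, add_zero] at hGy
    have := congrArg (fun v => v ⬝ᵥ v) hGy
    simp only [smul_dotProduct, dotProduct_smul, hGd, hdd, hyy, smul_eq_mul, mul_zero] at this
    exact mul_ne_zero hcc' (mul_ne_zero hcc' hη) this
  have hconj : ∀ r, G * uc r * G⁻¹ = ud (r * σ) := fun r => by
    have h1 := Transvec.Orth.isSiegel_conj hQ (hP G hG) (hucs r)
    rw [hGc] at h1
    have h3 := siegel_scale h2 h1
    rw [mv_smul, smul_comm, hGy, zero_smul, add_zero, smul_add, smul_smul, smul_smul] at h3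
    exact Transvec.Orth.isSiegel_unique h3
      (Transvec.Orth.isSiegel_add_self hQ (hq hdd) (by rw [pol_Qd h2]; exact hdy _) _ (huds _))
  -- Cl x: x is congruent to some Siegel element at c
  let Cl : GL (Fin 3) F → Prop := fun x => (∀ A ∈ P, x⁻¹ * A * x ∈ P) ∧ ∃ r, x⁻¹ * uc r ∈ P
  have hCd : ∀ r, Cl (ud r) := fun r => by
    refine ⟨fun A hA => ?_, r / σ, ?_⟩
    · have := hN _ _ _ hdd (hdy (-r)) (huds (-r)) A hA
      have e : ud (-r) = (ud r)⁻¹ := by
        refine (inv_eq_of_mul_eq_one_right ?_).symm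
        have := Transvec.Orth.isSiegel_mul hQ (hq hdd) (by rw [pol_Qd h2]; exact hdy r)
          (by rw [pol_Qd h2]; exact hdy (-r)) (huds r) (huds (-r))
        rw [← add_smul, add_neg_cancel, zero_smul] at this
        exact Transvec.Orth.isSiegel_unique this (Transvec.Orth.isSiegel_zero hQ d)
      rwa [e, inv_inv] at this
    · rw [← div_mul_cancel₀ r hσ0, ← hconj, div_mul_cancel₀ r hσ0,
        show (G * uc (r / σ) * G⁻¹)⁻¹ * uc (r / σ) = G * ((uc (r / σ))⁻¹ * G⁻¹ * uc (r / σ)) by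
          simp only [_root_.mul_inv_rev, inv_inv, mul_assoc]]
      refine P.mul_mem hG ?_
      rw [ucinv]
      have := nc (-(r / σ)) G⁻¹ (P.inv_mem hG)
      rwa [ucinv, neg_neg] at this
  have hCc : ∀ r, Cl (uc r) := fun r => ⟨fun A hA => by
    have := nc (-r) A hA
    rwa [ucinv, neg_neg, ← ucinv r] at this, r, by rw [inv_mul_cancel]; exact P.one_mem⟩
  have hCm : ∀ {x z}, Cl x → Cl z → Cl (x * z) := by
    rintro x z ⟨hx, r, hr⟩ ⟨hz, s, hs⟩
    refine ⟨fun A hA => ?_, r + s, ?_⟩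
    · simpa [_root_.mul_inv_rev, mul_assoc] using hz _ (hx A hA)
    · have : (x * z)⁻¹ * uc (r + s) = (z⁻¹ * (x⁻¹ * uc r) * z) * (z⁻¹ * uc s) := by
        rw [← ucmul]; group
      rw [this]
      exact P.mul_mem (hz _ hr) hs
  have hCu : ∀ {x}, Cl x → ∀ r, x * uc r * x⁻¹ * (uc r)⁻¹ ∈ P := by
    rintro x ⟨hx, s, hs⟩ r
    have e : x * uc r * x⁻¹ * (uc r)⁻¹ =
        uc s * ((x⁻¹ * uc s)⁻¹ * (uc r * (x⁻¹ * uc s) * (uc r)⁻¹)) * (uc s)⁻¹ := by
      have hcomm : (uc s)⁻¹ * (uc r)⁻¹ = (uc r)⁻¹ * (uc s)⁻¹ := by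
        rw [← _root_.mul_inv_rev, ← _root_.mul_inv_rev, ucmul, ucmul, add_comm]
      calc _ = x * uc r * x⁻¹ * uc s * ((uc s)⁻¹ * (uc r)⁻¹) := by group
        _ = _ := by rw [hcomm]; group
    rw [e]
    exact nc s _ (P.mul_mem (P.inv_mem hs) (nc r _ hs))
  -- the torus element
  have hw : ∀ t : F, t ≠ 0 → mv (uc t * ud (2 / (t * η)) * uc t) c = (-(2 / (t * η)) / t) • d ∧
      mv (uc t * ud (2 / (t * η)) * uc t) d = (-t / (2 / (t * η))) • c ∧
      mv (uc t * ud (2 / (t * η)) * uc t) y = -y := fun t ht => by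
    have h1 := hucs t
    have h3 := huds (2 / (t * η))
    rw [siegel_iff h2] at h1 h3
    simp only [mv_mul, h1, h3, dotProduct_comm y c, dotProduct_comm d c, dotProduct_comm y d,
      add_dotProduct, sub_dotProduct, smul_dotProduct, dotProduct_smul, smul_eq_mul, hc, hdd, hcd, hyc, hyd, hyy]
    refine ⟨?_, ?_, ?_⟩ <;>
    · funext j
      simp only [Pi.add_apply, Pi.sub_apply, Pi.smul_apply, Pi.neg_apply, smul_eq_mul]
      field_simp
      ring
  obtain ⟨l, hl0, hl1⟩ : ∃ l : F, l ≠ 0 ∧ l * l ≠ 1 := by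
    by_contra hcon
    push Not at hcon
    have hsub : (Finset.univ : Finset F) ⊆ {0, 1, -1} := fun s _ => by
      simp only [Finset.mem_insert, Finset.mem_singleton]
      by_cases hs : s = 0
      · exact Or.inl hs
      · exact Or.inr (mul_self_eq_one_iff.1 (hcon s hs))
    have := (Finset.card_le_card hsub).trans Finset.card_le_three
    rw [Finset.card_univ] at this
    omega
  have hT : Cl (uc 1 * ud (2 / (1 * η)) * uc 1 * (uc l * ud (2 / (l * η)) * uc l)) :=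
    hCm (hCm (hCm (hCc _) (hCd _)) (hCc _)) (hCm (hCm (hCc _) (hCd _)) (hCc _))
  obtain ⟨T, hTd⟩ : ∃ T, T = uc 1 * ud (2 / (1 * η)) * uc 1 * (uc l * ud (2 / (l * η)) * uc l) := ⟨_, rfl⟩
  rw [← hTd] at hT
  have hTO : T ∈ O3 F := by
    rw [hTd]
    exact (O3 F).mul_mem ((O3 F).mul_mem ((O3 F).mul_mem (huc _) (hud _)) (huc _))
      ((O3 F).mul_mem ((O3 F).mul_mem (huc _) (hud _)) (huc _))
  obtain ⟨a1, a2, a3⟩ := hw 1 one_ne_zero
  obtain ⟨b1, b2, b3⟩ := hw l hl0
  have hTc : mv T c = (l * l)⁻¹ • c := by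
    rw [hTd, mv_mul, b1, mv_smul, a2, smul_smul]
    congr 1
    field_simp
  have hTy : mv T y = y := by rw [hTd, mv_mul, b3, mv_neg, a3, neg_neg]
  have hTu : ∀ r, T * uc r * T⁻¹ = uc ((l * l)⁻¹ * r) := fun r => by
    have h1 := Transvec.Orth.isSiegel_conj hQ hTO (hucs r)
    rw [hTc, mv_smul, hTy] at h1
    have h3 := siegel_scale h2 h1
    rw [smul_smul] at h3
    exact Transvec.Orth.isSiegel_unique h3 (hucs _)
  have hcP : ∀ r, uc r ∈ P := fun r => by
    have hk : (l * l)⁻¹ - 1 ≠ 0 := sub_ne_zero.2 fun h => hl1 (inv_eq_one.1 h)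
    have := hCu hT (r / ((l * l)⁻¹ - 1))
    rw [hTu, ucinv, ucmul, ← sub_eq_add_neg, ← sub_one_mul, mul_div_cancel₀ _ hk] at this
    exact this
  have hdP : ∀ r, ud r ∈ P := fun r => by
    obtain ⟨-, s, hs⟩ := hCd r
    simpa using P.mul_mem (hcP s) (P.inv_mem hs)
  have hcAll : ∀ S z, c ⬝ᵥ z = 0 → IsSiegel Qd S c z → S ∈ P := fun S z hz hS => by
    have hb := basis3 (w := z) hη hc hdd hcd hyc hyd hyy
    rw [dotProduct_comm z c, hz, zero_smul, add_zero] at hb
    have := Transvec.Orth.isSiegel_add_self hQ (hq hc) (by rw [pol_Qd h2]; exact hcy _) (z ⬝ᵥ d)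
      (hucs (z ⬝ᵥ y / η))
    rw [add_comm, ← hb] at this
    rw [Transvec.Orth.isSiegel_unique hS this]
    exact hcP _
  have hdAll : ∀ S z, d ⬝ᵥ z = 0 → IsSiegel Qd S d z → S ∈ P := fun S z hz hS => by
    have hb := basis3 (w := z) hη hc hdd hcd hyc hyd hyy
    rw [dotProduct_comm z d, hz, zero_smul, zero_add] at hb
    have := Transvec.Orth.isSiegel_add_self hQ (hq hdd) (by rw [pol_Qd h2]; exact hdy _) (z ⬝ᵥ c)
      (huds (z ⬝ᵥ y / η))
    rw [add_comm, ← hb] at this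
    rw [Transvec.Orth.isSiegel_unique hS this]
    exact hdP _
  intro S e z hee hez hS
  by_cases hec : e ⬝ᵥ c = 0
  · have hb := basis3 (w := e) hη hc hdd hcd hyc hyd hyy
    rw [hec, zero_smul, add_zero] at hb
    have h0 : (e ⬝ᵥ y / η) * (e ⬝ᵥ y / η) * η = 0 := by
      have := hee
      rw [hb] at this
      simp only [add_dotProduct, dotProduct_add, smul_dotProduct, dotProduct_smul, smul_eq_mul, hc, hyc, hyy,
        dotProduct_comm y c, mul_zero, zero_add, add_zero] at this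
      linear_combination this
    have h0' : e ⬝ᵥ y / η = 0 := mul_self_eq_zero.1 ((mul_eq_zero.1 h0).resolve_right hη)
    rw [h0', zero_smul, add_zero] at hb
    by_cases hed : e ⬝ᵥ d = 0
    · rw [hed, zero_smul] at hb
      rw [siegel_iff h2] at hS
      have : S = 1 := ext_mv fun x => by rw [hS, hb]; simp [mv_one]
      rw [this]; exact P.one_mem
    · rw [hb] at hS hez
      refine hcAll S _ ?_ (siegel_scale h2 hS)
      rw [smul_dotProduct] at hez
      rw [dotProduct_smul]; exact hez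
  · obtain ⟨e', he'⟩ : ∃ e', e' = (e ⬝ᵥ c)⁻¹ • e := ⟨_, rfl⟩
    have hee' : e = (e ⬝ᵥ c) • e' := by rw [he', smul_smul, mul_inv_cancel₀ hec, one_smul]
    have he'e : e' ⬝ᵥ e' = 0 := by rw [he', smul_dotProduct, dotProduct_smul, hee, smul_zero, smul_zero]
    have he'c : e' ⬝ᵥ c = 1 := by rw [he', smul_dotProduct, smul_eq_mul, inv_mul_cancel₀ hec]
    obtain ⟨x, hx, -, hmv⟩ := Transvec.Orth.exists_move_along hQ (v := c) (u := d) (w := e') (hq hc)
      (by rw [Qd, Qd, hdd, he'e]) (by rw [pol_Qd h2, dotProduct_comm, hcd]) (by rw [pol_Qd h2, he'c])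
    rw [pol_Qd h2] at hx
    obtain ⟨g, hg, -, hgs⟩ := exists_sg h2 hc hx
    have hge := hmv g hgs
    rw [hee'] at hS
    have h3 := Transvec.Orth.isSiegel_conj hQ ((O3 F).inv_mem hg) (siegel_scale h2 hS)
    rw [← hge, mv_inv_mv, inv_inv] at h3
    have hz : d ⬝ᵥ mv g⁻¹ ((e ⬝ᵥ c) • z) = 0 := by
      rw [← (mem_iso h2).1 hg, mv_mv_inv, hge, dotProduct_smul, he', smul_dotProduct, hez, smul_zero, smul_zero]
    have := hN g c x hc hx hgs _ (hdAll _ _ hz h3)
    simpa [mul_assoc] using this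

variable [Fintype F] {M : Subgroup (GL (Fin 3 × Fin 3) F)}

theorem Ctx.memDiag (C : Ctx M) {S : GL (Fin 3) F} {c y : Fin 3 → F} (hc : c ⬝ᵥ c = 0) (hy : c ⬝ᵥ y = 0)
    (hS : IsSiegel Qd S c y) : dg (fun _ => S) ∈ M := by
  obtain ⟨S', hS'O, hS'o, hS's⟩ := exists_sg C.h2 hc hy
  rw [Transvec.Orth.isSiegel_unique hS hS's, ← kr_eq_dg]
  exact C.mem_odd (O3 F).one_mem hS'O (by rw [orderOf_one]; exact odd_one) hS'o

/-- The cyclic shift of the rows. -/
theorem Ctx.shift (C : Ctx M) (i : Fin 3) {G : Fin 3 → GL (Fin 3) F} (hG : dg G ∈ M) :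
    dg (fun x => G (x + i)) ∈ M := by
  have key : ∀ G : Fin 3 → GL (Fin 3) F, dg G ∈ M → dg (fun x => G (x + 1)) ∈ M := by
    intro G hG
    let A : Matrix (Fin 3) (Fin 3) F := Matrix.of fun x y => if y = x + 1 then 1 else 0
    have hA3 : A * A * A = 1 := by
      ext x y; fin_cases x <;> fin_cases y <;> simp [A, Matrix.mul_apply, Fin.sum_univ_three]
    let Ag : GL (Fin 3) F := ⟨A, A * A, by rw [← mul_assoc, hA3], hA3⟩
    have hAO : Ag ∈ O3 F := (mem_iso C.h2).2 fun u v => by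
      simp [mv, Ag, A, Matrix.mulVec, dotProduct, Fin.sum_univ_three]
      ring
    have hAodd : Odd (orderOf Ag) :=
      (show Odd 3 by decide).of_dvd_nat (orderOf_dvd_of_pow_eq_one (Units.ext (by
        show ((Ag ^ 3 : GL (Fin 3) F) : Matrix (Fin 3) (Fin 3) F) = 1
        rw [pow_succ, pow_two, Units.val_mul, Units.val_mul]; exact hA3)))
    have hm := C.mem_odd hAO (O3 F).one_mem hAodd (by rw [orderOf_one]; exact odd_one)
    have : kr Ag (1 : GL (Fin 3) F) * dg G * (kr Ag 1)⁻¹ = dg (fun x => G (x + 1)) := by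
      rw [mul_inv_eq_iff_eq_mul]
      refine ext_ten_mv fun u w => funext fun ⟨x, y⟩ => ?_
      have hsh : ∀ (z : Fin 3 × Fin 3 → F) (x y : Fin 3), mv (kr Ag (1 : GL (Fin 3) F)) z (x, y) = z (x + 1, y) := by
        intro z x y
        show ((Matrix.kroneckerMap (· * ·) A ((1 : GL (Fin 3) F) : Matrix (Fin 3) (Fin 3) F)) *ᵥ z) (x, y) = _
        simp [Matrix.mulVec, dotProduct, Fintype.sum_prod_type, A, Matrix.one_apply]
      rw [mv_mul, mv_mul, hsh, mv_dg, mv_dg]
      simp only [hsh]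
    rw [← this]
    exact M.mul_mem (M.mul_mem hm hG) (M.inv_mem hm)
  fin_cases i
  · simpa using hG
  · exact key G hG
  · have := key _ (key G hG)
    simpa [add_assoc] using this

theorem fin3_third : ∀ i : Fin 3, i ≠ 0 → ∃ k : Fin 3, k ≠ 0 ∧ k ≠ i := by decide

theorem fin3_cases : ∀ x i k : Fin 3, i ≠ 0 → k ≠ 0 → k ≠ i → x ≠ i → x = 0 ∨ x = k := by decide

theorem fin3_neg : ∀ i k : Fin 3, i ≠ 0 → k ≠ 0 → k ≠ i → k + -i = i := by decide

theorem fin3_sub : ∀ x k i : Fin 3, x + (i - k) = i → x = k := by decide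

theorem fin3_add : ∀ k i : Fin 3, k + (i - k) = i := by decide

/-- A row-wise acting member fixing the first row is scalar on every row. -/
theorem Ctx.row_scalar (C : Ctx M) {G : Fin 3 → GL (Fin 3) F} (hG : dg G ∈ M) (h0 : G 0 = 1) (i : Fin 3) :
    IsSc (G i) := by
  by_contra hns
  have hi0 : i ≠ 0 := fun h => hns ⟨1, fun w => by rw [h, h0, mv_one, one_smul]⟩
  let N : Subgroup (Fin 3 → GL (Fin 3) F) := M.comap dg ⊓ (Pi.evalMonoidHom (fun _ => GL (Fin 3) F) 0).ker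
  have hNm : ∀ n, n ∈ N ↔ dg n ∈ M ∧ n 0 = 1 := fun n => Iff.rfl
  have hO : ∀ n, dg n ∈ M → ∀ x, n x ∈ O3 F := fun n hn => (dg_iso C.h2).1 (C.iso hn)
  have hall := proj_siegel C.h2 C.h5 (P := N.map (Pi.evalMonoidHom (fun _ => GL (Fin 3) F) i))
    (by rintro A ⟨n, hn, rfl⟩; exact hO n ((hNm n).1 hn).1 i)
    (by
      rintro S c y hc hy hS A ⟨n, hn, rfl⟩
      refine ⟨(fun _ => S) * n * (fun _ => S)⁻¹, (hNm _).2 ⟨?_, ?_⟩, rfl⟩
      · rw [map_mul, map_mul, map_inv]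
        exact M.mul_mem (M.mul_mem (C.memDiag hc hy hS) ((hNm n).1 hn).1) (M.inv_mem (C.memDiag hc hy hS))
      · simp [((hNm n).1 hn).2])
    ⟨G, (hNm G).2 ⟨hG, h0⟩, rfl⟩ hns
  -- a single row
  obtain ⟨k, hk0, hki⟩ := fin3_third i hi0
  let S1 : Subgroup (GL (Fin 3) F) := M.comap (dg.comp (MonoidHom.mulSingle (fun _ : Fin 3 => GL (Fin 3) F) k))
  have hS1m : ∀ A, A ∈ S1 ↔ dg (Pi.mulSingle k A) ∈ M := fun A => Iff.rfl
  have hS1O : ∀ A ∈ S1, A ∈ O3 F := fun A hA => by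
    have := hO _ ((hS1m A).1 hA) k
    rwa [Pi.mulSingle_eq_same] at this
  have hS1N : ∀ S c y, c ⬝ᵥ c = 0 → c ⬝ᵥ y = 0 → IsSiegel Qd S c y → ∀ A ∈ S1, S * A * S⁻¹ ∈ S1 := by
    intro S c y hc hy hS A hA
    rw [hS1m]
    have : Pi.mulSingle k (S * A * S⁻¹) = (fun _ => S) * Pi.mulSingle k A * (fun _ : Fin 3 => S)⁻¹ := by
      funext x
      rcases eq_or_ne x k with rfl | hx
      · simp
      · simp [Pi.mulSingle_eq_of_ne hx]
    rw [this, map_mul, map_mul, map_inv]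
    exact M.mul_mem (M.mul_mem (C.memDiag hc hy hS) hA) (M.inv_mem (C.memDiag hc hy hS))
  obtain ⟨A, hA, hAns⟩ : ∃ A ∈ S1, ¬ IsSc A := by
    obtain ⟨c, hc0, hc⟩ := exists_singular3 (F := F) C.h2
    obtain ⟨d, y, η, hη, hdd, hcd, hcy, hdy, hyy⟩ := exists_triple C.h2 hc0 hc
    obtain ⟨u, huO, -, hus⟩ := exists_sg C.h2 hc hcy
    obtain ⟨n, hn, hni⟩ := hall u c y hc hcy hus
    obtain ⟨hnM, hn0⟩ := (hNm n).1 hn
    replace hni : n i = u := hni
    have hφO := hO n hnM k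
    by_cases hcomm : ∀ S c' y', c' ⬝ᵥ c' = 0 → c' ⬝ᵥ y' = 0 → IsSiegel Qd S c' y' → n k * S = S * n k
    · -- then φ is a scalar
      have hφ : IsSc (n k) := by
        by_contra hφns
        have hQ := nondeg_Qd (κ := Fin 3) C.h2
        let P : Subgroup (GL (Fin 3) F) := Subgroup.zpowers (n k)
        have hP := proj_siegel C.h2 C.h5 (P := P) (by rintro A ⟨j, rfl⟩; exact (O3 F).zpow_mem hφO j)
          (by
            rintro S c' y' hc' hy' hS A ⟨j, rfl⟩
            refine ⟨j, ?_⟩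
            show n k ^ j = S * n k ^ j * S⁻¹
            rw [← (show Commute (n k) S from hcomm S c' y' hc' hy' hS).zpow_left j |>.eq, mul_inv_cancel_right])
          (Subgroup.mem_zpowers _) hφns
        -- two non-commuting Siegel elements in a cyclic group
        obtain ⟨v, -, -, hvs⟩ := exists_sg C.h2 hdd hdy
        obtain ⟨j1, hj1⟩ := hP u c y hc hcy hus
        obtain ⟨j2, hj2⟩ := hP v d y hdd hdy hvs
        have e : mv (u * v) c = mv (v * u) c := by
          congr 1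
          rw [← hj1, ← hj2]
          exact zpow_mul_comm _ _ _
        rw [siegel_iff C.h2] at hus hvs
        have huc : mv u c = c := by rw [hus, hc, hcy]; simp
        rw [mv_mul, mv_mul, huc, hvs, hcd, hcy] at e
        simp only [one_smul, zero_add, mul_one] at e
        rw [hus] at e
        have := congrArg (fun z => z ⬝ᵥ c) e
        simp only [sub_dotProduct, add_dotProduct, smul_dotProduct, dotProduct_smul, smul_eq_mul, hc, hyy,
          dotProduct_comm d c, hcd, dotProduct_comm y c, hcy, dotProduct_comm y d, hdy] at this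
        have e' := congrArg (fun z => z ⬝ᵥ y) e
        simp only [sub_dotProduct, add_dotProduct, smul_dotProduct, dotProduct_smul, smul_eq_mul, hc, hyy,
          dotProduct_comm d c, hcd, dotProduct_comm y c, hcy, dotProduct_comm y d, hdy] at e'
        have h8 : (2 : F) * (η * η) = 0 := by
          have := C.h2
          field_simp at e'
          linear_combination -e'
        exact hη (mul_self_eq_zero.1 ((mul_eq_zero.1 h8).resolve_left C.h2))
      obtain ⟨ε, hε⟩ := hφ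
      have hu2 : Pi.mulSingle i (u * u) = n * n := by
        funext x
        rcases eq_or_ne x i with rfl | hxi
        · simp [hni]
        rw [Pi.mulSingle_eq_of_ne hxi, Pi.mul_apply]
        obtain rfl | rfl := fin3_cases x i k hi0 hk0 hki hxi
        · rw [hn0, mul_one]
        · refine ext_mv fun w => ?_
          rw [mv_one, mv_mul, hε, hε, smul_smul, sc_sq C.h2 hφO hε, one_smul]
      have h1 : dg (Pi.mulSingle i (u * u)) ∈ M := by rw [hu2, map_mul]; exact M.mul_mem hnM hnM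
      refine ⟨u * u, ?_, ?_⟩
      · rw [hS1m]
        have := C.shift (i - k) h1
        convert this using 2
        funext x
        rcases eq_or_ne x k with rfl | hxk
        · rw [Pi.mulSingle_eq_same, fin3_add, Pi.mulSingle_eq_same]
        · rw [Pi.mulSingle_eq_of_ne hxk, Pi.mulSingle_eq_of_ne (fun hh' => hxk (fin3_sub x k i hh'))]
      · rintro ⟨t, ht⟩
        rw [siegel_iff C.h2] at hus
        have e := ht y
        have huy : mv u y = y - η • c := by
          rw [hus, dotProduct_comm y c, hcy, hyy]; simp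
        have huc : mv u c = c := by rw [hus, hc, hcy]; simp
        rw [mv_mul, huy, mv_sub, mv_smul, huy, huc] at e
        have := congrArg (fun z => z ⬝ᵥ d) e
        simp only [sub_dotProduct, smul_dotProduct, smul_eq_mul, hcd, dotProduct_comm y d, hdy] at this
        exact mul_ne_zero C.h2 hη (by linear_combination -this)
    · push Not at hcomm
      obtain ⟨S, c', y', hc', hy', hS, hne⟩ := hcomm
      obtain ⟨m', hm', hm'i⟩ := hall S c' y' hc' hy' hS
      replace hm'i : m' i = S := hm'i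
      obtain ⟨hm'M, hm'0⟩ := (hNm m').1 hm'
      set m : Fin 3 → GL (Fin 3) F := fun x => m' (x + -i) with hm
      have hmM : dg m ∈ M := C.shift (-i) hm'M
      have hSO : S ∈ O3 F := hm'i ▸ hO m' hm'M i
      refine ⟨n k * S * (n k)⁻¹ * S⁻¹, ?_, fun hsc => hne ?_⟩
      · rw [hS1m]
        have : Pi.mulSingle k (n k * S * (n k)⁻¹ * S⁻¹) = n * m * n⁻¹ * m⁻¹ := by
          have hmk : m k = S := by
            rw [← hm'i]; show m' (k + -i) = m' i
            rw [fin3_neg i k hi0 hk0 hki]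
          funext x
          rcases eq_or_ne x k with rfl | hxk
          · simp [hmk]
          rw [Pi.mulSingle_eq_of_ne hxk]
          simp only [Pi.mul_apply, Pi.inv_apply]
          obtain rfl | rfl := fin3_cases x k i hk0 hi0 (Ne.symm hki) hxk
          · rw [hn0]; simp
          · rw [show m x = 1 by show m' (x + -x) = 1; rw [add_neg_cancel, hm'0]]; simp
        rw [this, map_mul, map_mul, map_mul, map_inv, map_inv]
        exact M.mul_mem (M.mul_mem (M.mul_mem hnM hmM) (M.inv_mem hnM)) (M.inv_mem hmM)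
      · have := sc_so3 C.h2 (comm_so3 C.h2 hφO hSO) hsc
        rwa [mul_inv_eq_one, mul_inv_eq_iff_eq_mul] at this
  have hrow := proj_siegel C.h2 C.h5 hS1O hS1N hA hAns
  refine false_of_rowRoot C fun x c y S hc hy hS => ?_
  have h1 := C.shift (k - x) ((hS1m S).1 (hrow S c y hc hy hS))
  convert h1 using 2
  funext z
  rcases eq_or_ne z x with rfl | hz
  · rw [Pi.mulSingle_eq_same, fin3_add, Pi.mulSingle_eq_same]
  · rw [Pi.mulSingle_eq_of_ne hz, Pi.mulSingle_eq_of_ne (fun hh' => hz (fin3_sub z x k hh'))]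

/-! ### Two factor half turns -/

theorem dg_of_comm (h2 : (2 : F) ≠ 0) {g : GL (Fin 3 × Fin 3) F}
    (h : ∀ i : Fin 3, g * kr (hh (ee i)) 1 = kr (hh (ee i)) 1 * g) : ∃ G, g = dg G := by
  have hval : ∀ (i : Fin 3) (x : Fin 3 × Fin 3 → F) (p : Fin 3 × Fin 3),
      mv (kr (hh (ee i)) (1 : GL (Fin 3) F)) x p = if p.1 = i then x p else -x p := fun i x p => by
    rw [kr_hh_dg, mv_dg]
    by_cases hp : p.1 = i
    · simp only [hp, if_true, mv_one]
      rw [← hp]
    · simp [hp, mv, Matrix.neg_mulVec]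
  have hblock : ∀ (g : GL (Fin 3 × Fin 3) F), (∀ i : Fin 3, g * kr (hh (ee i)) 1 = kr (hh (ee i)) 1 * g) →
      ∀ p q : Fin 3 × Fin 3, p.1 ≠ q.1 → (g : Matrix (Fin 3 × Fin 3) (Fin 3 × Fin 3) F) p q = 0 := by
    intro g h p q hpq
    have e := congrFun (congrArg (fun z => mv z (Pi.single q 1)) (h p.1)) p
    simp only [mv_mul] at e
    have e' : mv (kr (hh (ee p.1)) (1 : GL (Fin 3) F)) (Pi.single q 1) = -Pi.single q 1 := by
      funext r
      rw [hval]
      rcases eq_or_ne r q with rfl | hr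
      · simp [Ne.symm hpq]
      · simp [Pi.single_eq_of_ne hr]
    rw [e', mv_neg, Pi.neg_apply, hval, if_pos rfl, mv, Matrix.mulVec_single_one] at e
    simp only [Matrix.col_apply] at e
    have h2' : (2 : F) * (g : Matrix (Fin 3 × Fin 3) (Fin 3 × Fin 3) F) p q = 0 := by linear_combination -e
    exact (mul_eq_zero.1 h2').resolve_left h2
  have hinv : ∀ i : Fin 3, g⁻¹ * kr (hh (ee i)) 1 = kr (hh (ee i)) 1 * g⁻¹ := fun i =>
    (Commute.inv_left (h i)).eq
  let blk : GL (Fin 3 × Fin 3) F → Fin 3 → Matrix (Fin 3) (Fin 3) F := fun g i j l => g.1 (i, j) (i, l)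
  have hmul : ∀ g g' : GL (Fin 3 × Fin 3) F,
      (∀ p q : Fin 3 × Fin 3, p.1 ≠ q.1 → (g : Matrix (Fin 3 × Fin 3) (Fin 3 × Fin 3) F) p q = 0) →
      g * g' = 1 → ∀ i, blk g i * blk g' i = 1 := by
    intro g g' hg he i
    ext j l
    have e0 : (g : Matrix (Fin 3 × Fin 3) (Fin 3 × Fin 3) F) * (g' : Matrix (Fin 3 × Fin 3) (Fin 3 × Fin 3) F) = 1 := by
      rw [← Units.val_mul, he]; rfl
    have e := congrFun (congrFun e0 (i, j)) (i, l)
    rw [Matrix.mul_apply, Fintype.sum_prod_type] at e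
    rw [Matrix.mul_apply]
    rw [Finset.sum_eq_single i] at e
    · rw [e]; simp [Matrix.one_apply]
    · intro b _ hb
      refine Finset.sum_eq_zero fun x _ => ?_
      rw [hg (i, j) (b, x) (Ne.symm hb), zero_mul]
    · simp
  refine ⟨fun i => ⟨blk g i, blk g⁻¹ i, hmul g g⁻¹ (hblock g h) (mul_inv_cancel g) i,
    hmul g⁻¹ g (hblock g⁻¹ hinv) (inv_mul_cancel g) i⟩, Units.ext ?_⟩
  ext ⟨i, j⟩ ⟨k, l⟩
  show (g : Matrix (Fin 3 × Fin 3) (Fin 3 × Fin 3) F) (i, j) (k, l) = dgm (blk g) (i, j) (k, l)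
  by_cases hik : i = k
  · subst hik; simp [dgm, blk]
  · simp [dgm, hik, hblock g h (i, j) (k, l) hik]

theorem hh_ee_mul (h2 : (2 : F) ≠ 0) : (hh (ee 0) : GL (Fin 3) F) * hh (ee 1) = hh (ee 2) := by
  refine ext_mv fun v => ?_
  rw [mv_mul, mv_hh_ee, mv_hh_ee, mv_hh_ee]
  funext j; fin_cases j <;> simp

/-- The centraliser of two left half turns consists of Kronecker products. -/
theorem cent_LL (C : Ctx M) {g : GL (Fin 3 × Fin 3) F} (hg : g ∈ M)
    (h0 : g * kr (hh (ee 0)) 1 = kr (hh (ee 0)) 1 * g) (h1 : g * kr (hh (ee 1)) 1 = kr (hh (ee 1)) 1 * g) :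
    InK g := by
  have h2 := C.h2
  have h2' : g * kr (hh (ee 2)) 1 = kr (hh (ee 2)) 1 * g := by
    rw [show (kr (hh (ee 2)) (1 : GL (Fin 3) F) : GL (Fin 3 × Fin 3) F) = kr (hh (ee 0)) 1 * kr (hh (ee 1)) 1 by
      rw [kr_mul, hh_ee_mul h2, mul_one]]
    exact (Commute.mul_right h0 h1).eq
  obtain ⟨B, rfl⟩ := dg_of_comm h2 (g := g) fun i => by fin_cases i <;> assumption
  have hBO := (dg_iso h2).1 (C.iso hg)
  have key : ∀ i, ∀ b : Fin 3 → F, b ⬝ᵥ b = 1 →
      mv (B i) b = mv (B 0) b ∨ mv (B i) b = -mv (B 0) b := by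
    intro i b hb
    have hb' : mv (B 0) b ⬝ᵥ mv (B 0) b = 1 := by rw [(mem_iso h2).1 (hBO 0), hb]
    have hmem : dg (B * (fun _ => hh b) * B⁻¹ * fun _ => hh (mv (B 0) b)) ∈ M := by
      rw [map_mul, map_mul, map_mul, map_inv, ← kr_eq_dg, ← kr_eq_dg]
      exact M.mul_mem (M.mul_mem (M.mul_mem hg (C.memR hb)) (M.inv_mem hg)) (C.memR hb')
    have hsc := C.row_scalar hmem (by
      simp only [Pi.mul_apply, Pi.inv_apply]
      rw [hh_conj h2 (hBO 0), hh_mul_self]) i
    simp only [Pi.mul_apply, Pi.inv_apply] at hsc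
    rw [hh_conj h2 (hBO i)] at hsc
    have e := sc_so3 h2 ((SO3 F).mul_mem (hh_mem h2 _) (hh_mem h2 _)) hsc
    have e' : (hh (mv (B i) b) : GL (Fin 3) F) = hh (mv (B 0) b) := by
      rw [← mul_inv_eq_one, hh_inv, e]
    have hbi : mv (B i) b ⬝ᵥ mv (B i) b = 1 := by rw [(mem_iso h2).1 (hBO i), hb]
    obtain ⟨t, -, ht⟩ := hh_eq_hh (unit_ne hbi) (unit_ne hb') h2 e'
    rw [ht, smul_dotProduct, dotProduct_smul, hb', smul_eq_mul, smul_eq_mul, mul_one] at hbi
    rcases mul_self_eq_one_iff.1 hbi with h | h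
    · left; rw [ht, h, one_smul]
    · right; rw [ht, h, neg_one_smul]
  have hsgn : ∀ i, ∃ ε : F, ε ≠ 0 ∧ ∀ w, mv (B i) w = ε • mv (B 0) w := by
    intro i
    have hs : ∀ b : Fin 3 → F, b ⬝ᵥ b = 1 → ∃ ε : F, ε ≠ 0 ∧ mv (B i) b = ε • mv (B 0) b := fun b hb => by
      rcases key i b hb with h | h
      · exact ⟨1, one_ne_zero, by rw [h, one_smul]⟩
      · exact ⟨-1, neg_ne_zero.2 one_ne_zero, by rw [h, neg_one_smul]⟩
    choose ε hε0 hε using fun j : Fin 3 => hs (ee j) (ee_self j)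
    have heq : ∀ j l : Fin 3, j ≠ l → ε j = ε l := fun j l hjl => by
      obtain ⟨a, ha, haj, hal⟩ := exists_two_coord C hjl
      obtain ⟨e, -, he⟩ := hs a ha
      rw [decomp3 a] at he
      simp only [mv_add, mv_smul, hε, ← sub_eq_zero (a := _ + _)] at he
      have h3 : ∀ x, a x * (ε x - e) = 0 := fun x => by
        have := congrArg (fun v => v ⬝ᵥ mv (B 0) (ee x)) he
        simp only [sub_dotProduct, add_dotProduct, smul_dotProduct, (mem_iso h2).1 (hBO 0), ee_dot_ee,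
          smul_eq_mul, zero_dotProduct, smul_add] at this
        fin_cases x <;> simp [-mul_eq_zero] at this ⊢ <;> linear_combination this
      have e1 := (mul_eq_zero.1 (h3 j)).resolve_left haj
      have e2 := (mul_eq_zero.1 (h3 l)).resolve_left hal
      linear_combination e1 - e2
    refine ⟨ε 0, hε0 0, fun w => ?_⟩
    rw [decomp3 w]
    simp only [mv_add, mv_smul, hε, heq 1 0 (by decide), heq 2 0 (by decide)]
    module
  choose ε hε0 hε using hsgn
  refine Or.inl ?_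
  let A : GL (Fin 3) F := Matrix.GeneralLinearGroup.mkOfDetNeZero (Matrix.diagonal ε) (by
    rw [Matrix.det_diagonal]; exact Finset.prod_ne_zero_iff.2 fun i _ => hε0 i)
  have : dg B = kr A (B 0) := by
    refine ext_ten_mv fun u w => funext fun ⟨i, j⟩ => ?_
    rw [mv_dg, mv_kr_ten]
    show mv (B i) (fun l => u i * w l) j = (Matrix.diagonal ε *ᵥ u) i * _
    rw [show (fun l => u i * w l) = u i • w from rfl, mv_smul, hε, Matrix.mulVec_diagonal]
    simp only [Pi.smul_apply, smul_eq_mul]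
    ring
  rw [this]
  exact isKron_kr _ _

/-- A rotation carrying two orthogonal units to the first two basis vectors. -/
theorem frame (h2 : (2 : F) ≠ 0) {a b : Fin 3 → F} (ha : a ⬝ᵥ a = 1) (hb : b ⬝ᵥ b = 1) (hab : a ⬝ᵥ b = 0) :
    ∃ A ∈ SO3 F, A * hh a * A⁻¹ = hh (ee 0) ∧ A * hh b * A⁻¹ = hh (ee 1) := by
  obtain ⟨x, hx, hxa, -⟩ := move h2 (a := a) (b := ee 0) (unit_ne ha) (by rw [ha, ee_self])
  have hxd := hh_dot hx
  obtain ⟨x', hx', hxb, hfix⟩ := move h2 (a := mv (hh x) b) (b := ee 1)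
    (by rw [hxd, hb]; exact one_ne_zero) (by rw [hxd, hb, ee_self])
  refine ⟨hh x' * hh x, (SO3 F).mul_mem (hh_mem h2 _) (hh_mem h2 _), ?_, ?_⟩
  · rw [show hh x' * hh x * hh a * (hh x' * hh x)⁻¹ = hh x' * (hh x * hh a * (hh x)⁻¹) * (hh x')⁻¹ by group,
      hh_move h2 hxa]
    refine hh_move h2 (Or.inr (hfix _ ?_ (by rw [ee_dot_ee]; simp)))
    rcases hxa with h | h
    · rw [← h, hxd, hab]
    · rw [show (ee 0 : Fin 3 → F) = -mv (hh x) a by rw [h, neg_neg], neg_dotProduct, hxd, hab, neg_zero]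
  · rw [show hh x' * hh x * hh b * (hh x' * hh x)⁻¹ = hh x' * (hh x * hh b * (hh x)⁻¹) * (hh x')⁻¹ by group,
      hh_conj h2 (mem_SO3.1 (hh_mem h2 x)).1 b]
    exact hh_move h2 hxb

theorem sw_conj_kr (A B : GL (Fin 3) F) : sw * kr A B * (sw : GL (Fin 3 × Fin 3) F)⁻¹ = kr B A := by
  rw [sw_inv, sw_kr]

theorem conj_kr (A B X Y : GL (Fin 3) F) :
    kr A B * kr X Y * (kr A B)⁻¹ = kr (A * X * A⁻¹) (B * Y * B⁻¹) := by
  rw [kr_inv, kr_mul, kr_mul]

/-- Commuting is preserved by conjugation. -/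
theorem comm_conj {G : Type*} [Group G] {g x h : G} (e : g * x = x * g) :
    h * g * h⁻¹ * (h * x * h⁻¹) = h * x * h⁻¹ * (h * g * h⁻¹) := by
  rw [show h * g * h⁻¹ * (h * x * h⁻¹) = h * (g * x) * h⁻¹ by group, e]; group

/-- The centraliser of two orthogonal right half turns consists of Kronecker products. -/
theorem cent_RR (C : Ctx M) {a b : Fin 3 → F} (ha : a ⬝ᵥ a = 1) (hb : b ⬝ᵥ b = 1) (hab : a ⬝ᵥ b = 0)
    {g : GL (Fin 3 × Fin 3) F} (hg : g ∈ M) (h0 : g * kr 1 (hh a) = kr 1 (hh a) * g)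
    (h1 : g * kr 1 (hh b) = kr 1 (hh b) * g) : InK g := by
  obtain ⟨A, hA, ea, eb⟩ := frame C.h2 ha hb hab
  have hhI : sw * kr 1 A ∈ O9 F := (O9 F).mul_mem (sw_iso C.h2) (kr_iso C.h2 (O3 F).one_mem (mem_SO3.1 hA).1)
  have hhk : InK (sw * kr (1 : GL (Fin 3) F) A) := inK_mul inK_sw (inK_kr _ _)
  have key : ∀ X, sw * kr 1 A * kr 1 X * (sw * kr (1 : GL (Fin 3) F) A)⁻¹ = kr (A * X * A⁻¹) 1 := fun X => by
    rw [show sw * kr 1 A * kr 1 X * (sw * kr (1 : GL (Fin 3) F) A)⁻¹ =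
      sw * (kr 1 A * kr 1 X * (kr 1 A)⁻¹) * sw⁻¹ by group, conj_kr, sw_conj_kr]
    simp
  have e0 := comm_conj (h := sw * kr 1 A) h0
  have e1 := comm_conj (h := sw * kr 1 A) h1
  rw [key, ea] at e0
  rw [key, eb] at e1
  exact (inK_conj hhk).1 (cent_LL (C.conj hhI hhk) (conj_mem_cj hg) e0 e1)

end Cfsg.Agent.TensorSquare
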