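/-
The members fixing the first row pointwise: their two-subgroups and the four group of right half turns.
-/
import Cfsg.Agent.Lib.TensorSquare.Rows

set_option autoImplicit false
set_option linter.unusedSectionVars false

namespace Cfsg.Agent.TensorSquare

open scoped Matrix Kronecker
open Matrix Cfsg.Agent.Transvec Cfsg.Agent.TensorMax
open Cfsg.Agent.TensorMax.U (kr mv_kr_ten isKron_kr isKron_mul isKron_inv mv_kron_ten ext_ten_mv)
open Cfsg.Agent.Transvec.Orth (pol IsSiegel)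

variable {F : Type*} [Field F]

theorem hh_orth_comm (h2 : (2 : F) ≠ 0) {a b : Fin 3 → F} (hb : b ⬝ᵥ b ≠ 0) (hab : a ⬝ᵥ b = 0) :
    (hh a : GL (Fin 3) F) * hh b = hh b * hh a := by
  by_cases ha : a ⬝ᵥ a ≠ 0
  · have e := hh_conj h2 (mem_SO3.1 (hh_mem h2 a)).1 b
    rw [mv_hh_orth ha hab, hh_neg] at e
    rw [mul_inv_eq_iff_eq_mul] at e
    exact e
  · rw [hh, dif_neg ha, one_mul, mul_one]

theorem ee_hh_comm (h2 : (2 : F) ≠ 0) (i j : Fin 3) :
    (hh (ee i) : GL (Fin 3) F) * hh (ee j) = hh (ee j) * hh (ee i) := by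
  rcases eq_or_ne i j with rfl | h
  · rfl
  · exact hh_orth_comm h2 (unit_ne (ee_self j)) (by rw [ee_dot_ee, if_neg h])

/-- Right factors as a homomorphism. -/
noncomputable def krR : GL (Fin 3) F →* GL (Fin 3 × Fin 3) F where
  toFun X := kr 1 X
  map_one' := kr_one
  map_mul' X Y := by rw [kr_mul, mul_one]

/-- The diagonal four group. -/
def V4 (F : Type*) [Field F] : Subgroup (GL (Fin 3) F) :=
  SO3 F ⊓ Subgroup.centralizer (Set.range fun i : Fin 3 => (hh (ee i) : GL (Fin 3) F))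

theorem hh_ee_mem_V4 (h2 : (2 : F) ≠ 0) (i : Fin 3) : hh (ee i) ∈ V4 F := by
  refine ⟨hh_mem h2 _, ?_⟩
  rintro _ ⟨j, rfl⟩
  exact ee_hh_comm h2 j i

theorem V4_cases (h2 : (2 : F) ≠ 0) {X : GL (Fin 3) F} (hX : X ∈ V4 F) : X = 1 ∨ ∃ i, X = hh (ee i) := by
  obtain ⟨hS, hc⟩ := hX
  have hc' : ∀ i, hh (ee i) * X = X * hh (ee i) := fun i => hc _ ⟨i, rfl⟩
  have hXX : X * X = 1 := by
    refine ext_mv fun w => ?_
    have hb : ∀ i, mv (X * X) (ee i) = ee i := fun i => by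
      rcases hh_comm h2 (unit_ne (ee_self i)) (mem_SO3.1 hS).1 (hc' i).symm with h | h
      · rw [mv_mul, h, h]
      · rw [mv_mul, h, mv_neg, h, neg_neg]
    rw [mv_one, decomp3 w]
    simp only [mv_add, mv_smul, hb]
  rcases so3_invol h2 hS hXX with h | ⟨a, ha, rfl⟩
  · exact Or.inl h
  · right
    by_contra hcon
    push Not at hcon
    have h0 : ∀ i, a i = 0 := fun i => by
      rcases hh_comm_hh h2 (unit_ne (ee_self i)) ha (hc' i) with ⟨t, ht, e⟩ | e
      · exact absurd (by rw [e, hh_smul ht]) (hcon i)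
      · rwa [ee_dot] at e
    exact ha (by rw [show a = 0 from funext h0, dotProduct_zero])

theorem V4_sq (h2 : (2 : F) ≠ 0) {X : GL (Fin 3) F} (hX : X ∈ V4 F) : X * X = 1 := by
  rcases V4_cases h2 hX with rfl | ⟨i, rfl⟩
  · exact mul_one 1
  · exact hh_mul_self _

/-- The elements fixing the first row pointwise. -/
def fix0 (F : Type*) [Field F] : Subgroup (GL (Fin 3 × Fin 3) F) where
  carrier := {g | ∀ w, mv g (ten (ee 0) w) = ten (ee 0) w}
  mul_mem' {a b} ha hb w := by rw [mv_mul, hb w, ha w]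
  one_mem' w := mv_one _
  inv_mem' {a} ha w := by conv_lhs => rw [← ha w, mv_inv_mv]

theorem mem_fix0 {g : GL (Fin 3 × Fin 3) F} : g ∈ fix0 F ↔ ∀ w, mv g (ten (ee 0) w) = ten (ee 0) w := Iff.rfl

theorem ten_ee_ne {i : Fin 3} {w : Fin 3 → F} (hw : w ≠ 0) : ten (ee i) w ≠ 0 :=
  TensorMax.ten_ne_zero (ee_ne_zero i) hw

theorem fix0_row (h2 : (2 : F) ≠ 0) {g : GL (Fin 3 × Fin 3) F} (hg : g ∈ O9 F) (h0 : g ∈ fix0 F)
    (x : Fin 3 × Fin 3 → F) (j : Fin 3) : mv g x (0, j) = x (0, j) := by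
  have e := (mem_iso h2).1 hg (ten (ee 0) (ee j)) x
  rw [mem_fix0.1 h0] at e
  have hd : ∀ z : Fin 3 × Fin 3 → F, ten (ee 0) (ee j) ⬝ᵥ z = z (0, j) := fun z => by
    rw [dotProduct, Finset.sum_eq_single ((0 : Fin 3), j)]
    · simp [ten, ee_apply]
    · rintro ⟨a, b⟩ - hne
      by_cases ha : a = 0
      · subst ha
        have : b ≠ j := fun h => hne (by rw [h])
        simp [ten, ee_apply, this]
      · simp [ten, ee_apply, ha]
    · simp
  rwa [hd, hd] at e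

theorem L0_apply (x : Fin 3 × Fin 3 → F) :
    mv (kr (hh (ee 0)) (1 : GL (Fin 3) F)) x = (2 : F) • ten (ee 0) (fun j => x (0, j)) - x := by
  funext ⟨i, j⟩
  rw [kr_hh_dg, mv_dg]
  simp only [Pi.sub_apply, Pi.smul_apply, smul_eq_mul, ten_apply, ee_apply]
  by_cases hi : i = 0
  · subst hi; simp [mv_one]; ring
  · simp [hi, mv, Matrix.neg_mulVec]

theorem fix0_comm (h2 : (2 : F) ≠ 0) {g : GL (Fin 3 × Fin 3) F} (hg : g ∈ O9 F) (h0 : g ∈ fix0 F) :
    g * kr (hh (ee 0)) 1 = kr (hh (ee 0)) 1 * g := by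
  refine ext_mv fun x => ?_
  rw [mv_mul, mv_mul, L0_apply, L0_apply, mv_sub, mv_smul, mem_fix0.1 h0]
  congr 3
  funext j
  rw [fix0_row h2 hg h0]

theorem fix0_conj {h : GL (Fin 3 × Fin 3) F} {X B : GL (Fin 3) F} {δ : F} (hh' : h = kr X B) (hδ : δ * δ = 1)
    (hX : mv X (ee 0) = δ • ee 0) {k : GL (Fin 3 × Fin 3) F} (hk : k ∈ fix0 F) : h * k * h⁻¹ ∈ fix0 F := by
  refine mem_fix0.2 fun w => ?_
  have hX' : mv X⁻¹ (ee 0) = δ • ee 0 := by
    apply mv_inj X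
    rw [mv_mv_inv, mv_smul, hX, smul_smul, hδ, one_smul]
  rw [mv_mul, mv_mul, hh', kr_inv, mv_kr_ten, hX', ten_smul_left, mv_smul, mem_fix0.1 hk, mv_smul, mv_kr_ten,
    hX, mv_mv_inv, ten_smul_left, smul_smul, hδ, one_smul]

theorem hh_ee_fix (i : Fin 3) : ∃ δ : F, δ * δ = 1 ∧ mv (hh (ee i)) (ee 0) = δ • (ee 0 : Fin 3 → F) := by
  rcases eq_or_ne i 0 with rfl | h
  · exact ⟨1, one_mul 1, by rw [mv_hh_self (unit_ne (ee_self 0)), one_smul]⟩
  · exact ⟨-1, by ring, by rw [mv_hh_orth (unit_ne (ee_self i)) (by rw [ee_dot_ee, if_neg h]), neg_one_smul]⟩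

/-- Kronecker members fixing the first row pointwise come from rotations about the first axis. -/
theorem inK_fix0 [Fintype F] (h2 : (2 : F) ≠ 0) {k : GL (Fin 3 × Fin 3) F} (hk : k ∈ Om F) (hK : InK k)
    (h0 : k ∈ fix0 F) : ∃ A ∈ SO3 F, mv A (ee 0) = ee 0 ∧ k = kr A 1 := by
  rcases om_cases h2 hk hK with ⟨A, hA, B, hB, rfl⟩ | ⟨A, hA, B, hB, rfl⟩
  · have e : ∀ w, ten (mv A (ee 0)) (mv B w) = ten (ee 0) w := fun w => by rw [← mv_kr_ten, mem_fix0.1 h0]
    obtain ⟨c, hc⟩ := ten_eq (fun h => ee_ne_zero 0 (mv_inj B (h.trans (mv_zero B).symm))) (e (ee 0))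
    have hB1 : ∀ w, c • mv B w = w := fun w => by
      have := e w
      rw [hc, ten_smul_left, ← ten_smul_right] at this
      exact ten_right_cancel (ee_ne_zero 0) this
    have hc0 : c ≠ 0 := fun h => ee_ne_zero 0 (by have := hB1 (ee 0); rw [h, zero_smul] at this; exact this.symm)
    have hBs : B = 1 := sc_so3 h2 hB ⟨c⁻¹, fun w => by
      conv_rhs => rw [← hB1 w, smul_smul, inv_mul_cancel₀ hc0, one_smul]⟩
    refine ⟨A, hA, ?_, by rw [hBs]⟩
    have := e (ee 0)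
    rw [hBs, mv_one] at this
    exact ten_left_cancel (ee_ne_zero 0) this
  · exfalso
    have e : ∀ w, -ten (mv A w) (mv B (ee 0)) = ten (ee 0) w := fun w => by
      have := mem_fix0.1 h0 w
      rw [← this]
      simp [mv, Units.val_neg, Matrix.neg_mulVec]
      rw [← Matrix.mulVec_mulVec, show (sw : GL (Fin 3 × Fin 3) F).1 *ᵥ ten (ee 0) w = ten w (ee 0) from mv_sw_ten _ _,
        show (kr A B : GL (Fin 3 × Fin 3) F).1 *ᵥ ten w (ee 0) = ten (mv A w) (mv B (ee 0)) from mv_kr_ten A B _ _]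
    have hB0 : mv B (ee 0) ≠ 0 := fun h => ee_ne_zero 0 (mv_inj B (h.trans (mv_zero B).symm))
    have hx : ∀ j, ∃ c : F, mv A (ee j) = c • ee 0 := fun j => by
      have := e (ee j)
      rw [← ten_neg_left] at this
      obtain ⟨c, hc⟩ := ten_eq hB0 this
      exact ⟨-c, by rw [neg_smul, ← hc, neg_neg]⟩
    obtain ⟨c1, h1⟩ := hx 1
    obtain ⟨c3, h3⟩ := hx 2
    have d11 := SO3.dot h2 hA (ee 1) (ee 1)
    have d12 := SO3.dot h2 hA (ee 1) (ee 2)
    have d22 := SO3.dot h2 hA (ee 2) (ee 2)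
    rw [h1] at d11 d12
    rw [h3] at d12 d22
    simp [ee_dot_ee] at d11 d12 d22
    rcases d12 with h | h <;> simp [h] at d11 d22

theorem rot_entries (h2 : (2 : F) ≠ 0) {A : GL (Fin 3) F} (hA : A ∈ SO3 F) (h0 : mv A (ee 0) = ee 0) :
    ∃ c s : F, c * c + s * s = 1 ∧ mv A (ee 1) = ![0, c, s] ∧ mv A (ee 2) = ![0, -s, c] := by
  obtain ⟨u, hu⟩ : ∃ u, u = mv A (ee 1) := ⟨_, rfl⟩
  obtain ⟨v, hv⟩ : ∃ v, v = mv A (ee 2) := ⟨_, rfl⟩
  have hu0 : u 0 = 0 := by
    have := SO3.dot h2 hA (ee 0) (ee 1)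
    rw [h0, ← hu, ee_dot, ee_dot_ee] at this
    simpa using this
  have hv0 : v 0 = 0 := by
    have := SO3.dot h2 hA (ee 0) (ee 2)
    rw [h0, ← hv, ee_dot, ee_dot_ee] at this
    simpa using this
  have huu : u 1 * u 1 + u 2 * u 2 = 1 := by
    have := SO3.dot h2 hA (ee 1) (ee 1)
    rw [← hu, dot3, hu0, ee_self] at this
    linear_combination this
  have huv : u 1 * v 1 + u 2 * v 2 = 0 := by
    have := SO3.dot h2 hA (ee 1) (ee 2)
    rw [← hu, ← hv, dot3, hu0, ee_dot_ee, if_neg (by decide)] at this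
    linear_combination this
  have hdet : u 1 * v 2 - u 2 * v 1 = 1 := by
    have hd := (mem_SO3.1 hA).2
    have col : ∀ i j, (A : Matrix (Fin 3) (Fin 3) F) i j = mv A (ee j) i := fun i j => by
      simp [mv, ee, Matrix.mulVec_single_one]
    rw [Matrix.det_fin_three] at hd
    simp only [col, h0, ← hu, ← hv, hu0, hv0, ee_apply, Fin.reduceEq, if_true, if_false] at hd
    linear_combination hd
  have e1 : v 1 = -(u 2) := by linear_combination (-(v 1)) * huu + u 1 * huv - u 2 * hdet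
  have e2 : v 2 = u 1 := by linear_combination (-(v 2)) * huu + u 2 * huv + u 1 * hdet
  refine ⟨u 1, u 2, huu, ?_, ?_⟩
  · rw [← hu]; funext i; fin_cases i <;> simp [hu0]
  · rw [← hv]; funext i; fin_cases i <;> simp [hv0, e1, e2]

theorem rot_ext {A B : GL (Fin 3) F} (h : ∀ i, mv A (ee i) = mv B (ee i)) : A = B :=
  ext_mv fun w => by rw [decomp3 w]; simp only [mv_add, mv_smul, h]

theorem rot_comm (h2 : (2 : F) ≠ 0) {A B : GL (Fin 3) F} (hA : A ∈ SO3 F) (hA0 : mv A (ee 0) = ee 0)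
    (hB : B ∈ SO3 F) (hB0 : mv B (ee 0) = ee 0) : A * B = B * A := by
  obtain ⟨c, s, -, a1, a2⟩ := rot_entries h2 hA hA0
  obtain ⟨c', s', -, b1, b2⟩ := rot_entries h2 hB hB0
  refine rot_ext fun i => ?_
  have split : ∀ x y : F, (![0, x, y] : Fin 3 → F) = x • ee 1 + y • ee 2 := fun x y => by
    funext j; fin_cases j <;> simp [ee_apply]
  fin_cases i <;> simp only [Fin.zero_eta, Fin.mk_one, Fin.reduceFinMk, mv_mul, hA0, hB0, a1, a2, b1, b2, split,
    mv_add, mv_smul] <;> module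

/-- A rotation about the first axis fixing a further vector of that plane is trivial. -/
theorem rot_fix (h2 : (2 : F) ≠ 0) {A : GL (Fin 3) F} (hA : A ∈ SO3 F) (hA0 : mv A (ee 0) = ee 0)
    {α : Fin 3 → F} (hα : α ⬝ᵥ α ≠ 0) (hα0 : α 0 = 0) (h : mv A α = α) : A = 1 := by
  obtain ⟨c, s, hcs, a1, a2⟩ := rot_entries h2 hA hA0
  have hdec := decomp3 α
  rw [hα0, zero_smul, zero_add] at hdec
  rw [hdec] at h
  simp only [mv_add, mv_smul, a1, a2] at h
  have f1 := congrFun h 1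
  have f2 := congrFun h 2
  simp [ee_apply] at f1 f2
  have hn : α 1 * α 1 + α 2 * α 2 ≠ 0 := by
    intro h'; exact hα (by rw [dot3, hα0]; linear_combination h')
  have hc : c = 1 := mul_left_cancel₀ hn (by linear_combination α 1 * f1 + α 2 * f2)
  have hs : s = 0 := mul_self_eq_zero.1 (by rw [hc] at hcs; linear_combination hcs)
  refine rot_ext fun i => ?_
  fin_cases i <;> simp only [Fin.zero_eta, Fin.mk_one, Fin.reduceFinMk, mv_one, hA0, a1, a2, hc, hs] <;>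
    funext j <;> fin_cases j <;> simp [ee_apply]

theorem kr_row_entry (A : GL (Fin 3) F) (a b : Fin 3) :
    ((kr A (1 : GL (Fin 3) F) : GL (Fin 3 × Fin 3) F) : Matrix (Fin 3 × Fin 3) (Fin 3 × Fin 3) F) (a, 0) (b, 0) =
      mv A (ee b) a := by
  show (Matrix.kroneckerMap (· * ·) (A : Matrix (Fin 3) (Fin 3) F) ((1 : GL (Fin 3) F) : Matrix (Fin 3) (Fin 3) F))
    (a, 0) (b, 0) = _
  simp [mv, ee, Matrix.mulVec_single_one]

section Stab

variable [Fintype F] {M : Subgroup (GL (Fin 3 × Fin 3) F)}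

/-- The members fixing the first row pointwise. -/
def Kst (M : Subgroup (GL (Fin 3 × Fin 3) F)) : Subgroup (GL (Fin 3 × Fin 3) F) := M ⊓ fix0 F

theorem Kst_comm (C : Ctx M) {k : GL (Fin 3 × Fin 3) F} (hk : k ∈ Kst M) :
    k * kr (hh (ee 0)) 1 = kr (hh (ee 0)) 1 * k := fix0_comm C.h2 (C.iso hk.1) hk.2

theorem Kst_conj (C : Ctx M) {X B : GL (Fin 3) F} {δ : F} (hm : kr X B ∈ M) (hδ : δ * δ = 1)
    (hX : mv X (ee 0) = δ • ee 0) {k : GL (Fin 3 × Fin 3) F} (hk : k ∈ Kst M) :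
    kr X B * k * (kr X B)⁻¹ ∈ Kst M :=
  ⟨M.mul_mem (M.mul_mem hm hk.1) (M.inv_mem hm), fix0_conj rfl hδ hX hk.2⟩

theorem Kst_kron (C : Ctx M) {k : GL (Fin 3 × Fin 3) F} (hk : k ∈ Kst M) (hK : InK k) :
    ∃ A ∈ SO3 F, mv A (ee 0) = ee 0 ∧ k = kr A 1 := inK_fix0 C.h2 (C.le hk.1) hK hk.2

/-- The rotations among the members fixing the first row. -/
def Tst (M : Subgroup (GL (Fin 3 × Fin 3) F)) : Subgroup (GL (Fin 3 × Fin 3) F) where
  carrier := {k | k ∈ Kst M ∧ InK k}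
  mul_mem' {a b} ha hb := ⟨(Kst M).mul_mem ha.1 hb.1, inK_mul ha.2 hb.2⟩
  one_mem' := ⟨(Kst M).one_mem, by rw [← kr_one]; exact inK_kr _ _⟩
  inv_mem' {a} ha := ⟨(Kst M).inv_mem ha.1, inK_inv ha.2⟩

theorem Tst_cyclic (C : Ctx M) {P : Type*} [Group P] [Finite P] (f : P →* ↥(Tst M)) (hf : Function.Injective f) :
    IsCyclic P := by
  classical
  let E := AlgebraicClosure F
  obtain ⟨i, hi⟩ := IsAlgClosed.exists_pow_nat_eq (-1 : E) (show 0 < 2 by norm_num)
  let ι := algebraMap F E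
  let ev : ↥(Tst M) → E := fun k =>
    ι ((k : GL (Fin 3 × Fin 3) F).1 (1, 0) (1, 0)) + i * ι ((k : GL (Fin 3 × Fin 3) F).1 (2, 0) (1, 0))
  have val : ∀ (k : ↥(Tst M)), ∃ A ∈ SO3 F, mv A (ee 0) = ee 0 ∧ (k : GL (Fin 3 × Fin 3) F) = kr A 1 :=
    fun k => Kst_kron C k.2.1 k.2.2
  have split : ∀ x y : F, (![0, x, y] : Fin 3 → F) = x • ee 1 + y • ee 2 := fun x y => by
    funext j; fin_cases j <;> simp [ee_apply]
  let φ : ↥(Tst M) →* E :=
    { toFun := ev
      map_one' := by simp [ev, ι, Matrix.one_apply]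
      map_mul' := fun k l => by
        obtain ⟨A, hA, hA0, ek⟩ := val k
        obtain ⟨B, hB, hB0, el⟩ := val l
        obtain ⟨c, s, -, a1, a2⟩ := rot_entries C.h2 hA hA0
        obtain ⟨c', s', -, b1, b2⟩ := rot_entries C.h2 hB hB0
        simp only [ev, Subgroup.coe_mul, ek, el, kr_mul, mul_one, kr_row_entry, mv_mul, b1, a1, a2, split, mv_add,
          mv_smul]
        simp [ee_apply, ι]
        linear_combination (-(algebraMap F E s * algebraMap F E s')) * hi }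
  have hφ : Function.Injective φ := by
    refine (injective_iff_map_eq_one φ).2 fun k hk => ?_
    obtain ⟨A, hA, hA0, ek⟩ := val k
    obtain ⟨c, s, hcs, a1, a2⟩ := rot_entries C.h2 hA hA0
    have e : ι c + i * ι s = 1 := by
      have : ev k = 1 := hk
      simp only [ev, ek, kr_row_entry, a1] at this
      simpa using this
    have hcs' : ι c * ι c + ι s * ι s = 1 := by rw [← map_mul, ← map_mul, ← map_add, hcs, map_one]
    have e' : ι c - i * ι s = 1 := by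
      linear_combination hcs' - (ι c - i * ι s) * e + (-(ι s * ι s)) * hi
    have h2E : (2 : E) ≠ 0 := by
      rw [← map_ofNat ι 2]; exact fun h => C.h2 (ι.injective (h.trans (map_zero ι).symm))
    have hc : c = 1 := ι.injective (by
      rw [map_one]; exact mul_left_cancel₀ h2E (by linear_combination e + e'))
    have hs : s = 0 := mul_self_eq_zero.1 (by rw [hc] at hcs; linear_combination hcs)
    refine Subtype.ext ?_
    rw [ek, Subgroup.coe_one, ← kr_one]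
    congr 1
    refine rot_ext fun j => ?_
    fin_cases j <;> simp only [Fin.zero_eta, Fin.mk_one, Fin.reduceFinMk, mv_one, hA0, a1, a2, hc, hs] <;>
      funext l <;> fin_cases l <;> simp [ee_apply]
  exact isCyclic_of_subgroup_isDomain (φ.comp f) (hφ.comp hf)

theorem cent_LL' (C : Ctx M) {a b : Fin 3 → F} (ha : a ⬝ᵥ a = 1) (hb : b ⬝ᵥ b = 1) (hab : a ⬝ᵥ b = 0)
    {g : GL (Fin 3 × Fin 3) F} (hg : g ∈ M) (h0 : g * kr (hh a) 1 = kr (hh a) 1 * g)
    (h1 : g * kr (hh b) 1 = kr (hh b) 1 * g) : InK g := by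
  have e0 := comm_conj (h := sw) h0
  have e1 := comm_conj (h := sw) h1
  rw [sw_conj_kr] at e0 e1
  exact (inK_conj inK_sw).1 (cent_RR C.flip ha hb hab (conj_mem_cj hg) e0 e1)

/-- A member of the stabiliser commuting with two right half turns is a rotation. -/
theorem Kst_RR (C : Ctx M) {a b : Fin 3 → F} (ha : a ⬝ᵥ a = 1) (hb : b ⬝ᵥ b = 1) (hab : a ⬝ᵥ b = 0)
    {k : GL (Fin 3 × Fin 3) F} (hk : k ∈ Kst M) (h0 : k * kr 1 (hh a) = kr 1 (hh a) * k)
    (h1 : k * kr 1 (hh b) = kr 1 (hh b) * k) : k ∈ Tst M :=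
  ⟨hk, cent_RR C ha hb hab hk.1 h0 h1⟩

/-- Every two-subgroup of the stabiliser is conjugate into the rotations; a Sylow two-subgroup consists of them. -/
theorem exists_sylow (C : Ctx M) : ∃ P : Sylow 2 ↥(Kst M), ∀ x : ↥(Kst M), x ∈ P → InK (x : GL (Fin 3 × Fin 3) F) := by
  classical
  have h2 := C.h2
  haveI : Fact (Nat.Prime 2) := ⟨Nat.prime_two⟩
  set E : Subgroup (GL (Fin 3 × Fin 3) F) := (V4 F).map krR with hE
  have hEm : ∀ e ∈ E, ∃ X ∈ V4 F, e = kr 1 X := by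
    rintro _ ⟨X, hX, rfl⟩; exact ⟨X, hX, rfl⟩
  have hEM : ∀ e ∈ E, e ∈ M := fun e he => by
    obtain ⟨X, hX, rfl⟩ := hEm e he
    rcases V4_cases h2 hX with rfl | ⟨i, rfl⟩
    · rw [kr_one]; exact M.one_mem
    · exact C.memR (ee_self i)
  have hnorm : ∀ e ∈ E, ∀ k ∈ Kst M, e * k * e⁻¹ ∈ Kst M := fun e he k hk => by
    have hem := hEM e he
    obtain ⟨X, hX, rfl⟩ := hEm e he
    exact Kst_conj C hem (one_mul 1) (by rw [mv_one, one_smul]) hk
  have hcomm : ∀ t ∈ Tst M, ∀ e ∈ E, t * e = e * t := fun t ht e he => by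
    obtain ⟨X, hX, rfl⟩ := hEm e he
    obtain ⟨A, hA, -, rfl⟩ := Kst_kron C ht.1 ht.2
    rw [kr_mul, kr_mul, mul_one, one_mul, mul_one, one_mul]
  let G' : Subgroup (GL (Fin 3 × Fin 3) F) :=
    { carrier := {x | ∃ k ∈ Kst M, ∃ e ∈ E, x = k * e}
      mul_mem' := by
        rintro _ _ ⟨k, hk, e, he, rfl⟩ ⟨k', hk', e', he', rfl⟩
        exact ⟨k * (e * k' * e⁻¹), (Kst M).mul_mem hk (hnorm e he k' hk'), e * e', E.mul_mem he he', by group⟩
      one_mem' := ⟨1, (Kst M).one_mem, 1, E.one_mem, (mul_one 1).symm⟩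
      inv_mem' := by
        rintro _ ⟨k, hk, e, he, rfl⟩
        exact ⟨e⁻¹ * k⁻¹ * e⁻¹⁻¹, hnorm _ (E.inv_mem he) _ ((Kst M).inv_mem hk), e⁻¹, E.inv_mem he, by group⟩ }
  have hEG : E ≤ G' := fun e he => ⟨1, (Kst M).one_mem, e, he, (one_mul e).symm⟩
  have hKG : Kst M ≤ G' := fun k hk => ⟨k, hk, 1, E.one_mem, (mul_one k).symm⟩
  have hKn : ∀ x ∈ G', ∀ k ∈ Kst M, x * k * x⁻¹ ∈ Kst M := by
    rintro _ ⟨k', hk', e, he, rfl⟩ k hk
    rw [show k' * e * k * (k' * e)⁻¹ = k' * (e * k * e⁻¹) * k'⁻¹ by group]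
    exact (Kst M).mul_mem ((Kst M).mul_mem hk' (hnorm e he k hk)) ((Kst M).inv_mem hk')
  have hE2 : IsPGroup 2 ↥(E.subgroupOf G') := fun x => ⟨1, by
    obtain ⟨X, hX, e⟩ := hEm _ x.2
    replace e : ((x : ↥G') : GL (Fin 3 × Fin 3) F) = kr 1 X := e
    refine Subtype.ext (Subtype.ext ?_)
    simp only [pow_one, pow_two, Subgroup.coe_mul, Subgroup.coe_one]
    rw [e, kr_mul, mul_one, V4_sq h2 hX, kr_one]⟩
  obtain ⟨Q, hQE⟩ := hE2.exists_le_sylow
  have hEQ : ∀ e (he : e ∈ E), (⟨e, hEG he⟩ : ↥G') ∈ Q := fun e he => hQE he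
  -- the rotations times the four group
  let TE : Subgroup (GL (Fin 3 × Fin 3) F) :=
    { carrier := {x | ∃ t ∈ Tst M, ∃ e ∈ E, x = t * e}
      mul_mem' := by
        rintro _ _ ⟨t, ht, e, he, rfl⟩ ⟨t', ht', e', he', rfl⟩
        exact ⟨t * t', (Tst M).mul_mem ht ht', e * e', E.mul_mem he he', by
          rw [mul_assoc t e, ← mul_assoc e, ← hcomm t' ht' e he]; group⟩
      one_mem' := ⟨1, (Tst M).one_mem, 1, E.one_mem, (mul_one 1).symm⟩
      inv_mem' := by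
        rintro _ ⟨t, ht, e, he, rfl⟩
        exact ⟨t⁻¹, (Tst M).inv_mem ht, e⁻¹, E.inv_mem he, by
          rw [hcomm t ht e he, _root_.mul_inv_rev]⟩ }
  have hKE : ∀ x, x ∈ Kst M → x ∈ E → x = 1 := fun x hx he => by
    obtain ⟨X, hX, rfl⟩ := hEm x he
    have hX1 : X = 1 := ext_mv fun w => ten_right_cancel (ee_ne_zero 0) (by
      rw [mv_one]
      conv_rhs => rw [← mem_fix0.1 hx.2 w, mv_kr_ten, mv_one])
    rw [hX1, kr_one]
  obtain ⟨D, hD⟩ : ∃ D : Subgroup ↥(Q : Subgroup ↥G'),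
      ∀ q, q ∈ D ↔ ((q : ↥G') : GL (Fin 3 × Fin 3) F) ∈ TE :=
    ⟨TE.comap ((G'.subtype).comp (Q : Subgroup ↥G').subtype), fun q => Iff.rfl⟩
  have hDtop : D = ⊤ := by
    haveI : Group.IsNilpotent ↥(Q : Subgroup ↥G') := Q.2.isNilpotent
    refine normalizerCondition_iff_only_full_group_self_normalizing.1 normalizerCondition_of_isNilpotent D
      (le_antisymm ?_ Subgroup.le_normalizer)
    intro n hn
    have hn' := Subgroup.mem_normalizer_iff.1 hn
    obtain ⟨k, hk, e, he, hne⟩ := (n : ↥G').2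
    have hRk : ∀ i : Fin 3, k * kr 1 (hh (ee i)) = kr 1 (hh (ee i)) * k := fun i => by
      set R := kr (1 : GL (Fin 3) F) (hh (ee i)) with hR
      have hRE : R ∈ E := ⟨_, hh_ee_mem_V4 h2 i, rfl⟩
      let r : ↥(Q : Subgroup ↥G') := ⟨⟨R, hEG hRE⟩, hEQ R hRE⟩
      have hr : r ∈ D := (hD r).2 ⟨1, (Tst M).one_mem, R, hRE, (one_mul R).symm⟩
      obtain ⟨t, ht, e', he', hte⟩ := (hD _).1 ((hn' r).1 hr)
      simp only [Subgroup.coe_mul, Subgroup.coe_inv, r, hne] at hte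
      obtain ⟨X, hX, rfl⟩ := hEm e he
      have hconj : k * kr 1 X * R * (k * kr 1 X)⁻¹ = k * R * k⁻¹ := by
        rw [show k * kr 1 X * R * (k * kr 1 X)⁻¹ = k * (kr 1 X * R * (kr 1 X)⁻¹) * k⁻¹ by group, hR, conj_kr,
          one_mul, inv_one, mul_one, (hX.2 _ ⟨i, rfl⟩).symm, mul_inv_cancel_right]
      rw [hconj] at hte
      obtain ⟨Y, hY, rfl⟩ := hEm e' he'
      obtain ⟨A, hA, hA0, rfl⟩ := Kst_kron C ht.1 ht.2
      rw [kr_mul, mul_one, one_mul] at hte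
      have hR2 : R * R = 1 := by rw [hR, kr_mul, mul_one, hh_mul_self, kr_one]
      have hsq : kr (A * A) (Y * Y) = (1 : GL (Fin 3 × Fin 3) F) := by
        rw [← kr_mul, ← hte, show k * R * k⁻¹ * (k * R * k⁻¹) = k * (R * R) * k⁻¹ by group, hR2, mul_one,
          mul_inv_cancel]
      obtain ⟨hA2, -⟩ := kr_eq_one h2 ((SO3 F).mul_mem hA hA) ((SO3 F).mul_mem hY.1 hY.1) hsq
      have htr : ((kr A Y : GL (Fin 3 × Fin 3) F) : Matrix (Fin 3 × Fin 3) (Fin 3 × Fin 3) F).trace = -3 := by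
        rw [← hte, trace_conj, hR, trace_R h2 (unit_ne (ee_self i))]
      have hA1 : A = 1 := by
        rcases so3_invol h2 hA hA2 with h | ⟨a, ha, rfl⟩
        · exact h
        exfalso
        rcases V4_cases h2 hY with rfl | ⟨j, rfl⟩
        · -- the central half turn is not moved
          have hca : hh a = hh (ee 0) := by
            rw [mv_hh ha, sub_eq_iff_eq_add, ← two_smul F] at hA0
            obtain ⟨l, hl, hal⟩ : ∃ l : F, l ≠ 0 ∧ (ee 0 : Fin 3 → F) = l • a := by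
              refine ⟨(a ⬝ᵥ ee 0) / (a ⬝ᵥ a), fun hz => ee_ne_zero (F := F) 0 ?_, ?_⟩
              · rw [mul_div_assoc, hz, mul_zero, zero_smul] at hA0
                exact (smul_eq_zero.1 hA0.symm).resolve_left h2
              · refine smul_right_injective (Fin 3 → F) h2 ?_
                show (2 : F) • ee 0 = (2 : F) • _
                rw [← hA0, smul_smul, mul_div_assoc]
            rw [hal, hh_smul hl]
          rw [hca] at hte
          have hy := Kst_comm C hk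
          have : R = kr (hh (ee 0)) 1 := by
            rw [← mul_left_inj k⁻¹, ← mul_right_inj k, ← mul_assoc, hte, ← mul_assoc, hy, mul_inv_cancel_right]
          obtain ⟨e1, -⟩ := kr_inj h2 (SO3 F).one_mem (hh_mem h2 _) (hh_mem h2 _) (SO3 F).one_mem this
          exact hh_ne_one h2 (unit_ne (ee_self 0)) e1.symm
        · rw [trace_Z h2 ha (unit_ne (ee_self j))] at htr
          exact neg_three_ne_one h2 htr.symm
      rw [hA1] at hte
      have h1 : kr (1 : GL (Fin 3) F) Y * R⁻¹ = 1 := by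
        refine hKE _ ?_ (E.mul_mem ⟨Y, hY, rfl⟩ (E.inv_mem hRE))
        rw [← hte, show k * R * k⁻¹ * R⁻¹ = k * (R * k⁻¹ * R⁻¹) by group]
        exact (Kst M).mul_mem hk (hnorm R hRE _ ((Kst M).inv_mem hk))
      rw [mul_inv_eq_one] at h1
      rw [h1] at hte
      exact mul_inv_eq_iff_eq_mul.1 hte
    exact (hD n).2 ⟨k, Kst_RR C (ee_self 0) (ee_self 1) (by simp [ee_dot_ee]) hk (hRk 0) (hRk 1), e, he, hne⟩
  -- the part inside the stabiliser
  let S : Subgroup ↥(Kst M) := ((Q : Subgroup ↥G').map G'.subtype).subgroupOf (Kst M)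
  have hS : ∀ x : ↥(Kst M), x ∈ S ↔ (⟨x, hKG x.2⟩ : ↥G') ∈ Q := fun x => by
    refine ⟨?_, fun h => ⟨_, h, rfl⟩⟩
    rintro ⟨q, hq, he⟩
    rwa [show (⟨x, hKG x.2⟩ : ↥G') = q from Subtype.ext he.symm]
  have hST : ∀ x ∈ S, InK (x : GL (Fin 3 × Fin 3) F) := fun x hx => by
    have hq := (hS x).1 hx
    obtain ⟨t, ht, e, he, hte⟩ := (hD ⟨_, hq⟩).1 (hDtop ▸ Subgroup.mem_top _)
    have : e = 1 := hKE e (by
      rw [show e = t⁻¹ * (x : GL (Fin 3 × Fin 3) F) by rw [show (x : GL (Fin 3 × Fin 3) F) = t * e from hte, inv_mul_cancel_left]]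
      exact (Kst M).mul_mem ((Kst M).inv_mem ht.1) x.2) he
    rw [show (x : GL (Fin 3 × Fin 3) F) = t * e from hte, this, mul_one]
    exact ht.2
  have hS2 : IsPGroup 2 ↥S := fun x => by
    obtain ⟨m, hm⟩ := Q.2 ⟨_, (hS x.1).1 x.2⟩
    refine ⟨m, Subtype.ext (Subtype.ext ?_)⟩
    simpa using congrArg (fun z : ↥(Q : Subgroup ↥G') => ((z : ↥G') : GL (Fin 3 × Fin 3) F)) hm
  obtain ⟨P, hSP⟩ := hS2.exists_le_sylow
  refine ⟨P, fun x hx => hST x ?_⟩
  let ι : ↥(Kst M) →* ↥G' := Subgroup.inclusion hKG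
  obtain ⟨Q', hQ'⟩ := (P.2.map ι).exists_le_sylow
  obtain ⟨g, hg⟩ := MulAction.exists_smul_eq (↥G') Q' Q
  have hmem : ∀ p ∈ P, (⟨(g : GL (Fin 3 × Fin 3) F) * p * (g : GL (Fin 3 × Fin 3) F)⁻¹, hKn _ g.2 _ p.2⟩ : ↥(Kst M)) ∈ S :=
    fun p hp => by
      rw [hS, ← hg]
      exact ⟨ι p, hQ' ⟨p, hp, rfl⟩, rfl⟩
  let f : ↥(P : Subgroup ↥(Kst M)) → ↥S := fun p => ⟨_, hmem p p.2⟩
  have hf : Function.Injective f := fun p q h => by
    have := congrArg (fun z : ↥S => ((z : ↥(Kst M)) : GL (Fin 3 × Fin 3) F)) h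
    exact Subtype.ext (Subtype.ext (mul_left_cancel (mul_right_cancel this)))
  rw [Subgroup.eq_of_le_of_card_ge hSP (Nat.card_le_card_of_injective f hf)]
  exact hx

/-- The members of odd order in the stabiliser form a subgroup with a two-group as complement. -/
theorem exists_complement (C : Ctx M) : ∃ N : Subgroup ↥(Kst M), (∀ x, x ∈ N ↔ Odd (orderOf x)) ∧
    ∀ x : ↥(Kst M), ∃ o ∈ N, ∃ p : ↥(Kst M), InK (p : GL (Fin 3 × Fin 3) F) ∧ x = o * p := by
  classical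
  haveI : Fact (Nat.Prime 2) := ⟨Nat.prime_two⟩
  obtain ⟨P, hP⟩ := exists_sylow C
  let f : ↥(P : Subgroup ↥(Kst M)) →* ↥(Tst M) :=
    { toFun := fun p => ⟨(p : ↥(Kst M)), (p : ↥(Kst M)).2, hP p p.2⟩
      map_one' := rfl
      map_mul' := fun _ _ => rfl }
  have hcyc : IsCyclic ↥(P : Subgroup ↥(Kst M)) := Tst_cyclic C f fun p q h =>
    Subtype.ext (Subtype.ext (congrArg (fun z : ↥(Tst M) => (z : GL (Fin 3 × Fin 3) F)) h))
  by_cases he : 2 ∣ Nat.card ↥(Kst M)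
  · have hmin : (Nat.card ↥(Kst M)).minFac = 2 := Nat.minFac_eq_two_iff _ |>.2 he
    have hPN := IsCyclic.normalizer_le_centralizer hmin hcyc
    have hc := MonoidHom.ker_transferSylow_isComplement' P hPN
    refine ⟨(MonoidHom.transferSylow P hPN).ker, fun x => ⟨fun hx => ?_, fun hx => ?_⟩, fun x => ?_⟩
    · have hodd : ¬ 2 ∣ Nat.card ↥(MonoidHom.transferSylow P hPN).ker := by
        rw [← hc.index_eq_card]; exact P.not_dvd_index
      rw [← Nat.not_even_iff_odd, even_iff_two_dvd]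
      exact fun h => hodd (h.trans ((MonoidHom.transferSylow P hPN).ker.orderOf_dvd_natCard hx))
    · rw [MonoidHom.mem_ker, ← orderOf_eq_one_iff]
      obtain ⟨m, hm⟩ := P.2 (MonoidHom.transferSylow P hPN x)
      obtain ⟨j, -, hj⟩ := (Nat.dvd_prime_pow Nat.prime_two).1 (orderOf_dvd_of_pow_eq_one hm)
      have h1 := hx.of_dvd_nat (orderOf_map_dvd (MonoidHom.transferSylow P hPN) x)
      rw [hj] at h1 ⊢
      rcases j with _ | j
      · rfl
      · exact absurd h1 (by simp [pow_succ])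
    · obtain ⟨⟨o, p⟩, hop⟩ := hc.2 x
      exact ⟨o, o.2, p, hP p p.2, hop.symm⟩
  · refine ⟨⊤, fun x => ⟨fun _ => ?_, fun _ => Subgroup.mem_top _⟩, fun x => ⟨x, Subgroup.mem_top _, 1, ?_, (mul_one x).symm⟩⟩
    · rw [← Nat.not_even_iff_odd, even_iff_two_dvd]
      exact fun h => he (h.trans (orderOf_dvd_natCard x))
    · rw [Subgroup.coe_one, ← kr_one]; exact inK_kr _ _

end Stab

end Cfsg.Agent.TensorSquare
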