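/-
The centraliser of a pure half turn consists of Kronecker products.
-/
import Cfsg.Agent.Lib.TensorSquare.Stab

set_option autoImplicit false
set_option linter.unusedSectionVars false

namespace Cfsg.Agent.TensorSquare

open scoped Matrix Kronecker
open Matrix Cfsg.Agent.Transvec Cfsg.Agent.TensorMax
open Cfsg.Agent.TensorMax.U (kr mv_kr_ten isKron_kr isKron_mul isKron_inv mv_kron_ten ext_ten_mv)
open Cfsg.Agent.Transvec.Orth (pol IsSiegel)

variable {F : Type*} [Field F] [Fintype F] {M : Subgroup (GL (Fin 3 × Fin 3) F)}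

theorem odd_pow_fix {G : Type*} [Group G] {k : G} (hk : Odd (orderOf k)) : ∃ m : ℕ, (k * k) ^ m = k := by
  obtain ⟨m, hm⟩ := hk
  refine ⟨m + 1, ?_⟩
  rw [← pow_two, ← pow_mul, show 2 * (m + 1) = orderOf k + 1 by omega, pow_succ, pow_orderOf_eq_one, one_mul]

theorem odd_fix {κ : Type} [Fintype κ] [DecidableEq κ] {k : GL κ F} (hk : Odd (orderOf k)) {z : κ → F}
    (h : mv (k * k) z = z) : mv k z = z := by
  obtain ⟨m, hm⟩ := odd_pow_fix hk
  have : ∀ j : ℕ, mv ((k * k) ^ j) z = z := fun j => by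
    induction j with
    | zero => rw [pow_zero, mv_one]
    | succ j ih => rw [pow_succ, mv_mul, h, ih]
  simpa [hm] using this m

theorem ten_ee_dot (a b : Fin 3) (x : Fin 3 × Fin 3 → F) : ten (ee a) (ee b) ⬝ᵥ x = x (a, b) := by
  rw [dotProduct, Finset.sum_eq_single (a, b)]
  · simp [ten, ee_apply]
  · rintro ⟨c, d⟩ - hne
    by_cases hc : c = a
    · subst hc
      have : d ≠ b := fun h => hne (by rw [h])
      simp [ten, ee_apply, this]
    · simp [ten, ee_apply, hc]
  · simp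

theorem ten_ee_apply (a b : Fin 3) (p : Fin 3 × Fin 3) :
    (ten (ee a) (ee b) : Fin 3 × Fin 3 → F) p = if p = (a, b) then 1 else 0 := by
  obtain ⟨c, d⟩ := p
  simp only [ten, ee_apply, Prod.mk.injEq]
  by_cases hc : c = a <;> by_cases hd : d = b <;> simp [hc, hd]

theorem sum9 (x : Fin 3 × Fin 3 → F) : x = ∑ p : Fin 3 × Fin 3, x p • ten (ee p.1) (ee p.2) := by
  funext q
  simp only [Finset.sum_apply, Pi.smul_apply, smul_eq_mul, ten_ee_apply, mul_ite, mul_one, mul_zero]
  simp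

theorem ext_basis9 {g h : GL (Fin 3 × Fin 3) F}
    (H : ∀ a b : Fin 3, mv g (ten (ee a) (ee b)) = mv h (ten (ee a) (ee b))) : g = h := by
  refine ext_mv fun x => ?_
  rw [sum9 x, mv_sum, mv_sum]
  exact Finset.sum_congr rfl fun p _ => by rw [mv_smul, mv_smul, H]

theorem comm_of_conj {G : Type*} [Group G] {r k : G} (hr : r * r = 1) (h : r * k * r = k) : k * r = r * k := by
  conv_rhs => rw [← h]
  simp [← mul_assoc, hr]

theorem conj_of_comm {G : Type*} [Group G] {r k : G} (hr : r * r = 1) (h : k * r = r * k) : r * k * r = k := by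
  rw [mul_assoc, h, ← mul_assoc, hr, one_mul]

theorem inv_of_conj {G : Type*} [Group G] {r s k : G} (hr : r * r = 1) (hs : s * s = 1) (h1 : r * k * r = k⁻¹)
    (h3 : s * k * s = k⁻¹) : k * (r * s) = r * s * k := by
  have e1 : k * r = r * k⁻¹ := by rw [← h1]; simp [← mul_assoc, hr]
  have e3 : k⁻¹ * s = s * k := by
    have := congrArg Inv.inv h3
    rw [_root_.mul_inv_rev, _root_.mul_inv_rev, inv_inv, inv_eq_of_mul_eq_one_right hs] at this
    conv_rhs => rw [← this]
    simp [← mul_assoc, hs]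
  rw [← mul_assoc, e1, mul_assoc, e3, ← mul_assoc]

theorem kr_self_one {A B : GL (Fin 3) F} (hA : A * A = 1) (hB : B * B = 1) : kr A B * kr A B = 1 := by
  rw [kr_mul, hA, hB, kr_one]

/-- Conjugation by a Kronecker involution fixing the first axis. -/
theorem conjK (C : Ctx M) {X B : GL (Fin 3) F} (hX : X * X = 1) (hB : B * B = 1) (hm : kr X B ∈ M) {δ : F}
    (hδ : δ * δ = 1) (hX0 : mv X (ee 0) = δ • ee 0) {k : GL (Fin 3 × Fin 3) F} (hk : k ∈ Kst M) :
    kr X B * k * kr X B ∈ Kst M ∧ orderOf (kr X B * k * kr X B) = orderOf k := by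
  have hinv : (kr X B)⁻¹ = kr X B := inv_eq_of_mul_eq_one_right (kr_self_one hX hB)
  have h := Kst_conj C hm hδ hX0 hk
  rw [hinv] at h
  refine ⟨h, ?_⟩
  have := MulEquiv.orderOf_eq (MulAut.conj (kr X B)) k
  rwa [MulAut.conj_apply, hinv] at this

theorem axis_fix (α : Fin 3 → F) (hα : α ⬝ᵥ α = 1) (hα0 : α 0 = 0) :
    mv (hh α) (ee 0) = (-1 : F) • (ee 0 : Fin 3 → F) := by
  rw [mv_hh_orth (unit_ne hα) (by rw [dot_ee, hα0]), neg_one_smul]

theorem odd_inverted (C : Ctx M) {α : Fin 3 → F} (hα : α ⬝ᵥ α = 1) (hα0 : α 0 = 0) {k : GL (Fin 3 × Fin 3) F}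
    (hk : k ∈ Kst M) (ho : Odd (orderOf k)) : kr (hh α) 1 * k * kr (hh α) 1 = k⁻¹ := by
  classical
  have h2 := C.h2
  obtain ⟨N, hN, -⟩ := exists_complement C
  set x := kr (hh α) (1 : GL (Fin 3) F) with hx
  have hxx : x * x = 1 := kr_self_one (hh_mul_self α) (mul_one 1)
  have hcj : ∀ {j}, j ∈ Kst M → x * j * x ∈ Kst M ∧ orderOf (x * j * x) = orderOf j := fun {j} hj =>
    conjK C (hh_mul_self α) (mul_one 1) (C.memL hα) (by ring) (axis_fix α hα hα0) hj
  have hmem : ∀ n : ↥N, (⟨x * (n : ↥(Kst M)) * x, (hcj (n : ↥(Kst M)).2).1⟩ : ↥(Kst M)) ∈ N := fun n => by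
    rw [hN, ← Subgroup.orderOf_coe]
    show Odd (orderOf (x * ((n : ↥(Kst M)) : GL (Fin 3 × Fin 3) F) * x))
    rw [(hcj (n : ↥(Kst M)).2).2, Subgroup.orderOf_coe]
    exact (hN _).1 n.2
  let φ : ↥N →* ↥N :=
    { toFun := fun n => ⟨⟨x * (n : ↥(Kst M)) * x, (hcj (n : ↥(Kst M)).2).1⟩, hmem n⟩
      map_one' := Subtype.ext (Subtype.ext (by
        show x * 1 * x = 1
        rw [mul_one, hxx]))
      map_mul' := fun a b => Subtype.ext (Subtype.ext (by
        show x * (_ * _) * x = x * _ * x * (x * _ * x)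
        simp [mul_assoc, ← mul_assoc x x, hxx])) }
  have hinvol : Function.Involutive φ := fun n => Subtype.ext (Subtype.ext (by
    show x * (x * _ * x) * x = _
    simp [← mul_assoc, hxx]
    simp [mul_assoc, hxx]))
  have hfpf : MonoidHom.FixedPointFree φ := fun n hn => by
    set j : GL (Fin 3 × Fin 3) F := ((n : ↥(Kst M)) : GL (Fin 3 × Fin 3) F) with hj
    have hjK : j ∈ Kst M := (n : ↥(Kst M)).2
    have hfix : x * j * x = j := congrArg (fun z : ↥N => ((z : ↥(Kst M)) : GL (Fin 3 × Fin 3) F)) hn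
    have hK := cent_LL' C (ee_self 0) hα (by rw [ee_dot, hα0]) hjK.1 (Kst_comm C hjK) (comm_of_conj hxx hfix)
    obtain ⟨A, hA, hA0, hjA⟩ := Kst_kron C hjK hK
    have hc := comm_of_conj hxx hfix
    rw [hjA, hx, kr_mul, kr_mul, mul_one] at hc
    have hAc := (kr_inj h2 ((SO3 F).mul_mem hA (hh_mem h2 _)) (SO3 F).one_mem ((SO3 F).mul_mem (hh_mem h2 _) hA)
      (SO3 F).one_mem hc).1
    have hAA : A * A = 1 := by
      refine rot_fix h2 ((SO3 F).mul_mem hA hA) (by rw [mv_mul, hA0, hA0]) (unit_ne hα) hα0 ?_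
      rcases hh_comm h2 (unit_ne hα) (mem_SO3.1 hA).1 hAc with h | h
      · rw [mv_mul, h, h]
      · rw [mv_mul, h, mv_neg, h, neg_neg]
    have h1 : j * j = 1 := by rw [hjA, kr_self_one hAA (mul_one 1)]
    obtain ⟨m, hm⟩ := odd_pow_fix (k := j) (by rw [hj, Subgroup.orderOf_coe]; exact (hN _).1 n.2)
    refine Subtype.ext (Subtype.ext ?_)
    show j = 1
    rw [← hm, h1, one_pow]
  have hkN : (⟨k, hk⟩ : ↥(Kst M)) ∈ N := (hN _).2 (by rwa [← Subgroup.orderOf_coe])
  have := congrFun (hfpf.coe_eq_inv_of_involutive hinvol) ⟨_, hkN⟩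
  exact congrArg (fun z : ↥N => ((z : ↥(Kst M)) : GL (Fin 3 × Fin 3) F)) this

theorem odd_mul (C : Ctx M) {a b : GL (Fin 3 × Fin 3) F} (ha : a ∈ Kst M) (hb : b ∈ Kst M)
    (hoa : Odd (orderOf a)) (hob : Odd (orderOf b)) : Odd (orderOf (a * b)) := by
  obtain ⟨N, hN, -⟩ := exists_complement C
  have h := (hN _).1 (N.mul_mem ((hN ⟨a, ha⟩).2 (by rwa [← Subgroup.orderOf_coe]))
    ((hN ⟨b, hb⟩).2 (by rwa [← Subgroup.orderOf_coe])))
  rwa [← Subgroup.orderOf_coe] at h

theorem odd_comm (C : Ctx M) {a b : GL (Fin 3 × Fin 3) F} (ha : a ∈ Kst M) (hb : b ∈ Kst M)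
    (hoa : Odd (orderOf a)) (hob : Odd (orderOf b)) : a * b = b * a := by
  have hu : (ee 1 : Fin 3 → F) ⬝ᵥ ee 1 = 1 := ee_self 1
  have h0 : (ee 1 : Fin 3 → F) 0 = 0 := by simp [ee_apply]
  have hxx : kr (hh (ee 1)) (1 : GL (Fin 3) F) * kr (hh (ee 1)) 1 = 1 := kr_self_one (hh_mul_self _) (mul_one 1)
  have e := odd_inverted C hu h0 ((Kst M).mul_mem ha hb) (odd_mul C ha hb hoa hob)
  rw [show kr (hh (ee 1)) 1 * (a * b) * kr (hh (ee 1)) (1 : GL (Fin 3) F) =
    (kr (hh (ee 1)) 1 * a * kr (hh (ee 1)) 1) * (kr (hh (ee 1)) 1 * b * kr (hh (ee 1)) 1) by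
      simp [mul_assoc, ← mul_assoc (kr (hh (ee 1)) (1 : GL (Fin 3) F)) (kr (hh (ee 1)) 1), hxx],
    odd_inverted C hu h0 ha hoa, odd_inverted C hu h0 hb hob, _root_.mul_inv_rev] at e
  have := congrArg Inv.inv e
  simpa using this.symm

theorem monomial (h2 : (2 : F) ≠ 0) {P R P' R' : F} (h1 : P * P + R * R = 1) (h3 : P' * P' + R' * R' = 1)
    (h0 : P * P' + R * R' = 0) (hPR : P * R = 0) (hPR' : P' * R' = 0) {κ : Type} [Fintype κ] [DecidableEq κ]
    {k : GL κ F} {u v : κ → F} (hu : mv k u = P • u + R • v) (hv : mv k v = P' • u + R' • v) :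
    mv (k * k * (k * k)) u = u ∧ mv (k * k * (k * k)) v = v := by
  rcases mul_eq_zero.1 hPR with hP | hR
  · subst hP
    have hR : R ≠ 0 := fun h => by rw [h] at h1; simp at h1
    have hR' : R' = 0 := (mul_eq_zero.1 (show R * R' = 0 by linear_combination h0)).resolve_left hR
    subst hR'
    have ha : R * R = 1 := by linear_combination h1
    have hb : P' * P' = 1 := by linear_combination h3
    simp only [zero_smul, zero_add, add_zero] at hu hv
    refine ⟨?_, ?_⟩ <;> simp only [mv_mul, hu, hv, mv_smul, smul_smul]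
    · rw [show R * P' * (R * P') = 1 by linear_combination P' * P' * ha + hb, one_smul]
    · rw [show P' * R * (P' * R) = 1 by linear_combination P' * P' * ha + hb, one_smul]
  · subst hR
    have hP : P ≠ 0 := fun h => by rw [h] at h1; simp at h1
    have hP' : P' = 0 := (mul_eq_zero.1 (show P * P' = 0 by linear_combination h0)).resolve_left hP
    subst hP'
    have ha : P * P = 1 := by linear_combination h1
    have hb : R' * R' = 1 := by linear_combination h3
    simp only [zero_smul, zero_add, add_zero] at hu hv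
    refine ⟨?_, ?_⟩ <;> simp only [mv_mul, hu, hv, mv_smul, smul_smul]
    · rw [show P * P * (P * P) = 1 by linear_combination (P * P + 1) * ha, one_smul]
    · rw [show R' * R' * (R' * R') = 1 by linear_combination (R' * R' + 1) * hb, one_smul]

theorem turn_ee (h2 : (2 : F) ≠ 0) {c s : F} (hcs : c * c + s * s = 1) :
    mv (hh (ee 1) * hh ![0, c, s]) (ee 1) = (2 * c * c - 1) • (ee 1 : Fin 3 → F) + (-(2 * c * s)) • ee 2 ∧
      mv (hh (ee 1) * hh ![0, c, s]) (ee 2) = (2 * c * s) • (ee 1 : Fin 3 → F) + (2 * c * c - 1) • ee 2 := by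
  have hα : (![0, c, s] : Fin 3 → F) ⬝ᵥ ![0, c, s] = 1 := by simp [dot3]; linear_combination hcs
  refine ⟨?_, ?_⟩ <;>
    rw [mv_mul, mv_hh (unit_ne hα), mv_hh_ee, hα, div_one, dot_ee] <;>
    funext j <;> fin_cases j <;> simp [ee_apply] <;>
    first
      | ring1
      | linear_combination -2 * hcs

/-- An odd member of the stabiliser centralised by one right half turn and inverted by another is trivial. -/
theorem kill01 (C : Ctx M) {k : GL (Fin 3 × Fin 3) F} (hk : k ∈ Kst M) (ho : Odd (orderOf k))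
    (h0 : k * kr 1 (hh (ee 0)) = kr 1 (hh (ee 0)) * k)
    (h1 : kr 1 (hh (ee 1)) * k * kr 1 (hh (ee 1)) = k⁻¹) : k = 1 := by
  have h2 := C.h2
  have hkO := C.iso hk.1
  have hdot := (mem_iso h2).1 hkO
  have Rmv : ∀ (X : GL (Fin 3) F) (a : Fin 3) (w : Fin 3 → F),
      mv (kr (1 : GL (Fin 3) F) X) (ten (ee a) w) = ten (ee a) (mv X w) := fun X a w => by rw [mv_kr_ten, mv_one]
  have Lmv : ∀ (X : GL (Fin 3) F) (u : Fin 3 → F) (b : Fin 3),
      mv (kr X (1 : GL (Fin 3) F)) (ten u (ee b)) = ten (mv X u) (ee b) := fun X u b => by rw [mv_kr_ten, mv_one]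
  have hrowfix : ∀ b, mv k (ten (ee 0) (ee b)) = ten (ee 0) (ee b) := fun b => mem_fix0.1 hk.2 _
  -- the first column
  have hcol : ∀ a, mv k (ten (ee a) (ee 0)) = ten (ee a) (ee 0) := by
    intro a
    rcases eq_or_ne a 0 with rfl | ha
    · exact hrowfix 0
    set z : Fin 3 × Fin 3 → F := ten (ee a) (ee 0) with hz
    have e0 : mv (kr 1 (hh (ee 0))) (mv k z) = mv k z := by
      rw [← mv_mul, ← h0, mv_mul, hz, Rmv, mv_hh_self (unit_ne (ee_self 0))]
    have hval : ∀ p : Fin 3 × Fin 3, p.1 = 0 ∨ p.2 ≠ 0 → mv k z p = 0 := by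
      rintro ⟨i, j⟩ hp
      by_cases hi : i = 0
      · subst hi
        rw [fix0_row h2 hkO hk.2, hz, ten_ee_apply]
        simp [Ne.symm ha]
      · have hj : j ≠ 0 := hp.resolve_left hi
        have := congrFun e0 (i, j)
        rw [kr_eq_dg, mv_dg, mv_hh_ee] at this
        simp only [hj, if_false] at this
        have h2' : (2 : F) * mv k z (i, j) = 0 := by linear_combination -this
        exact (mul_eq_zero.1 h2').resolve_left h2
    have e1 : mv (kr 1 (hh (ee 1))) (mv k z) = -mv k z := by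
      funext ⟨i, j⟩
      rw [kr_eq_dg, mv_dg, mv_hh_ee, Pi.neg_apply]
      by_cases hj : j = 1
      · subst hj; simp [hval (i, 1) (Or.inr one_ne_zero)]
      · simp [hj]
    have e2 : mv (kr 1 (hh (ee 1))) z = -z := by
      rw [hz, Rmv, mv_hh_orth (unit_ne (ee_self 1)) (by simp [ee_dot_ee]), ← neg_one_smul F (ee 0), ten_smul_right,
        neg_one_smul]
    refine odd_fix ho ?_
    have hh1 : mv k⁻¹ z = mv k z := by
      rw [← h1, mv_mul, mv_mul, e2, mv_neg, mv_neg, e1, neg_neg]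
    rw [mv_mul, ← hh1, mv_mv_inv]
  -- every right half turn orthogonal to the first axis inverts k
  have hRinv : ∀ β : Fin 3 → F, β ⬝ᵥ β = 1 → β 0 = 0 →
      kr 1 (hh β) * k * kr 1 (hh β) = k⁻¹ := by
    intro β hβ hβ0
    set R := kr (1 : GL (Fin 3) F) (hh β) with hR
    have hRR : R * R = 1 := kr_self_one (mul_one 1) (hh_mul_self β)
    obtain ⟨hjK, hjo⟩ := conjK C (mul_one 1) (hh_mul_self β) (C.memR hβ) (one_mul 1)
      (by rw [mv_one, one_smul]) hk
    set j := R * k * R with hj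
    have hjodd : Odd (orderOf j) := hjo.symm ▸ ho
    have hcomm := odd_comm C hk hjK ho hjodd
    have hm : k * j ∈ Kst M := (Kst M).mul_mem hk hjK
    have hc0 : R * kr 1 (hh (ee 0)) = kr 1 (hh (ee 0)) * R := by
      rw [hR, kr_mul, kr_mul, hh_orth_comm h2 (a := β) (b := ee 0) (unit_ne (ee_self 0)) (by rw [dot_ee, hβ0])]
    have hj0 : j * kr 1 (hh (ee 0)) = kr 1 (hh (ee 0)) * j :=
      ((Commute.mul_left hc0 h0).mul_left hc0).eq
    have hmR : k * j * R = R * (k * j) := by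
      refine comm_of_conj hRR ?_
      rw [hj, show R * (k * (R * k * R)) * R = (R * k * R) * (k * (R * R)) by simp only [mul_assoc], hRR, mul_one]
      exact hcomm.symm
    have hK := cent_RR C (ee_self 0) hβ (by rw [ee_dot, hβ0]) hm.1 (Commute.mul_left h0 hj0).eq hmR
    obtain ⟨A, hA, hA0, hmA⟩ := Kst_kron C hm hK
    have hfixm : ∀ a, mv (k * j) (ten (ee a) (ee 0)) = ten (ee a) (ee 0) := fun a => by
      have hRz : mv R (ten (ee a) (ee 0)) = -ten (ee a) (ee 0) := by
        rw [hR, Rmv, mv_hh_orth (unit_ne hβ) (by rw [dot_ee, hβ0]), ← neg_one_smul F (ee 0), ten_smul_right,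
          neg_one_smul]
      rw [hj, mv_mul, mv_mul, mv_mul, hRz, mv_neg, hcol, mv_neg, hRz, neg_neg, hcol]
    have hA1 : A = 1 := rot_ext fun a => by
      have := hfixm a
      rw [hmA, Lmv] at this
      rw [mv_one]
      exact ten_left_cancel (ee_ne_zero 0) this
    rw [hA1, kr_one] at hmA
    exact (inv_eq_of_mul_eq_one_right hmA).symm
  have hLinv : ∀ α : Fin 3 → F, α ⬝ᵥ α = 1 → α 0 = 0 → kr (hh α) 1 * k * kr (hh α) 1 = k⁻¹ := fun α hα hα0 =>
    odd_inverted C hα hα0 hk ho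
  have h11 : (ee 1 : Fin 3 → F) 0 = 0 := by simp [ee_apply]
  -- Z11 is centralised
  have hZ : k * kr (hh (ee 1)) (hh (ee 1)) = kr (hh (ee 1)) (hh (ee 1)) * k := by
    rw [show (kr (hh (ee 1)) (hh (ee 1)) : GL (Fin 3 × Fin 3) F) = kr (hh (ee 1)) 1 * kr 1 (hh (ee 1)) by
      rw [kr_mul, mul_one, one_mul]]
    exact inv_of_conj (kr_self_one (hh_mul_self _) (mul_one 1)) (kr_self_one (mul_one 1) (hh_mul_self _))
      (hLinv _ (ee_self 1) h11) h1
  -- coordinates on the four remaining vectors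
  have supp : ∀ a b : Fin 3, a ≠ 0 → b ≠ 0 → ∀ i j : Fin 3,
      (i = 0 ∨ j = 0 ∨ ((a = b) ≠ (i = j))) → mv k (ten (ee a) (ee b)) (i, j) = 0 := by
    intro a b ha hb i j hij
    by_cases hi : i = 0
    · subst hi
      rw [fix0_row h2 hkO hk.2, ten_ee_apply]
      simp [Ne.symm ha]
    by_cases hj : j = 0
    · subst hj
      have := hdot (ten (ee i) (ee 0)) (ten (ee a) (ee b))
      rw [hcol, ten_ee_dot, ten_ee_dot, ten_ee_apply] at this
      rw [this]; simp [Ne.symm hb]
    have hne : (a = b) ≠ (i = j) := (hij.resolve_left hi).resolve_left hj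
    have e := congrFun (congrArg (fun g => mv g (ten (ee a) (ee b))) hZ) (i, j)
    have hz : ∀ x : Fin 3 × Fin 3 → F, mv (kr (hh (ee 1)) (hh (ee 1))) x (i, j) =
        (if i = 1 then (1 : F) else -1) * (if j = 1 then (1 : F) else -1) * x (i, j) := fun x => by
      rw [show (kr (hh (ee 1)) (hh (ee 1)) : GL (Fin 3 × Fin 3) F) = kr (hh (ee 1)) 1 * kr 1 (hh (ee 1)) by
        rw [kr_mul, mul_one, one_mul], kr_hh_dg, kr_eq_dg, mv_mul, mv_dg]
      split_ifs <;> simp_all [mv_one, mv, Matrix.neg_mulVec, mv_dg, mv_hh_ee] <;>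
        simp_all [Matrix.mulVec]
    simp only [mv_mul] at e
    rw [hz, mv_kr_ten] at e
    have hab : ∀ x : Fin 3, x ≠ 0 → mv (hh (ee 1)) (ee x) = (if x = 1 then (1 : F) else -1) • (ee x : Fin 3 → F) := by
      intro x hx
      by_cases h : x = 1
      · subst h; rw [if_pos rfl, one_smul, mv_hh_self (unit_ne (ee_self 1))]
      · rw [if_neg h, mv_hh_orth (unit_ne (ee_self 1)) (by rw [ee_dot_ee, if_neg (Ne.symm h)]), neg_one_smul]
    rw [hab a ha, hab b hb, ten_smul_left, ten_smul_right, smul_smul, mv_smul, Pi.smul_apply, smul_eq_mul] at e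
    generalize mv k (ten (ee a) (ee b)) (i, j) = x at e ⊢
    fin_cases a <;> fin_cases b <;> fin_cases i <;> fin_cases j <;> simp at ha hb hi hj hne e ⊢ <;>
      exact (mul_eq_zero.1 (show (2 : F) * x = 0 by first | linear_combination e | linear_combination -e)).resolve_left h2
  have expand : ∀ a b : Fin 3, a ≠ 0 → b ≠ 0 → a = b →
      mv k (ten (ee a) (ee b)) = mv k (ten (ee a) (ee b)) (1, 1) • ten (ee 1) (ee 1) +
        mv k (ten (ee a) (ee b)) (2, 2) • ten (ee 2) (ee 2) := by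
    intro a b ha hb hab
    funext ⟨i, j⟩
    have := supp a b ha hb i j
    fin_cases i <;> fin_cases j <;> simp [ten_ee_apply, hab] at this ⊢ <;> exact this
  have expand' : ∀ a b : Fin 3, a ≠ 0 → b ≠ 0 → a ≠ b →
      mv k (ten (ee a) (ee b)) = mv k (ten (ee a) (ee b)) (1, 2) • ten (ee 1) (ee 2) +
        mv k (ten (ee a) (ee b)) (2, 1) • ten (ee 2) (ee 1) := by
    intro a b ha hb hab
    funext ⟨i, j⟩
    have := supp a b ha hb i j
    fin_cases i <;> fin_cases j <;> simp [ten_ee_apply, hab] at this ⊢ <;> exact this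
  have k11 := expand 1 1 (by decide) (by decide) rfl
  have k22 := expand 2 2 (by decide) (by decide) rfl
  have k12 := expand' 1 2 (by decide) (by decide) (by decide)
  have k21 := expand' 2 1 (by decide) (by decide) (by decide)
  generalize mv k (ten (ee 1) (ee 1)) (1, 1) = P at k11
  generalize mv k (ten (ee 1) (ee 1)) (2, 2) = R at k11
  generalize mv k (ten (ee 2) (ee 2)) (1, 1) = P' at k22
  generalize mv k (ten (ee 2) (ee 2)) (2, 2) = R' at k22
  generalize mv k (ten (ee 1) (ee 2)) (1, 2) = S at k12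
  generalize mv k (ten (ee 1) (ee 2)) (2, 1) = T at k12
  generalize mv k (ten (ee 2) (ee 1)) (1, 2) = S' at k21
  generalize mv k (ten (ee 2) (ee 1)) (2, 1) = T' at k21
  have hd : ∀ a b c d : Fin 3, (ten (ee a) (ee b) : Fin 3 × Fin 3 → F) ⬝ᵥ ten (ee c) (ee d) =
      if (a, b) = (c, d) then 1 else 0 := fun a b c d => by
    rw [ten_ee_dot, ten_ee_apply]
  have n1 := hdot (ten (ee 1) (ee 1)) (ten (ee 1) (ee 1))
  have n2 := hdot (ten (ee 2) (ee 2)) (ten (ee 2) (ee 2))
  have n0 := hdot (ten (ee 1) (ee 1)) (ten (ee 2) (ee 2))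
  have m1 := hdot (ten (ee 1) (ee 2)) (ten (ee 1) (ee 2))
  have m2 := hdot (ten (ee 2) (ee 1)) (ten (ee 2) (ee 1))
  have m0 := hdot (ten (ee 1) (ee 2)) (ten (ee 2) (ee 1))
  simp only [k11, k22, k12, k21, add_dotProduct, dotProduct_add, smul_dotProduct, dotProduct_smul, smul_eq_mul, hd,
    Prod.mk.injEq, Fin.reduceEq, and_self, and_false, false_and, if_true, if_false, mul_one, mul_zero, add_zero,
    zero_add] at n1 n2 n0 m1 m2 m0
  have key : P * R = 0 ∧ P' * R' = 0 ∧ S * T = 0 ∧ S' * T' = 0 := by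
    by_cases hex : ∃ c s : F, c * c + s * s = 1 ∧ c * s ≠ 0
    · obtain ⟨c, s, hcs, hne⟩ := hex
      obtain ⟨t1, t2⟩ := turn_ee h2 hcs
      set r : GL (Fin 3) F := hh (ee 1) * hh ![0, c, s] with hr
      have hα : (![0, c, s] : Fin 3 → F) ⬝ᵥ ![0, c, s] = 1 := by simp [dot3]; linear_combination hcs
      have cL : k * kr r 1 = kr r 1 * k := by
        rw [show (kr r (1 : GL (Fin 3) F) : GL (Fin 3 × Fin 3) F) = kr (hh (ee 1)) 1 * kr (hh ![0, c, s]) 1 by
          rw [kr_mul, mul_one]]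
        exact inv_of_conj (kr_self_one (hh_mul_self _) (mul_one 1)) (kr_self_one (hh_mul_self _) (mul_one 1))
          (hLinv _ (ee_self 1) h11) (hLinv _ hα rfl)
      have cR : k * kr 1 r = kr 1 r * k := by
        rw [show (kr (1 : GL (Fin 3) F) r : GL (Fin 3 × Fin 3) F) = kr 1 (hh (ee 1)) * kr 1 (hh ![0, c, s]) by
          rw [kr_mul, mul_one]]
        exact inv_of_conj (kr_self_one (mul_one 1) (hh_mul_self _)) (kr_self_one (mul_one 1) (hh_mul_self _))
          h1 (hRinv _ hα rfl)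
      set C0 := 2 * c * c - 1
      set S0 := -(2 * c * s) with hS0
      have hS0ne : S0 ≠ 0 := by
        rw [hS0, mul_assoc]; exact neg_ne_zero.2 (mul_ne_zero h2 hne)
      have t2' : mv r (ee 2) = (-S0) • (ee 1 : Fin 3 → F) + C0 • ee 2 := by rw [t2, hS0, neg_neg]
      have e1 := congrArg (fun g => mv g (ten (ee 1) (ee 1))) cL
      have e2 := congrArg (fun g => mv g (ten (ee 1) (ee 1))) cR
      simp only [mv_mul, Lmv, Rmv, t1, t2', k11, k21, k12, mv_add, mv_smul, ten_add_left, ten_add_right,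
        ten_smul_left, ten_smul_right] at e1 e2
      have ev : ∀ (a b i j : Fin 3), (ten (ee a) (ee b) : Fin 3 × Fin 3 → F) (i, j) =
          if (i, j) = (a, b) then 1 else 0 := fun a b i j => ten_ee_apply a b (i, j)
      have a12 := congrFun e1 (1, 2)
      have a21 := congrFun e1 (2, 1)
      have b12 := congrFun e2 (1, 2)
      have b21 := congrFun e2 (2, 1)
      simp only [Pi.add_apply, Pi.smul_apply, smul_eq_mul, ev, Prod.mk.injEq, Fin.reduceEq, and_self, and_false,
        false_and, if_true, if_false, mul_one, mul_zero, add_zero, zero_add] at a12 a21 b12 b21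
      have hT' : T' = P := mul_left_cancel₀ hS0ne (by linear_combination a21)
      have hS' : S' = -R := mul_left_cancel₀ hS0ne (by linear_combination a12)
      have hS : S = P := mul_left_cancel₀ hS0ne (by linear_combination b12)
      have hT : T = -R := mul_left_cancel₀ hS0ne (by linear_combination b21)
      rw [hT', hS'] at k21
      have e3 := congrArg (fun g => mv g (ten (ee 2) (ee 1))) cR
      simp only [mv_mul, Rmv, t1, t2', k22, k21, mv_add, mv_smul, ten_add_right, ten_smul_right] at e3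
      have c22 := congrFun e3 (2, 2)
      have c11 := congrFun e3 (1, 1)
      simp only [Pi.add_apply, Pi.smul_apply, smul_eq_mul, ev, Prod.mk.injEq, Fin.reduceEq, and_self, and_false,
        false_and, if_true, if_false, mul_one, mul_zero, add_zero, zero_add] at c22 c11
      have hR' : R' = P := mul_left_cancel₀ hS0ne (by linear_combination c22)
      have hP' : P' = R := mul_left_cancel₀ hS0ne (by linear_combination c11)
      rw [hR', hP'] at n0
      have hPR : P * R = 0 := (mul_eq_zero.1 (show (2 : F) * (P * R) = 0 by linear_combination n0)).resolve_left h2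
      refine ⟨hPR, ?_, ?_, ?_⟩
      · rw [hR', hP']; linear_combination hPR
      · rw [hS, hT]; linear_combination -hPR
      · rw [hS', hT']; linear_combination -hPR
    · push Not at hex
      exact ⟨hex _ _ n1, hex _ _ n2, hex _ _ m1, hex _ _ m2⟩
  obtain ⟨p1, p2, p3, p4⟩ := key
  obtain ⟨f11, f22⟩ := monomial h2 n1 n2 (by linear_combination n0) p1 p2 k11 k22
  obtain ⟨f12, f21⟩ := monomial h2 m1 m2 (by linear_combination m0) p3 p4 k12 k21
  have h4 : k * k * (k * k) = 1 := ext_basis9 fun a b => by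
    rw [mv_one]
    fin_cases a <;> fin_cases b <;>
      first
        | exact f11 | exact f22 | exact f12 | exact f21
        | (simp only [Fin.zero_eta, Fin.mk_one, Fin.reduceFinMk, mv_mul, hrowfix, hcol])
  obtain ⟨m, hm⟩ := odd_pow_fix ho
  have ho2 : Odd (orderOf (k * k)) := by
    rw [← pow_two]; exact ho.of_dvd_nat (orderOf_pow_dvd 2)
  obtain ⟨m', hm'⟩ := odd_pow_fix ho2
  rw [← hm, ← hm', h4, one_pow, one_pow]

theorem conj_M' (C : Ctx M) {A : GL (Fin 3) F} (hA : A ∈ SO3 F) {k : GL (Fin 3 × Fin 3) F} (hk : k ∈ Kst M) :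
    Ctx (cj (kr 1 A) M) ∧ kr 1 A * k * (kr 1 A)⁻¹ ∈ Kst (cj (kr 1 A) M) :=
  ⟨C.conj (kr_iso C.h2 (O3 F).one_mem (mem_SO3.1 hA).1) (inK_kr _ _),
    conj_mem_cj hk.1, fix0_conj rfl (one_mul 1) (by rw [mv_one, one_smul]) hk.2⟩

theorem kill (C : Ctx M) {i j : Fin 3} (hij : i ≠ j) {k : GL (Fin 3 × Fin 3) F} (hk : k ∈ Kst M)
    (ho : Odd (orderOf k)) (h0 : k * kr 1 (hh (ee i)) = kr 1 (hh (ee i)) * k)
    (h1 : kr 1 (hh (ee j)) * k * kr 1 (hh (ee j)) = k⁻¹) : k = 1 := by
  obtain ⟨A, hA, ea, eb⟩ := frame C.h2 (ee_self i) (ee_self j) (by rw [ee_dot_ee, if_neg hij])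
  obtain ⟨C', hk'⟩ := conj_M' C hA hk
  have key : ∀ X : GL (Fin 3) F, kr 1 A * kr 1 X * (kr 1 A)⁻¹ = kr 1 (A * X * A⁻¹) := fun X => by
    rw [conj_kr, one_mul, inv_one, mul_one]
  have e0 := comm_conj (h := kr 1 A) h0
  rw [key, ea] at e0
  have e1 := congrArg (MulAut.conj (kr 1 A)) h1
  simp only [map_mul, map_inv, MulAut.conj_apply, key, eb] at e1
  have ho' : Odd (orderOf (kr 1 A * k * (kr 1 A)⁻¹)) := by
    rw [show kr 1 A * k * (kr 1 A)⁻¹ = MulAut.conj (kr 1 A) k from rfl, MulEquiv.orderOf_eq]; exact ho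
  have := kill01 C' hk' ho' e0 e1
  rwa [mul_inv_eq_one, mul_eq_left] at this

/-- The members fixing the first row pointwise are rotations. -/
theorem Kst_inK (C : Ctx M) {k : GL (Fin 3 × Fin 3) F} (hk : k ∈ Kst M) : InK k := by
  obtain ⟨N, hN, hdec⟩ := exists_complement C
  suffices key : ∀ u ∈ Kst M, Odd (orderOf u) → InK u by
    obtain ⟨o, ho, p, hp, e⟩ := hdec ⟨k, hk⟩
    have hk' : k = (o : GL (Fin 3 × Fin 3) F) * p := congrArg Subtype.val e
    rw [hk']
    refine inK_mul (key _ o.2 ?_) hp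
    rw [Subgroup.orderOf_coe]
    exact (hN o).1 ho
  intro u hu hou
  obtain ⟨R, hR⟩ : ∃ R : Fin 3 → GL (Fin 3 × Fin 3) F, ∀ i, R i = kr 1 (hh (ee i)) := ⟨_, fun _ => rfl⟩
  have hRR : ∀ i, R i * R i = 1 := fun i => by rw [hR]; exact kr_self_one (mul_one 1) (hh_mul_self _)
  have hRc : ∀ i j, R i * R j = R j * R i := fun i j => by
    rw [hR, hR, kr_mul, kr_mul, ee_hh_comm C.h2]
  obtain ⟨s, hs⟩ : ∃ s : Fin 3 → GL (Fin 3 × Fin 3) F → GL (Fin 3 × Fin 3) F,
      ∀ i v, s i v = R i * v * R i := ⟨_, fun _ _ => rfl⟩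
  have sK : ∀ i {v}, v ∈ Kst M → Odd (orderOf v) → s i v ∈ Kst M ∧ Odd (orderOf (s i v)) := by
    intro i v hv hov
    have h := conjK C (mul_one 1) (hh_mul_self (ee i)) (C.memR (ee_self i)) (one_mul 1)
      (by rw [mv_one, one_smul]) hv
    simp only [hs, hR]
    exact ⟨h.1, h.2.symm ▸ hov⟩
  have sm : ∀ i v w, s i (v * w) = s i v * s i w := fun i v w => by
    simp only [hs, mul_assoc, ← mul_assoc (R i) (R i), hRR, one_mul]
  have ss : ∀ i v, s i (s i v) = v := fun i v => by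
    simp only [hs, mul_assoc, hRR, mul_one, ← mul_assoc (R i) (R i), one_mul]
  have sfix : ∀ {i j v}, i ≠ j → v ∈ Kst M → Odd (orderOf v) → s i v = v → s j v = v → InK v := by
    intro i j v hij hv _ hi hj
    rw [hs] at hi hj
    have e1 := comm_of_conj (hRR i) hi
    have e2 := comm_of_conj (hRR j) hj
    rw [hR] at e1 e2
    exact cent_RR C (ee_self i) (ee_self j) (by rw [ee_dot_ee, if_neg hij]) hv.1 e1 e2
  -- elements fixed by one
  have sq_mem : ∀ {v}, v ∈ Kst M → Odd (orderOf v) → InK (v * v) → InK v := by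
    intro v _ hov h
    obtain ⟨m, hm⟩ := odd_pow_fix hov
    rw [← hm]
    have : ∀ n : ℕ, InK ((v * v) ^ n) := fun n => by
      induction n with
      | zero => rw [pow_zero, ← kr_one]; exact inK_kr _ _
      | succ n ih => rw [pow_succ]; exact inK_mul ih h
    exact this m
  have one_fixed : ∀ {i j v}, i ≠ j → v ∈ Kst M → Odd (orderOf v) → s i v = v → InK v := by
    intro i j v hij hv hov hi
    obtain ⟨hwK, hwo⟩ := sK j hv hov
    refine sq_mem hv hov ?_
    have hi' : R i * v * R i = v := (hs i v).symm.trans hi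
    have hiw : s i (s j v) = s j v := by
      rw [hs, hs]
      calc R i * (R j * v * R j) * R i = R i * R j * v * (R j * R i) := by simp only [mul_assoc]
        _ = R j * R i * v * (R i * R j) := congrArg₂ (fun p q => p * v * q) (hRc i j) (hRc j i)
        _ = R j * (R i * v * R i) * R j := by simp only [mul_assoc]
        _ = _ := by rw [hi']
    have hc := odd_comm C hv hwK hov hwo
    have hp : InK (v * s j v) := by
      refine sfix hij ((Kst M).mul_mem hv hwK) (odd_mul C hv hwK hov hwo) (by rw [sm, hi, hiw]) ?_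
      rw [sm, ss]; exact hc.symm
    have hwi : Odd (orderOf (s j v)⁻¹) := by rwa [orderOf_inv]
    have hm1 : v * (s j v)⁻¹ = 1 := by
      refine kill C hij ((Kst M).mul_mem hv ((Kst M).inv_mem hwK)) (odd_mul C hv ((Kst M).inv_mem hwK) hov hwi) ?_ ?_
      · have e1 : Commute v (R i) := comm_of_conj (hRR i) hi'
        have e2 : Commute (s j v) (R i) := comm_of_conj (hRR i) ((hs _ _).symm.trans hiw)
        have := (e1.mul_left e2.inv_left).eq
        rwa [hR] at this
      · have hinv : s j (s j v)⁻¹ = v⁻¹ := by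
          have h1 : (R j)⁻¹ = R j := inv_eq_of_mul_eq_one_right (hRR j)
          calc s j (s j v)⁻¹ = R j * (R j * v⁻¹ * R j) * R j := by
                rw [hs, hs]
                rw [_root_.mul_inv_rev, _root_.mul_inv_rev, h1]; simp only [mul_assoc]
            _ = v⁻¹ := by rw [← hs, ← hs, ss]
        have := sm j v (s j v)⁻¹
        rw [hinv] at this
        rw [← hR]
        rw [← hs, this, _root_.mul_inv_rev, inv_inv]
    rw [show v * v = v * s j v * (v * (s j v)⁻¹) by rw [hm1, mul_one, ← mul_inv_eq_one.1 hm1]]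
    exact inK_mul hp (by rw [hm1, ← kr_one]; exact inK_kr _ _)
  obtain ⟨ha, hoa⟩ := sK 0 hu hou
  obtain ⟨hb, hob⟩ := sK 1 hu hou
  obtain ⟨hc, hoc⟩ := sK 2 hu hou
  have cua := odd_comm C hu ha hou hoa
  have cub := odd_comm C hu hb hou hob
  have cuc := odd_comm C hu hc hou hoc
  have hv : ∀ i, InK (u * s i u) := fun i => by
    obtain ⟨hw, how⟩ := sK i hu hou
    refine one_fixed (i := i) (j := i + 1) (by fin_cases i <;> decide) ((Kst M).mul_mem hu hw)
      (odd_mul C hu hw hou how) ?_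
    rw [sm, ss]; exact (odd_comm C hu hw hou how).symm
  have r01 : R 0 * R 1 = R 2 := by rw [hR, hR, hR, kr_mul, mul_one, hh_ee_mul C.h2]
  have r10 : R 1 * R 0 = R 2 := by rw [hRc, r01]
  have r02 : R 0 * R 2 = R 1 := by rw [← r01, ← mul_assoc, hRR, one_mul]
  have r20 : R 2 * R 0 = R 1 := by rw [hRc, r02]
  have r12 : R 1 * R 2 = R 0 := by rw [← r10, ← mul_assoc, hRR, one_mul]
  have r21 : R 2 * R 1 = R 0 := by rw [hRc, r12]
  have comp : ∀ {i j l}, R i * R j = R l → R j * R i = R l → s i (s j u) = s l u := fun {i j l} h h' => by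
    rw [hs, hs, hs]
    calc _ = (R i * R j) * u * (R j * R i) := by simp only [mul_assoc]
      _ = _ := by rw [h, h']
  set a := s 0 u with hadef
  set b := s 1 u with hbdef
  set c := s 2 u with hcdef
  have hua := (Kst M).mul_mem hu ha
  have houa := odd_mul C hu ha hou hoa
  have hbc := (Kst M).mul_mem hb hc
  have hobc := odd_mul C hb hc hob hoc
  have hNk : InK (u * a * (b * c)) := by
    refine sfix (i := 0) (j := 1) (by decide) ((Kst M).mul_mem hua hbc) (odd_mul C hua hbc houa hobc) ?_ ?_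
    · rw [sm, sm, sm, ← hadef, hadef, ss, ← hadef, comp r01 r10, comp r02 r20, ← hcdef, ← hbdef, ← cua,
        odd_comm C hc hb hoc hob]
    · rw [sm, sm, sm, ← hbdef, comp r10 r01, hbdef, ss, ← hbdef, comp r12 r21, ← hadef, ← hcdef,
        show b * c * (u * a) = (u * a) * (b * c) from odd_comm C hbc hua hobc houa]
  refine sq_mem hu hou ?_
  have e : u * a * (u * b) * (u * c) = u * u * (u * a * (b * c)) := by
    have cau : a * u = u * a := cua.symm
    have cbu : b * u = u * b := cub.symm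
    calc u * a * (u * b) * (u * c) = u * (a * u) * (b * u) * c := by simp only [mul_assoc]
      _ = u * (u * a) * (u * b) * c := by rw [cau, cbu]
      _ = u * u * (a * u) * b * c := by simp only [mul_assoc]
      _ = _ := by rw [cau]; simp only [mul_assoc]
  have := inK_mul (inK_mul (inK_mul (hv 0) (hv 1)) (hv 2)) (inK_inv hNk)
  rwa [e, mul_inv_cancel_right] at this

/-- The centraliser of the standard left half turn consists of Kronecker products. -/
theorem cent_L0 (C : Ctx M) {g : GL (Fin 3 × Fin 3) F} (hg : g ∈ M)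
    (h : g * kr (hh (ee 0)) 1 = kr (hh (ee 0)) 1 * g) : InK g := by
  have h2 := C.h2
  have hgO := C.iso hg
  have hrow : ∀ (g : GL (Fin 3 × Fin 3) F), g * kr (hh (ee 0)) 1 = kr (hh (ee 0)) 1 * g →
      ∀ w, mv g (ten (ee 0) w) = ten (ee 0) fun j => mv g (ten (ee 0) w) (0, j) := by
    intro g h w
    have e := congrArg (fun z => mv z (ten (ee 0) w)) h
    simp only [mv_mul, mv_kr_ten, mv_one, mv_hh_self (unit_ne (ee_self 0))] at e
    funext ⟨i, j⟩
    by_cases hi : i = 0
    · subst hi; simp [ten, ee_apply]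
    · have := congrFun e (i, j)
      rw [L0_apply, Pi.sub_apply, Pi.smul_apply, ten_apply, ee_apply, if_neg hi, zero_mul, smul_zero, zero_sub]
        at this
      simp only [ten_apply, ee_apply, hi, if_false, zero_mul]
      exact (mul_eq_zero.1 (show (2 : F) * _ = 0 by linear_combination this)).resolve_left h2
  obtain ⟨Bm, hBm⟩ : ∃ Bm : Matrix (Fin 3) (Fin 3) F,
      Bm = Matrix.of fun j l => (g : Matrix (Fin 3 × Fin 3) (Fin 3 × Fin 3) F) (0, j) (0, l) := ⟨_, rfl⟩
  have hBw : ∀ w, mv g (ten (ee 0) w) = ten (ee 0) (Bm *ᵥ w) := fun w => by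
    rw [hrow g h w]
    congr 1
    funext j
    simp [mv, hBm, Matrix.mulVec, dotProduct, Fintype.sum_prod_type, ten, ee_apply, Fin.sum_univ_three]
  have hBd : ∀ u v, (Bm *ᵥ u) ⬝ᵥ (Bm *ᵥ v) = u ⬝ᵥ v := fun u v => by
    have := (mem_iso h2).1 hgO (ten (ee 0) u) (ten (ee 0) v)
    rwa [hBw, hBw, ten_dot, ten_dot, ee_self, one_mul, one_mul] at this
  have hBT : Bmᵀ * Bm = 1 := by
    ext a b
    have e := hBd (Pi.single a 1) (Pi.single b 1)
    simp only [Matrix.mulVec_single_one, single_one_dotProduct, Pi.single_apply] at e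
    rw [Matrix.one_apply, Matrix.mul_apply]
    simpa [dotProduct] using e
  have hdd : Bm.det * Bm.det = 1 := by
    have := congrArg Matrix.det hBT
    rwa [Matrix.det_mul, Matrix.det_transpose, Matrix.det_one] at this
  set δ := Bm.det with hδ
  have hδ0 : δ ≠ 0 := fun h0 => by rw [h0, mul_zero] at hdd; exact zero_ne_one hdd
  have hdet : (δ • Bm).det = 1 := by
    rw [Matrix.det_smul, Fintype.card_fin, ← hδ]; linear_combination (δ * δ + 1) * hdd
  set B : GL (Fin 3) F := Matrix.GeneralLinearGroup.mkOfDetNeZero _ (by rw [hdet]; exact one_ne_zero) with hBdef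
  have hBv : ∀ w, mv B w = δ • (Bm *ᵥ w) := fun w => Matrix.smul_mulVec _ _ _
  have hB : B ∈ SO3 F := mem_SO3.2 ⟨(mem_iso h2).2 fun u v => by
    rw [hBv, hBv, smul_dotProduct, dotProduct_smul, hBd, smul_eq_mul, smul_eq_mul, ← mul_assoc, hdd, one_mul], hdet⟩
  obtain ⟨n, hn, hn0⟩ := exists_nu (F := F) h2 (0 : Fin 3)
  have hne1 : mv (hh (ee 1)) (ee 0) = -(ee 0 : Fin 3 → F) :=
    mv_hh_orth (unit_ne (ee_self 1)) (by rw [ee_dot_ee, if_neg (by decide)])
  have hnn : mv (hh n) (ee 0) = -(ee 0 : Fin 3 → F) := mv_hh_orth (nsq_ne hn) (by rw [dot_ee, hn0])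
  obtain ⟨X, hX, hX0⟩ : ∃ X ∈ SO3 F, mv X (ee 0) = δ • (ee 0 : Fin 3 → F) := by
    rcases mul_self_eq_one_iff.1 hdd with e | e
    · exact ⟨1, (SO3 F).one_mem, by rw [mv_one, e, one_smul]⟩
    · exact ⟨hh (ee 1), hh_mem h2 _, by rw [hne1, e, neg_one_smul]⟩
  obtain ⟨Y, hY, hY0, hYm⟩ : ∃ Y ∈ SO3 F, mv Y (ee 0) = δ • (ee 0 : Fin 3 → F) ∧ kr Y B ∈ M := by
    rcases C.adjust hn ((SO3 F).mul_mem (hh_mem h2 (ee 1)) hX) hB with hm | hm
    · refine ⟨X, hX, hX0, ?_⟩
      have := M.mul_mem (C.memL (ee_self 1)) hm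
      rwa [kr_mul, one_mul, ← mul_assoc, hh_mul_self, one_mul] at this
    · refine ⟨_, (SO3 F).mul_mem (hh_mem h2 _) ((SO3 F).mul_mem (hh_mem h2 _) hX), ?_, hm⟩
      rw [mv_mul, mv_mul, hX0, mv_smul, hne1, mv_smul, mv_neg, hnn, neg_neg]
  have hk : (kr Y B)⁻¹ * g ∈ Kst M := by
    refine ⟨M.mul_mem (M.inv_mem hYm) hg, mem_fix0.2 fun w => ?_⟩
    apply mv_inj (kr Y B)
    rw [mv_mul, mv_mv_inv, hBw, mv_kr_ten, hY0, hBv, ten_smul_left, ten_smul_right, smul_smul, hdd, one_smul]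
  have := inK_mul (inK_kr Y B) (Kst_inK C hk)
  rwa [mul_inv_cancel_left] at this

/-- The centraliser of a unit left half turn. -/
theorem cent_L (C : Ctx M) {u : Fin 3 → F} (hu : u ⬝ᵥ u = 1) {g : GL (Fin 3 × Fin 3) F} (hg : g ∈ M)
    (h : g * kr (hh u) 1 = kr (hh u) 1 * g) : InK g := by
  obtain ⟨x, hx, hxu, -⟩ := move C.h2 (a := u) (b := ee 0) (unit_ne hu) (by rw [hu, ee_self])
  have e := comm_conj (h := kr (hh x) 1) h
  rw [conj_kr, hh_move C.h2 hxu, one_mul, inv_one, one_mul] at e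
  exact (inK_conj (inK_kr _ _)).1 (cent_L0 (C.conj (kr_iso C.h2 (mem_SO3.1 (hh_mem C.h2 x)).1 (O3 F).one_mem)
    (inK_kr _ _)) (conj_mem_cj hg) e)

/-- The centraliser of a unit right half turn. -/
theorem cent_R (C : Ctx M) {u : Fin 3 → F} (hu : u ⬝ᵥ u = 1) {g : GL (Fin 3 × Fin 3) F} (hg : g ∈ M)
    (h : g * kr 1 (hh u) = kr 1 (hh u) * g) : InK g := by
  have e := comm_conj (h := sw) h
  rw [sw_conj_kr] at e
  exact (inK_conj inK_sw).1 (cent_L C.flip hu (conj_mem_cj hg) e)

end Cfsg.Agent.TensorSquare
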