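/-
Fusion of pure half turns and the centraliser of two commuting mixed involutions.
-/
import Cfsg.Agent.Lib.TensorSquare.CentPure

set_option autoImplicit false
set_option linter.unusedSectionVars false

namespace Cfsg.Agent.TensorSquare

open scoped Matrix Kronecker
open Matrix Cfsg.Agent.Transvec Cfsg.Agent.TensorMax
open Cfsg.Agent.TensorMax.U (kr mv_kr_ten isKron_kr isKron_mul isKron_inv mv_kron_ten ext_ten_mv)
open Cfsg.Agent.Transvec.Orth (pol IsSiegel)

variable {F : Type*} [Field F] [Fintype F] {M : Subgroup (GL (Fin 3 × Fin 3) F)}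

theorem Ctx.adjustR (C : Ctx M) {n : Fin 3 → F} (hn : ¬ IsSquare (n ⬝ᵥ n)) {A B : GL (Fin 3) F}
    (hA : A ∈ SO3 F) (hB : B ∈ SO3 F) : kr A B ∈ M ∨ kr A (hh n * B) ∈ M := by
  have e : ∀ X Y : GL (Fin 3) F, kr X Y ∈ cj sw M → kr Y X ∈ M := fun X Y h => by
    have := mem_cj.1 h
    rwa [sw_inv, sw_kr] at this
  exact (C.flip.adjust hn hB hA).imp (e _ _) (e _ _)

theorem Ctx.exists_swap (C : Ctx M) : ∃ B ∈ SO3 F, -(kr B 1 * sw) ∈ M := by
  have h2 := C.h2
  have hdet : ∀ B ∈ SO3 F, ((-(kr B 1 * sw) : GL (Fin 3 × Fin 3) F) :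
      Matrix (Fin 3 × Fin 3) (Fin 3 × Fin 3) F).det = 1 := fun B hB => by
    rw [Units.val_neg, Matrix.det_neg, Units.val_mul, Matrix.det_mul, det_kr h2 hB (SO3 F).one_mem, det_sw h2,
      Fintype.card_prod, Fintype.card_fin]
    ring
  have hiso : ∀ B ∈ SO3 F, -(kr B 1 * sw) ∈ O9 F := fun B hB => (mem_iso h2).2 fun x y => by
    simp only [mv, Units.val_neg, Matrix.neg_mulVec, neg_dotProduct, dotProduct_neg, neg_neg]
    exact (mem_iso h2).1 ((O9 F).mul_mem (kr_iso h2 (mem_SO3.1 hB).1 (O3 F).one_mem) (sw_iso h2)) x y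
  have hk : ∀ B : GL (Fin 3) F, InK (F := F) (-(kr B (1 : GL (Fin 3) F) * sw : GL (Fin 3 × Fin 3) F)) := fun B => inK_neg (inK_mul (inK_kr _ _) inK_sw)
  obtain ⟨n, hn, -⟩ := exists_nu (F := F) h2 (0 : Fin 3)
  by_cases h : -(kr (1 : GL (Fin 3) F) 1 * sw) ∈ Om F
  · exact ⟨1, (SO3 F).one_mem, C.kron _ (hk 1) h⟩
  · refine ⟨hh n, hh_mem h2 n, C.kron _ (hk _) ?_⟩
    have e : -(kr (hh n) (1 : GL (Fin 3) F) * sw) = kr (hh n) 1 * -(kr (1 : GL (Fin 3) F) 1 * sw) := by
      rw [mul_neg, ← mul_assoc, kr_mul, mul_one, mul_one]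
    rw [e]
    exact om_mul_of_not h2 (kr_iso h2 (mem_SO3.1 (hh_mem h2 n)).1 (O3 F).one_mem) (hiso 1 (SO3 F).one_mem)
      (det_kr h2 (hh_mem h2 n) (SO3 F).one_mem) (hdet 1 (SO3 F).one_mem)
      (fun hc => hn ((hL_iff h2 (nsq_ne hn)).1 hc)) h

theorem swap_conj (A B X Y : GL (Fin 3) F) :
    -(kr A B * sw) * kr X Y * (-(kr A B * sw))⁻¹ = kr (A * Y * A⁻¹) (B * X * B⁻¹) := by
  rw [mul_inv_eq_iff_eq_mul, mul_neg, neg_mul, neg_inj,
    show kr A B * sw * kr X Y = kr A B * (sw * kr X Y * sw) * sw by simp only [mul_assoc, sw_mul_self, mul_one],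
    sw_kr, kr_mul, ← mul_assoc, kr_mul, inv_mul_cancel_right, inv_mul_cancel_right]

theorem unit_move (h2 : (2 : F) ≠ 0) {u v : Fin 3 → F} (hu : u ⬝ᵥ u = 1) (hv : v ⬝ᵥ v = 1) :
    ∃ X ∈ SO3 F, X * hh u * X⁻¹ = hh v := by
  obtain ⟨x, -, hx, -⟩ := move h2 (a := u) (b := v) (unit_ne hu) (by rw [hu, hv])
  exact ⟨_, hh_mem h2 x, hh_move h2 hx⟩

theorem invol_conj {G : Type*} [Group G] (g : G) {x : G} (hx : x * x = 1) : g * x * g⁻¹ * (g * x * g⁻¹) = 1 := by
  rw [show g * x * g⁻¹ * (g * x * g⁻¹) = g * (x * x) * g⁻¹ by group, hx, mul_one, mul_inv_cancel]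

theorem ne_one_conj {G : Type*} [Group G] (g : G) {x : G} (hx : x ≠ 1) : g * x * g⁻¹ ≠ 1 := fun h => hx (by
  rwa [mul_inv_eq_one, mul_eq_left] at h)

/-- A member conjugating a unit left half turn to a Kronecker product is a Kronecker product. -/
theorem fuse_L (C : Ctx M) {g : GL (Fin 3 × Fin 3) F} (hg : g ∈ M) {u : Fin 3 → F} (hu : u ⬝ᵥ u = 1)
    {A B : GL (Fin 3) F} (hA : A ∈ SO3 F) (hB : B ∈ SO3 F) (h : g * kr (hh u) 1 * g⁻¹ = kr A B) : InK g := by
  have h2 := C.h2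
  have hu0 := unit_ne hu
  have hmem : kr A B ∈ M := h ▸ M.mul_mem (M.mul_mem hg (C.memL hu)) (M.inv_mem hg)
  have hsq : kr A B * kr A B = 1 := h ▸ invol_conj g (kr_self_one (hh_mul_self u) (mul_one 1))
  have hne : kr A B ≠ 1 := h ▸ ne_one_conj g fun e =>
    hh_ne_one h2 hu0 (kr_eq_one h2 (hh_mem h2 u) (SO3 F).one_mem e).1
  have htr : ((kr A B : GL (Fin 3 × Fin 3) F) : Matrix (Fin 3 × Fin 3) (Fin 3 × Fin 3) F).trace = -3 := by
    rw [← h, trace_conj, trace_L h2 hu0]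
  obtain ⟨n, hn, -⟩ := exists_nu (F := F) h2 (0 : Fin 3)
  have left : ∀ {g : GL (Fin 3 × Fin 3) F}, g ∈ M → ∀ {v : Fin 3 → F}, v ⬝ᵥ v = 1 →
      g * kr (hh u) 1 * g⁻¹ = kr (hh v) 1 → InK g := by
    intro g hg v hv e
    obtain ⟨X, hX, hXv⟩ := unit_move h2 hv hu
    obtain ⟨Y, hm⟩ : ∃ Y, kr X Y ∈ M := (C.adjustR hn hX (SO3 F).one_mem).elim (fun h => ⟨_, h⟩) (fun h => ⟨_, h⟩)
    have hc : kr X Y * g * kr (hh u) 1 * (kr X Y * g)⁻¹ = kr (hh u) 1 := by
      rw [show kr X Y * g * kr (hh u) 1 * (kr X Y * g)⁻¹ = kr X Y * (g * kr (hh u) 1 * g⁻¹) * (kr X Y)⁻¹ by group,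
        e, conj_kr, hXv, mul_one, mul_inv_cancel]
    have hk := cent_L C hu (M.mul_mem hm hg) (mul_inv_eq_iff_eq_mul.1 hc)
    have := inK_mul (inK_inv (inK_kr X Y)) hk
    rwa [inv_mul_cancel_left] at this
  rcases invol_cases h2 hA hB (C.le hmem) hsq hne with (⟨v, hv, e⟩ | ⟨v, hv, e⟩ | ⟨v, v', hv, hv', e⟩) |
    ⟨v, v', hv, hv', e⟩
  · exact left hg hv (h.trans e)
  · obtain ⟨D, hD, hs⟩ := C.exists_swap
    have hk : InK (-(kr D (1 : GL (Fin 3) F) * sw) * g) := by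
      refine left (M.mul_mem hs hg) (v := mv D v) (by rw [SO3.dot h2 hD, hv]) ?_
      rw [show -(kr D (1 : GL (Fin 3) F) * sw) * g * kr (hh u) 1 * (-(kr D (1 : GL (Fin 3) F) * sw) * g)⁻¹ =
        -(kr D (1 : GL (Fin 3) F) * sw) * (g * kr (hh u) 1 * g⁻¹) * (-(kr D (1 : GL (Fin 3) F) * sw))⁻¹ by group,
        h, e, swap_conj, hh_conj h2 (mem_SO3.1 hD).1, mul_one, inv_one, mul_one]
    have := inK_mul (inK_inv (inK_neg (inK_mul (inK_kr D (1 : GL (Fin 3) F)) inK_sw))) hk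
    rwa [inv_mul_cancel_left] at this
  · rw [e, trace_Z h2 (unit_ne hv) (unit_ne hv')] at htr
    exact absurd htr.symm (neg_three_ne_one h2)
  · rw [e, trace_Z h2 (nsq_ne hv) (nsq_ne hv')] at htr
    exact absurd htr.symm (neg_three_ne_one h2)

theorem fuse_R (C : Ctx M) {g : GL (Fin 3 × Fin 3) F} (hg : g ∈ M) {u : Fin 3 → F} (hu : u ⬝ᵥ u = 1)
    {A B : GL (Fin 3) F} (hA : A ∈ SO3 F) (hB : B ∈ SO3 F) (h : g * kr 1 (hh u) * g⁻¹ = kr A B) : InK g := by
  refine (inK_conj inK_sw).1 (fuse_L C.flip (conj_mem_cj hg) hu hB hA ?_)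
  rw [show sw * g * sw⁻¹ * kr (hh u) 1 * (sw * g * sw⁻¹)⁻¹ = sw * (g * (sw⁻¹ * kr (hh u) 1 * sw) * g⁻¹) * sw⁻¹ by
    group, sw_inv, sw_kr, h]
  exact sw_kr A B

theorem ten_unit (h2 : (2 : F) ≠ 0) {A B : GL (Fin 3) F} (hA : A ∈ SO3 F) {u w : Fin 3 → F} (hu : u ⬝ᵥ u = 1)
    (hw : w ≠ 0) (h : ten (mv A u) (mv B w) = ten u w) :
    ∃ ε : F, ε * ε = 1 ∧ mv A u = ε • u ∧ mv B w = ε • w := by
  obtain ⟨c, hc⟩ := ten_eq (fun h0 => hw (mv_inj B (h0.trans (mv_zero B).symm))) h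
  have hcc : c * c = 1 := by
    have := SO3.dot h2 hA u u
    rwa [hc, smul_dotProduct, dotProduct_smul, hu, smul_eq_mul, smul_eq_mul, mul_one] at this
  refine ⟨c, hcc, hc, ?_⟩
  rw [hc, ten_smul_left, ← ten_smul_right] at h
  have hu0 : u ≠ 0 := fun h0 => by rw [h0, dotProduct_zero] at hu; exact zero_ne_one hu
  have e := congrArg (fun v => c • v) (ten_right_cancel hu0 h)
  simp only [smul_smul, hcc, one_smul] at e
  exact e

theorem two_planes (h2 : (2 : F) ≠ 0) {A B : GL (Fin 3) F} (hA : A ∈ SO3 F) (hB : B ∈ SO3 F) (l : Fin 3)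
    (hfix : ∀ a b : Fin 3, a ≠ b → a = l ∨ b = l → mv (kr A B) (ten (ee a) (ee b)) = ten (ee a) (ee b)) :
    A = 1 ∧ B = 1 := by
  obtain ⟨i, j, hil, hjl, hij⟩ :=
    (show ∀ l : Fin 3, ∃ i j : Fin 3, i ≠ l ∧ j ≠ l ∧ i ≠ j by decide) l
  have h := fun a b hab hl => ten_unit h2 (A := A) (B := B) hA (ee_self a) (ee_ne_zero b)
    ((mv_kr_ten A B _ _).symm.trans (hfix a b hab hl))
  obtain ⟨a1, -, hAl, hBi⟩ := h l i hil.symm (Or.inl rfl)
  obtain ⟨a2, -, hAl', hBj⟩ := h l j hjl.symm (Or.inl rfl)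
  obtain ⟨b1, hb1, hAi, hBl⟩ := h i l hil (Or.inr rfl)
  obtain ⟨b2, -, hAj, hBl'⟩ := h j l hjl (Or.inr rfl)
  have inj : ∀ {x y : F} {m : Fin 3}, x • (ee m : Fin 3 → F) = y • ee m → x = y := fun {x y m} e => by
    simpa [ee_apply] using congrFun e m
  obtain rfl : a1 = a2 := inj (hAl.symm.trans hAl')
  obtain rfl : b1 = b2 := inj (hBl.symm.trans hBl')
  have ha1 : a1 * a1 = 1 := by
    have := SO3.dot h2 hA (ee l) (ee l)
    rwa [hAl, smul_dotProduct, dotProduct_smul, ee_self, smul_eq_mul, smul_eq_mul, mul_one] at this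
  have diag : ∀ {X : GL (Fin 3) F} {x y : F}, X ∈ SO3 F → y * y = 1 → mv X (ee l) = x • ee l →
      mv X (ee i) = y • ee i → mv X (ee j) = y • ee j → x = 1 := by
    intro X x y hX hy e1 e2 e3
    have col : ∀ p q, (X : Matrix (Fin 3) (Fin 3) F) p q = mv X (ee q) p := fun p q => by
      simp [mv, ee, Matrix.mulVec_single_one]
    have hd := (mem_SO3.1 hX).2
    rw [Matrix.det_fin_three] at hd
    simp only [col] at hd
    fin_cases l <;> fin_cases i <;> fin_cases j <;> simp at hil hjl hij <;>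
      simp only [Fin.zero_eta, Fin.mk_one, Fin.reduceFinMk] at e1 e2 e3 <;>
      simp [e1, e2, e3, ee_apply] at hd <;> linear_combination hd - x * hy
  have e1 : a1 = 1 := diag hA hb1 hAl hAi hAj
  have e2 : b1 = 1 := diag hB ha1 hBl hBi hBj
  subst e1 e2
  have cover : ∀ l i j : Fin 3, i ≠ l → j ≠ l → i ≠ j → ∀ m, m = l ∨ m = i ∨ m = j := by decide
  refine ⟨rot_ext fun m => ?_, rot_ext fun m => ?_⟩ <;>
    rcases cover l i j hil hjl hij m with rfl | rfl | rfl <;>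
    simp [mv_one, hAl, hAi, hAj, hBl, hBi, hBj]

/-- The centraliser in M of two standard mixed involutions. -/
def CE (M : Subgroup (GL (Fin 3 × Fin 3) F)) : Subgroup (GL (Fin 3 × Fin 3) F) :=
  M ⊓ Subgroup.centralizer {kr (hh (ee 0)) (hh (ee 0)), kr (hh (ee 1)) (hh (ee 1))}

theorem mem_CE {g : GL (Fin 3 × Fin 3) F} : g ∈ CE M ↔ g ∈ M ∧
    g * kr (hh (ee 0)) (hh (ee 0)) = kr (hh (ee 0)) (hh (ee 0)) * g ∧
    g * kr (hh (ee 1)) (hh (ee 1)) = kr (hh (ee 1)) (hh (ee 1)) * g := by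
  simp only [CE, Subgroup.mem_inf, Subgroup.mem_centralizer_iff, Set.mem_insert_iff, Set.mem_singleton_iff,
    forall_eq_or_imp, forall_eq]
  exact and_congr Iff.rfl (and_congr eq_comm eq_comm)

theorem CE_R (C : Ctx M) (l : Fin 3) : kr 1 (hh (ee l)) ∈ CE M := by
  refine mem_CE.2 ⟨C.memR (ee_self l), ?_, ?_⟩ <;> rw [kr_mul, kr_mul, one_mul, mul_one, ee_hh_comm C.h2]

theorem CE_supp (C : Ctx M) {g : GL (Fin 3 × Fin 3) F} (hg : g ∈ CE M) {a b : Fin 3} (hab : a ≠ b)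
    (i j : Fin 3) (h : ¬ ((i = a ∧ j = b) ∨ (i = b ∧ j = a))) : mv g (ten (ee a) (ee b)) (i, j) = 0 := by
  obtain ⟨-, h0, h1⟩ := mem_CE.1 hg
  have key : ∀ m : Fin 3, g * kr (hh (ee m)) (hh (ee m)) = kr (hh (ee m)) (hh (ee m)) * g →
      (if a = m then (1 : F) else -1) * (if b = m then (1 : F) else -1) * mv g (ten (ee a) (ee b)) (i, j) =
        (if i = m then (1 : F) else -1) * (if j = m then (1 : F) else -1) * mv g (ten (ee a) (ee b)) (i, j) := by
    intro m hm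
    have e := congrFun (congrArg (fun z => mv z (ten (ee a) (ee b))) hm) (i, j)
    have hval : ∀ c : Fin 3, mv (hh (ee m)) (ee c) = (if c = m then (1 : F) else -1) • (ee c : Fin 3 → F) := by
      intro c
      by_cases hc : c = m
      · subst hc; rw [if_pos rfl, one_smul, mv_hh_self (unit_ne (ee_self c))]
      · rw [if_neg hc, mv_hh_orth (unit_ne (ee_self m)) (by rw [ee_dot_ee, if_neg (Ne.symm hc)]), neg_one_smul]
    simp only [mv_mul, mv_kr_ten, hval, ten_smul_left, ten_smul_right, smul_smul, mv_smul, Pi.smul_apply,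
      smul_eq_mul] at e
    have hz : ∀ x : Fin 3 × Fin 3 → F, mv (kr (hh (ee m)) (hh (ee m))) x (i, j) =
        (if i = m then (1 : F) else -1) * (if j = m then (1 : F) else -1) * x (i, j) := fun x => by
      rw [show (kr (hh (ee m)) (hh (ee m)) : GL (Fin 3 × Fin 3) F) = kr (hh (ee m)) 1 * kr 1 (hh (ee m)) by
        rw [kr_mul, mul_one, one_mul], kr_hh_dg, kr_eq_dg, mv_mul, mv_dg]
      split_ifs <;> simp_all [mv_one, mv, Matrix.neg_mulVec, mv_dg, mv_hh_ee] <;> simp_all [Matrix.mulVec]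
    rw [hz] at e
    linear_combination e
  have k0 := key 0 h0
  have k1 := key 1 h1
  generalize mv g (ten (ee a) (ee b)) (i, j) = x at k0 k1 ⊢
  fin_cases a <;> fin_cases b <;> fin_cases i <;> fin_cases j <;> simp at hab h k0 k1 ⊢ <;>
    refine (mul_eq_zero.1 (show (2 : F) * x = 0 from ?_)).resolve_left C.h2 <;>
    first
      | linear_combination k0
      | linear_combination -k0
      | linear_combination k1
      | linear_combination -k1

theorem CE_expand (C : Ctx M) {g : GL (Fin 3 × Fin 3) F} (hg : g ∈ CE M) {a b : Fin 3} (hab : a ≠ b) :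
    mv g (ten (ee a) (ee b)) = mv g (ten (ee a) (ee b)) (a, b) • ten (ee a) (ee b) +
      mv g (ten (ee a) (ee b)) (b, a) • ten (ee b) (ee a) := by
  funext ⟨i, j⟩
  simp only [Pi.add_apply, Pi.smul_apply, smul_eq_mul, ten_ee_apply, Prod.mk.injEq]
  by_cases h1 : i = a ∧ j = b
  · obtain ⟨rfl, rfl⟩ := h1
    simp [hab]
  by_cases h3 : i = b ∧ j = a
  · obtain ⟨rfl, rfl⟩ := h3
    simp [Ne.symm hab]
  rw [CE_supp C hg hab i j (fun h => h.elim h1 h3), if_neg h1, if_neg h3, mul_zero, mul_zero, add_zero]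

/-- The determinant of the action on the plane of a pair. -/
def pdet (g : GL (Fin 3 × Fin 3) F) (a b : Fin 3) : F :=
  mv g (ten (ee a) (ee b)) (a, b) * mv g (ten (ee b) (ee a)) (b, a) -
    mv g (ten (ee a) (ee b)) (b, a) * mv g (ten (ee b) (ee a)) (a, b)

theorem pdet_mul (C : Ctx M) {g h : GL (Fin 3 × Fin 3) F} (hh' : h ∈ CE M) {a b : Fin 3} (hab : a ≠ b) :
    pdet (g * h) a b = pdet g a b * pdet h a b := by
  simp only [pdet, mv_mul]
  rw [CE_expand C hh' hab, CE_expand C hh' hab.symm]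
  simp only [mv_add, mv_smul, Pi.add_apply, Pi.smul_apply, smul_eq_mul, ten_ee_apply, Prod.mk.injEq, hab, hab.symm,
    and_self, if_true, if_false, mul_one, mul_zero, add_zero, zero_add]
  ring

theorem pdet_one {a b : Fin 3} (hab : a ≠ b) : pdet (1 : GL (Fin 3 × Fin 3) F) a b = 1 := by
  simp [pdet, mv_one, ten_ee_apply, hab, hab.symm]

theorem R_val (l a b : Fin 3) :
    mv (kr (1 : GL (Fin 3) F) (hh (ee l))) (ten (ee a) (ee b)) =
      (if b = l then (1 : F) else -1) • ten (ee a) (ee b) := by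
  rw [mv_kr_ten, mv_one]
  by_cases hb : b = l
  · subst hb; rw [if_pos rfl, one_smul, mv_hh_self (unit_ne (ee_self b))]
  · rw [if_neg hb, mv_hh_orth (unit_ne (ee_self l)) (by rw [ee_dot_ee, if_neg (Ne.symm hb)]), ← ten_smul_right,
      neg_one_smul]

/-- Plane-wise trivial members are trivial. -/
theorem plane_one (C : Ctx M) {k : GL (Fin 3 × Fin 3) F} (hk : k ∈ CE M)
    (hfix : ∀ a b : Fin 3, a ≠ b → mv k (ten (ee a) (ee b)) = ten (ee a) (ee b)) : k = 1 := by
  classical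
  have h2 := C.h2
  let P : Subgroup (GL (Fin 3 × Fin 3) F) :=
    { carrier := {k | k ∈ CE M ∧ ∀ a b : Fin 3, a ≠ b → mv k (ten (ee a) (ee b)) = ten (ee a) (ee b)}
      mul_mem' := fun {x y} hx hy => ⟨(CE M).mul_mem hx.1 hy.1, fun a b h => by rw [mv_mul, hy.2 a b h, hx.2 a b h]⟩
      one_mem' := ⟨(CE M).one_mem, fun a b _ => mv_one _⟩
      inv_mem' := fun {x} hx => ⟨(CE M).inv_mem hx.1, fun a b h => by
        conv_lhs => rw [← hx.2 a b h, mv_inv_mv]⟩ }
  set R : Fin 3 → GL (Fin 3 × Fin 3) F := fun l => kr 1 (hh (ee l)) with hR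
  have hRR : ∀ l, R l * R l = 1 := fun l => kr_self_one (mul_one 1) (hh_mul_self _)
  have hs : ∀ l x, x ∈ P → R l * x * R l ∈ P := fun l x hx =>
    ⟨(CE M).mul_mem ((CE M).mul_mem (CE_R C l) hx.1) (CE_R C l), fun a b h => by
      have e : ∀ c d, mv (R l) (ten (ee c) (ee d)) = (if d = l then (1 : F) else -1) • ten (ee c) (ee d) :=
        fun c d => R_val l c d
      rw [mv_mul, mv_mul, e, mv_smul, hx.2 a b h, mv_smul, e, smul_smul]
      split_ifs <;> simp⟩
  have hfixed : ∀ l x, x ∈ P → R l * x * R l = x → x = 1 := fun l x hx e => by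
    have hc := comm_of_conj (hRR l) e
    have hxM := (mem_CE.1 hx.1).1
    have hK := cent_R C (ee_self l) hxM hc
    obtain ⟨A, hA, B, hB, rfl, -⟩ := kron_of_comm_R h2 (C.le hxM) hK (hh_mem h2 _)
      (hh_ne_one h2 (unit_ne (ee_self l))) hc
    obtain ⟨rfl, rfl⟩ := two_planes h2 hA hB l fun a b hab _ => hx.2 a b hab
    exact kr_one
  have hinv : ∀ l x, x ∈ P → R l * x * R l = x⁻¹ := by
    intro l x hx
    let φ : ↥P →* ↥P :=
      { toFun := fun n => ⟨R l * n * R l, hs l n n.2⟩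
        map_one' := Subtype.ext (by show R l * 1 * R l = 1; rw [mul_one, hRR])
        map_mul' := fun p q => Subtype.ext (by
          show R l * (_ * _) * R l = R l * _ * R l * (R l * _ * R l)
          simp [mul_assoc, ← mul_assoc (R l) (R l), hRR]) }
    have hfpf : MonoidHom.FixedPointFree φ := fun n hn =>
      Subtype.ext (hfixed l n n.2 (congrArg (fun z : ↥P => (z : GL (Fin 3 × Fin 3) F)) hn))
    have hinvol : Function.Involutive φ := fun n => Subtype.ext (by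
      show R l * (R l * _ * R l) * R l = _
      simp [← mul_assoc, hRR]
      simp [mul_assoc, hRR])
    exact congrArg (fun z : ↥P => (z : GL (Fin 3 × Fin 3) F)) (congrFun (hfpf.coe_eq_inv_of_involutive hinvol) ⟨x, hx⟩)
  have hkP : k ∈ P := ⟨hk, hfix⟩
  refine hfixed 2 k hkP ?_
  have r01 : R 0 * R 1 = R 2 := by simp only [hR, kr_mul, mul_one, hh_ee_mul h2]
  have r10 : R 1 * R 0 = R 2 := by simp only [hR, kr_mul, mul_one, ee_hh_comm h2 1 0, hh_ee_mul h2]
  calc R 2 * k * R 2 = R 0 * (R 1 * k * R 1) * R 0 := by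
        nth_rw 1 [← r01]
        nth_rw 1 [← r10]
        simp only [mul_assoc]
    _ = k := by rw [hinv 1 k hkP, hinv 0 _ (P.inv_mem hkP), inv_inv]

/-- The centraliser of two commuting standard mixed involutions consists of Kronecker products. -/
theorem cent_E2 (C : Ctx M) {g : GL (Fin 3 × Fin 3) F} (hg : g ∈ CE M) : InK g := by
  have h2 := C.h2
  have hgM := (mem_CE.1 hg).1
  set R : Fin 3 → GL (Fin 3 × Fin 3) F := fun l => kr 1 (hh (ee l)) with hR
  have hRR : ∀ l, R l * R l = 1 := fun l => kr_self_one (mul_one 1) (hh_mul_self _)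
  have hRC : ∀ l, R l ∈ CE M := CE_R C
  set r := g * R 0 * g⁻¹ * R 0 with hr
  have hrC : r ∈ CE M := (CE M).mul_mem ((CE M).mul_mem ((CE M).mul_mem hg (hRC 0)) ((CE M).inv_mem hg)) (hRC 0)
  have hdr : ∀ a b : Fin 3, a ≠ b → pdet r a b = 1 := fun a b hab => by
    have hR2 : pdet (R 0) a b * pdet (R 0) a b = 1 := by rw [← pdet_mul C (hRC 0) hab, hRR, pdet_one hab]
    have hgi : pdet g a b * pdet g⁻¹ a b = 1 := by
      rw [← pdet_mul C ((CE M).inv_mem hg) hab, mul_inv_cancel, pdet_one hab]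
    rw [hr, pdet_mul C (hRC 0) hab, pdet_mul C ((CE M).inv_mem hg) hab, pdet_mul C (hRC 0) hab]
    linear_combination hgi * pdet (R 0) a b * pdet (R 0) a b + hR2
  obtain ⟨P, hP⟩ : ∃ P : Fin 3 → Fin 3 → F, ∀ a b, P a b = mv r (ten (ee a) (ee b)) (a, b) := ⟨_, fun _ _ => rfl⟩
  obtain ⟨S, hS⟩ : ∃ S : Fin 3 → Fin 3 → F, ∀ a b, S a b = mv r (ten (ee a) (ee b)) (b, a) := ⟨_, fun _ _ => rfl⟩
  have hex : ∀ a b, a ≠ b → mv r (ten (ee a) (ee b)) = P a b • ten (ee a) (ee b) + S a b • ten (ee b) (ee a) :=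
    fun a b hab => by rw [hP, hS]; exact CE_expand C hrC hab
  have hrot : ∀ a b, a ≠ b → P b a = P a b ∧ S b a = -S a b ∧ P a b * P a b + S a b * S a b = 1 := by
    intro a b hab
    have hdot := (mem_iso h2).1 (C.iso (mem_CE.1 hrC).1)
    have n1 := hdot (ten (ee a) (ee b)) (ten (ee a) (ee b))
    have n0 := hdot (ten (ee a) (ee b)) (ten (ee b) (ee a))
    rw [hex a b hab] at n1 n0
    rw [hex b a hab.symm] at n0
    simp only [add_dotProduct, dotProduct_add, smul_dotProduct, dotProduct_smul, smul_eq_mul, ten_ee_dot,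
      ten_ee_apply, Prod.mk.injEq, hab, hab.symm, and_self, if_true, if_false, mul_one, mul_zero, add_zero,
      zero_add] at n1 n0
    have hd := hdr a b hab
    simp only [pdet, ← hP, ← hS] at hd
    refine ⟨?_, ?_, n1⟩
    · linear_combination (-(P b a)) * n1 + S a b * n0 + P a b * hd
    · linear_combination (-(S b a)) * n1 + P a b * n0 - S a b * hd
  have hkey : ∀ l a b : Fin 3, a ≠ b → a ≠ l → b ≠ l → S a b = 0 := by
    intro l a b hab hal hbl
    set h := r * (R l * r * R l) with hh'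
    have hhC : h ∈ CE M := (CE M).mul_mem hrC ((CE M).mul_mem ((CE M).mul_mem (hRC l) hrC) (hRC l))
    have hval : ∀ c d, mv (R l) (ten (ee c) (ee d)) = (if d = l then (1 : F) else -1) • ten (ee c) (ee d) :=
      fun c d => R_val l c d
    have hh1 : ∀ c d : Fin 3, c ≠ d → c = l ∨ d = l → mv h (ten (ee c) (ee d)) = ten (ee c) (ee d) := by
      intro c d hcd hl
      obtain ⟨e1, e2, e3⟩ := hrot c d hcd
      have hcl : (if c = l then (1 : F) else -1) * (if d = l then (1 : F) else -1) = -1 := by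
        rcases hl with rfl | rfl
        · simp [Ne.symm hcd]
        · simp [hcd]
      have hdd : (if d = l then (1 : F) else -1) * (if d = l then (1 : F) else -1) = 1 := by split_ifs <;> ring
      simp only [hh', mv_mul, hval, mv_smul, hex c d hcd, mv_add, hex d c hcd.symm, e1, e2, smul_add, smul_smul]
      funext p
      simp only [Pi.add_apply, Pi.smul_apply, smul_eq_mul]
      linear_combination (P c d * P c d * ten (ee c) (ee d) p + P c d * S c d * ten (ee d) (ee c) p) * hdd +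
        (S c d * P c d * ten (ee d) (ee c) p - S c d * S c d * ten (ee c) (ee d) p) * hcl +
        ten (ee c) (ee d) p * e3
    have hh2 : ∀ c d : Fin 3, c ≠ d → c ≠ l → d ≠ l → mv h (ten (ee c) (ee d)) = mv r (mv r (ten (ee c) (ee d))) := by
      intro c d hcd hcl hdl
      simp only [hh', mv_mul, hval, mv_smul, hex c d hcd, mv_add, if_neg hdl, if_neg hcl, smul_add, smul_smul]
      funext p
      simp only [Pi.add_apply, Pi.smul_apply, smul_eq_mul]
      ring
    have hcomm : h * R l = R l * h := by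
      refine comm_of_conj (hRR l) ?_
      rw [← mul_inv_eq_one]
      refine plane_one C ((CE M).mul_mem ((CE M).mul_mem ((CE M).mul_mem (hRC l) hhC) (hRC l))
        ((CE M).inv_mem hhC)) fun c d hcd => ?_
      rw [mv_mul]
      have : ∀ x, mv (R l * h * R l) x = mv h x → True := fun _ _ => trivial
      suffices hs : mv (R l * h * R l) (ten (ee c) (ee d)) = mv h (ten (ee c) (ee d)) ∧
          mv (R l * h * R l) (ten (ee d) (ee c)) = mv h (ten (ee d) (ee c)) by
        rw [CE_expand C ((CE M).inv_mem hhC) hcd, mv_add, mv_smul, mv_smul, hs.1, hs.2, ← mv_smul, ← mv_smul,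
          ← mv_add, ← CE_expand C ((CE M).inv_mem hhC) hcd, mv_mv_inv]
      have side : ∀ c d : Fin 3, c ≠ d →
          mv (R l * h * R l) (ten (ee c) (ee d)) = mv h (ten (ee c) (ee d)) := by
        intro c d hcd
        by_cases hl : c = l ∨ d = l
        · rw [mv_mul, mv_mul, hval, mv_smul, hh1 c d hcd hl, mv_smul, hval, smul_smul]
          split_ifs <;> simp
        · push Not at hl
          rw [mv_mul, mv_mul, hval, mv_smul, CE_expand C hhC hcd, mv_smul, mv_add, mv_smul, mv_smul, hval, hval,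
            if_neg hl.1, if_neg hl.2, smul_add, smul_smul, smul_smul, smul_smul, smul_smul]
          funext p
          simp only [Pi.add_apply, Pi.smul_apply, smul_eq_mul]
          ring
      exact ⟨side c d hcd, side d c hcd.symm⟩
    have hhM := (mem_CE.1 hhC).1
    have hK := cent_R C (ee_self l) hhM hcomm
    obtain ⟨A, hA, B, hB, e, -⟩ := kron_of_comm_R h2 (C.le hhM) hK (hh_mem h2 _)
      (hh_ne_one h2 (unit_ne (ee_self l))) hcomm
    obtain ⟨rfl, rfl⟩ := two_planes h2 hA hB l fun c d hcd hl => e ▸ hh1 c d hcd hl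
    have e2 := hh2 a b hab hal hbl
    rw [e, kr_one, mv_one, hex a b hab, mv_add, mv_smul, mv_smul, hex a b hab, hex b a hab.symm] at e2
    obtain ⟨q1, q2, q3⟩ := hrot a b hab
    have := congrFun e2 (a, b)
    simp only [Pi.add_apply, Pi.smul_apply, smul_eq_mul, ten_ee_apply, Prod.mk.injEq, hab, hab.symm, and_self,
      if_true, if_false, mul_one, mul_zero, add_zero, zero_add, q1, q2] at this
    have h0 : (2 : F) * (S a b * S a b) = 0 := by linear_combination this + q3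
    exact mul_self_eq_zero.1 ((mul_eq_zero.1 h0).resolve_left h2)
  have hS0 : ∀ a b : Fin 3, a ≠ b → S a b = 0 := fun a b hab => by
    obtain ⟨l, hl1, hl2⟩ := (show ∀ a b : Fin 3, ∃ l : Fin 3, a ≠ l ∧ b ≠ l by decide) a b
    exact hkey l a b hab hl1 hl2
  have hcomm : r * R 0 = R 0 * r := by
    refine comm_of_conj (hRR 0) ?_
    rw [← mul_inv_eq_one]
    refine plane_one C ((CE M).mul_mem ((CE M).mul_mem ((CE M).mul_mem (hRC 0) hrC) (hRC 0))
      ((CE M).inv_mem hrC)) fun c d hcd => ?_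
    obtain ⟨-, -, e3⟩ := hrot c d hcd
    rw [hS0 c d hcd, mul_zero, add_zero] at e3
    have hr1 : mv r (ten (ee c) (ee d)) = P c d • ten (ee c) (ee d) := by
      rw [hex c d hcd, hS0 c d hcd, zero_smul, add_zero]
    have hri : mv r⁻¹ (ten (ee c) (ee d)) = P c d • ten (ee c) (ee d) := by
      apply mv_inj r
      rw [mv_mv_inv, mv_smul, hr1, smul_smul, e3, one_smul]
    rw [mv_mul, hri, mv_smul, mv_mul, mv_mul, R_val, mv_smul, hr1, mv_smul, mv_smul, R_val, smul_smul, smul_smul,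
      smul_smul]
    convert one_smul F _ using 2
    split_ifs <;> linear_combination e3
  have hK := cent_R C (ee_self 0) (mem_CE.1 hrC).1 hcomm
  obtain ⟨A, hA, B, hB, e, -⟩ := kron_of_comm_R h2 (C.le (mem_CE.1 hrC).1) hK (hh_mem h2 _)
    (hh_ne_one h2 (unit_ne (ee_self 0))) hcomm
  refine fuse_R C hgM (ee_self 0) hA ((SO3 F).mul_mem hB (hh_mem h2 (ee 0))) ?_
  have : g * R 0 * g⁻¹ = r * R 0 := by rw [hr, mul_assoc (g * R 0 * g⁻¹) (R 0), hRR, mul_one]
  rw [show g * kr 1 (hh (ee 0)) * g⁻¹ = r * R 0 from this, e, hR, kr_mul, mul_one]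

end Cfsg.Agent.TensorSquare
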