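/-
The centraliser of an inner mixed involution.
-/
import Cfsg.Agent.Lib.TensorSquare.Mixed

set_option autoImplicit false
set_option linter.unusedSectionVars false

namespace Cfsg.Agent.TensorSquare

open scoped Matrix Kronecker
open Matrix Cfsg.Agent.Transvec Cfsg.Agent.TensorMax
open Cfsg.Agent.TensorMax.U (kr mv_kr_ten isKron_kr isKron_mul isKron_inv mv_kron_ten ext_ten_mv)
open Cfsg.Agent.Transvec.Orth (pol IsSiegel)

variable {F : Type*} [Field F]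

theorem hh_fix (h2 : (2 : F) ≠ 0) {x v : Fin 3 → F} (hx : x ⬝ᵥ x ≠ 0) (hv : v ≠ 0) (h : mv (hh x) v = v) :
    (hh x : GL (Fin 3) F) = hh v := by
  rw [mv_hh hx, sub_eq_iff_eq_add, ← two_smul F] at h
  obtain ⟨l, hl, hvl⟩ : ∃ l : F, l ≠ 0 ∧ v = l • x := by
    refine ⟨(x ⬝ᵥ v) / (x ⬝ᵥ x), fun hz => hv ?_, ?_⟩
    · rw [mul_div_assoc, hz, mul_zero, zero_smul] at h
      exact (smul_eq_zero.1 h.symm).resolve_left h2
    · refine smul_right_injective (Fin 3 → F) h2 ?_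
      show (2 : F) • v = (2 : F) • _
      rw [← h, smul_smul, mul_div_assoc]
  rw [hvl, hh_smul hl]

theorem exists_third (h2 : (2 : F) ≠ 0) {a b : Fin 3 → F} (ha : a ⬝ᵥ a ≠ 0) (hb : b ⬝ᵥ b ≠ 0) (hab : a ⬝ᵥ b = 0) :
    ∃ x : Fin 3 → F, x ⬝ᵥ x ≠ 0 ∧ (hh a : GL (Fin 3) F) * hh b = hh x := by
  have hc := hh_orth_comm h2 hb hab
  rcases so3_invol h2 ((SO3 F).mul_mem (hh_mem h2 a) (hh_mem h2 b)) (by
    rw [show hh a * hh b * (hh a * hh b) = hh a * (hh b * hh a) * hh b by simp only [mul_assoc], ← hc]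
    simp [mul_assoc, hh_mul_self]) with h | h
  · rw [mul_eq_one_iff_eq_inv, hh_inv] at h
    obtain ⟨t, ht, e⟩ := hh_eq_hh ha hb h2 h
    rw [e, smul_dotProduct, smul_eq_mul] at hab
    exact absurd hab (mul_ne_zero ht hb)
  · exact h

theorem trace_tc (h2 : (2 : F) ≠ 0) {a b : Fin 3 → F} (ha : a ⬝ᵥ a ≠ 0) (hb : b ⬝ᵥ b ≠ 0) (hab : a ⬝ᵥ b = 0)
    {c : Fin 3 → F} (hc : c ⬝ᵥ c ≠ 0) :
    ((kr (hh c) (hh a * hh b) : GL (Fin 3 × Fin 3) F) : Matrix (Fin 3 × Fin 3) (Fin 3 × Fin 3) F).trace = 1 := by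
  obtain ⟨x, hx, e⟩ := exists_third h2 ha hb hab
  rw [e, trace_Z h2 hc hx]

variable [Fintype F] {M : Subgroup (GL (Fin 3 × Fin 3) F)}

theorem pureA (C : Ctx M) {A : GL (Fin 3) F} (hA : A ∈ SO3 F) (hm : kr A (1 : GL (Fin 3) F) ∈ M) (hAA : A * A = 1)
    (hA1 : A ≠ 1) {w : GL (Fin 3 × Fin 3) F} (hw : w ∈ M)
    (h : w * kr A 1 = kr A 1 * w) : InK w := by
  rcases so3_invol C.h2 hA hAA with e | ⟨a, ha, rfl⟩
  · exact absurd e hA1
  obtain ⟨u, hu, e⟩ := exists_unit ha ((hL_iff C.h2 ha).1 (C.le hm))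
  rw [← e] at h
  exact cent_L C hu hw h

theorem pureB (C : Ctx M) {B : GL (Fin 3) F} (hB : B ∈ SO3 F) (hm : kr (1 : GL (Fin 3) F) B ∈ M) (hBB : B * B = 1)
    (hB1 : B ≠ 1) {w : GL (Fin 3 × Fin 3) F} (hw : w ∈ M)
    (h : w * kr 1 B = kr 1 B * w) : InK w := by
  rcases so3_invol C.h2 hB hBB with e | ⟨a, ha, rfl⟩
  · exact absurd e hB1
  obtain ⟨u, hu, e⟩ := exists_unit ha ((hR_iff C.h2 ha).1 (C.le hm))
  rw [← e] at h
  exact cent_R C hu hw h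

theorem cent_E2' (C : Ctx M) {a b c d : Fin 3 → F} (ha : a ⬝ᵥ a = 1) (hb : b ⬝ᵥ b = 1) (hab : a ⬝ᵥ b = 0)
    (hc : c ⬝ᵥ c = 1) (hd : d ⬝ᵥ d = 1) (hcd : c ⬝ᵥ d = 0) {g : GL (Fin 3 × Fin 3) F} (hg : g ∈ M)
    (h0 : g * kr (hh a) (hh c) = kr (hh a) (hh c) * g) (h1 : g * kr (hh b) (hh d) = kr (hh b) (hh d) * g) :
    InK g := by
  obtain ⟨A, hA, ea, eb⟩ := frame C.h2 ha hb hab
  obtain ⟨B, hB, ec, ed⟩ := frame C.h2 hc hd hcd
  have e0 := comm_conj (h := kr A B) h0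
  have e1 := comm_conj (h := kr A B) h1
  rw [conj_kr, ea, ec] at e0
  rw [conj_kr, eb, ed] at e1
  exact (inK_conj (inK_kr A B)).1 (cent_E2 (C.conj (kr_iso C.h2 (mem_SO3.1 hA).1 (mem_SO3.1 hB).1) (inK_kr _ _))
    (mem_CE.2 ⟨conj_mem_cj hg, e0, e1⟩))

/-- The data of a dihedral step. -/
theorem dihedral_step (C : Ctx M) {a : Fin 3 → F} (ha : a ⬝ᵥ a = 1) {w : GL (Fin 3 × Fin 3) F} (hw : w ∈ M)
    (hww : w * w = 1) (htr : (w : Matrix (Fin 3 × Fin 3) (Fin 3 × Fin 3) F).trace = 1) :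
    ∃ A B : GL (Fin 3) F, A ∈ SO3 F ∧ B ∈ SO3 F ∧ A * A = 1 ∧ B * B = 1 ∧ kr A B ∈ M ∧ kr A B ≠ 1 ∧
      B * hh a = hh a * B ∧ w * kr A B = kr A B * w ∧
      (∀ x, x * kr 1 (hh a) = kr 1 (hh a) * x → x * w = w * x → x * kr A B = kr A B * x) ∧
      (((kr 1 (hh a) * kr A B : GL (Fin 3 × Fin 3) F) : Matrix (Fin 3 × Fin 3) (Fin 3 × Fin 3) F).trace = -3 ∨
        ((kr A B * w : GL (Fin 3 × Fin 3) F) : Matrix (Fin 3 × Fin 3) (Fin 3 × Fin 3) F).trace = -3) := by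
  have h2 := C.h2
  obtain ⟨c, hc, hc1, hcc, hct, hcu, hz, hf⟩ := dihedral
    (f := fun g : GL (Fin 3 × Fin 3) F => (g : Matrix (Fin 3 × Fin 3) (Fin 3 × Fin 3) F).trace)
    (fun g x => trace_conj g x) (H := M) (t := kr 1 (hh a)) (u := w) (kr_self_one (mul_one 1) (hh_mul_self a)) hww
    (C.memR ha) hw (by
      show _ ≠ (w : Matrix (Fin 3 × Fin 3) (Fin 3 × Fin 3) F).trace
      rw [htr, trace_R h2 (unit_ne ha)]
      exact neg_three_ne_one h2)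
  simp only [trace_R h2 (unit_ne ha)] at hf
  obtain ⟨A, hA, B, hB, rfl, hBc⟩ := kron_of_comm_R h2 (C.le hc) (cent_R C ha hc hct) (hh_mem h2 a)
    (hh_ne_one h2 (unit_ne ha)) hct
  rw [kr_mul] at hcc
  obtain ⟨eA, eB⟩ := kr_eq_one h2 ((SO3 F).mul_mem hA hA) ((SO3 F).mul_mem hB hB) hcc
  exact ⟨A, B, hA, hB, eA, eB, hc, hc1, hBc, hcu.symm, hz, hf⟩

theorem key_inner (C : Ctx M) {w : GL (Fin 3 × Fin 3) F} (hw : w ∈ M) (hww : w * w = 1)
    (hwz : w * kr (hh (ee 0)) (hh (ee 0)) = kr (hh (ee 0)) (hh (ee 0)) * w)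
    (htr : (w : Matrix (Fin 3 × Fin 3) (Fin 3 × Fin 3) F).trace = 1)
    (htz : ((kr (hh (ee 0)) (hh (ee 0)) * w : GL (Fin 3 × Fin 3) F) :
      Matrix (Fin 3 × Fin 3) (Fin 3 × Fin 3) F).trace = 1) : InK w := by
  have h2 := C.h2
  obtain ⟨A, B, hA, hB, hAA, hBB, hm, hne, hB1, hwc, hcz, hf⟩ := dihedral_step C (ee_self 1) hw hww htr
  set z : GL (Fin 3 × Fin 3) F := kr (hh (ee 0)) (hh (ee 0)) with hz
  have hzM : z ∈ M := C.memZ (unit_ne (ee_self 0)) (unit_ne (ee_self 0)) Iff.rfl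
  have hzt : z * kr 1 (hh (ee 1)) = kr 1 (hh (ee 1)) * z := by
    rw [hz, kr_mul, kr_mul, ee_hh_comm h2 0 1, one_mul, mul_one]
  have hzc := hcz z hzt hwz.symm
  have hne0 : kr A B ≠ z := by
    intro e
    rw [e] at hf
    rcases hf with h | h
    · rw [hz, kr_mul, one_mul, trace_tc h2 (unit_ne (ee_self 1)) (unit_ne (ee_self 0))
        (by simp [ee_dot_ee]) (unit_ne (ee_self 0))] at h
      exact neg_three_ne_one h2 h.symm
    · rw [htz] at h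
      exact neg_three_ne_one h2 h.symm
  rw [hz, kr_mul, kr_mul] at hzc
  obtain ⟨hA0, hB0⟩ := kr_inj h2 ((SO3 F).mul_mem (hh_mem h2 _) hA) ((SO3 F).mul_mem (hh_mem h2 _) hB)
    ((SO3 F).mul_mem hA (hh_mem h2 _)) ((SO3 F).mul_mem hB (hh_mem h2 _)) hzc
  have hBV : B ∈ V4 F := by
    refine ⟨hB, ?_⟩
    rintro _ ⟨i, rfl⟩
    fin_cases i
    · exact hB0
    · exact hB1.symm
    · show hh (ee 2) * B = B * hh (ee 2)
      rw [← hh_ee_mul h2, mul_assoc, ← hB1, ← mul_assoc, hB0, mul_assoc]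
  have hwz' : w * (kr A B * z) = kr A B * z * w := by
    rw [← mul_assoc, hwc, mul_assoc, hwz, ← mul_assoc]
  have hczM : kr A B * z ∈ M := M.mul_mem hm hzM
  rcases V4_cases h2 hBV with rfl | ⟨l, rfl⟩
  · exact pureA C hA hm hAA (fun e => hne (by rw [e, kr_one])) hw hwc
  rcases so3_invol h2 hA hAA with rfl | ⟨a, ha, rfl⟩
  · exact cent_R C (ee_self l) hw hwc
  have hsq : IsSquare (a ⬝ᵥ a) := ((hZ_iff h2 ha (unit_ne (ee_self l))).1 (C.le hm)).2 (unit_sq (ee_self l))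
  obtain ⟨u, hu, hua⟩ := exists_unit ha hsq
  rcases hh_comm_hh h2 (unit_ne (ee_self 0)) ha hA0 with ⟨t, ht, e⟩ | e
  · have hae : (hh a : GL (Fin 3) F) = hh (ee 0) := by rw [e, hh_smul ht]
    rw [hae] at hne0 hm hwz' hczM
    rw [hz, kr_mul, hh_mul_self] at hwz' hczM
    refine pureB C ((SO3 F).mul_mem (hh_mem h2 _) (hh_mem h2 _)) hczM ?_ (fun h => hne0 ?_) hw hwz'
    · rw [show hh (ee l) * hh (ee 0) * (hh (ee l) * hh (ee 0)) = hh (ee l) * (hh (ee 0) * hh (ee l)) * hh (ee 0) by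
        simp only [mul_assoc], ee_hh_comm h2 0 l]
      simp [mul_assoc, hh_mul_self]
    · rw [hz, mul_eq_one_iff_eq_inv.1 h, hh_inv]
  · by_cases hl : l = 0
    · subst hl
      rw [hz, kr_mul, hh_mul_self] at hwz' hczM
      refine pureA C ((SO3 F).mul_mem (hh_mem h2 _) (hh_mem h2 _)) hczM ?_ (fun h => hne0 ?_) hw hwz'
      · rw [show hh a * hh (ee 0) * (hh a * hh (ee 0)) = hh a * (hh (ee 0) * hh a) * hh (ee 0) by
          simp only [mul_assoc], hA0]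
        simp [mul_assoc, hh_mul_self]
      · rw [hz, mul_eq_one_iff_eq_inv.1 h, hh_inv]
    · have hu0 : (ee 0 : Fin 3 → F) ⬝ᵥ u = 0 := by
        rcases hh_comm_hh h2 (unit_ne (ee_self 0)) (unit_ne hu) (by rw [hua]; exact hA0) with ⟨t, ht, e'⟩ | e'
        · exfalso
          rw [e', hh_smul ht] at hua
          obtain ⟨s, hs, ea⟩ := hh_eq_hh ha (unit_ne (ee_self 0)) h2 hua.symm
          rw [ea, dotProduct_smul, ee_self, smul_eq_mul, mul_one] at e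
          exact hs e
        · exact e'
      rw [← hua] at hwc
      exact cent_E2' C (ee_self 0) hu hu0 (ee_self 0) (ee_self l) (by rw [ee_dot_ee, if_neg (Ne.symm hl)]) hw hwz hwc

theorem hh_ee_mul02 (h2 : (2 : F) ≠ 0) : (hh (ee 0) : GL (Fin 3) F) * hh (ee 2) = hh (ee 1) := by
  rw [← hh_ee_mul h2, ← mul_assoc, hh_mul_self, one_mul]

theorem hh_ee_mul12 (h2 : (2 : F) ≠ 0) : (hh (ee 1) : GL (Fin 3) F) * hh (ee 2) = hh (ee 0) := by
  rw [← hh_ee_mul h2, ← ee_hh_comm h2 1 0, ← mul_assoc, hh_mul_self, one_mul]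

/-- The centraliser of the standard inner mixed involution. -/
theorem cent_inner0 (C : Ctx M) {g : GL (Fin 3 × Fin 3) F} (hg : g ∈ M)
    (h : g * kr (hh (ee 0)) (hh (ee 0)) = kr (hh (ee 0)) (hh (ee 0)) * g) : InK g := by
  have h2 := C.h2
  set z : GL (Fin 3 × Fin 3) F := kr (hh (ee 0)) (hh (ee 0)) with hz
  have hgz : g * z * g⁻¹ = z := mul_inv_eq_iff_eq_mul.2 h
  have key : ∀ a : Fin 3, a ≠ 0 → InK (g * kr (hh (ee a)) (hh (ee 1)) * g⁻¹) ∧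
      ∃ u v : Fin 3 → F, g * kr (hh (ee a)) (hh (ee 1)) * g⁻¹ = kr (hh u) (hh v) := by
    intro a ha
    set w : GL (Fin 3 × Fin 3) F := kr (hh (ee a)) (hh (ee 1)) with hw
    have hww : w * w = 1 := kr_self_one (hh_mul_self _) (hh_mul_self _)
    have hwM : g * w * g⁻¹ ∈ M :=
      M.mul_mem (M.mul_mem hg (C.memZ (unit_ne (ee_self a)) (unit_ne (ee_self 1))
        (iff_of_true (unit_sq (ee_self a)) (unit_sq (ee_self 1))))) (M.inv_mem hg)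
    have hwz : g * w * g⁻¹ * z = z * (g * w * g⁻¹) := by
      have := comm_conj (h := g) (show w * z = z * w by
        rw [hw, hz, kr_mul, kr_mul, ee_hh_comm h2 a 0, ee_hh_comm h2 1 0])
      rwa [hgz] at this
    have htr : ((g * w * g⁻¹ : GL (Fin 3 × Fin 3) F) : Matrix (Fin 3 × Fin 3) (Fin 3 × Fin 3) F).trace = 1 := by
      rw [trace_conj, hw, trace_Z h2 (unit_ne (ee_self a)) (unit_ne (ee_self 1))]
    have hK := key_inner C hwM (invol_conj g hww) hwz htr (by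
      obtain ⟨x, hx, e⟩ := exists_third h2 (unit_ne (ee_self 0)) (unit_ne (ee_self a))
        (by rw [ee_dot_ee, if_neg (Ne.symm ha)] : (ee 0 : Fin 3 → F) ⬝ᵥ ee a = 0)
      rw [← hz, show z * (g * w * g⁻¹) = g * (z * w) * g⁻¹ by
        nth_rw 1 [← hgz]; group, trace_conj, hw, hz, kr_mul, e, hh_ee_mul h2,
        trace_Z h2 hx (unit_ne (ee_self 2))])
    obtain ⟨u, v, -, -, e⟩ := mixed_of_trace h2 (C.le hwM) hK (invol_conj g hww) (ne_one_conj g fun e => by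
      have := kr_eq_one h2 (hh_mem h2 (ee a)) (hh_mem h2 (ee 1)) e
      exact hh_ne_one h2 (unit_ne (ee_self a)) this.1) htr
    exact ⟨hK, u, v, e⟩
  obtain ⟨-, u, v, e1⟩ := key 1 (by decide)
  obtain ⟨-, u', v', e2⟩ := key 2 (by decide)
  refine fuse_L C hg (ee_self 0) ((SO3 F).mul_mem (hh_mem h2 u) (hh_mem h2 u'))
    ((SO3 F).mul_mem (hh_mem h2 v) (hh_mem h2 v')) ?_
  rw [← kr_mul, ← e1, ← e2, show g * kr (hh (ee 1)) (hh (ee 1)) * g⁻¹ * (g * kr (hh (ee 2)) (hh (ee 1)) * g⁻¹) =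
    g * (kr (hh (ee 1)) (hh (ee 1)) * kr (hh (ee 2)) (hh (ee 1))) * g⁻¹ by group, kr_mul, hh_ee_mul12 h2,
    hh_mul_self]

/-- The centraliser of an inner mixed involution. -/
theorem cent_inner (C : Ctx M) {u v : Fin 3 → F} (hu : u ⬝ᵥ u = 1) (hv : v ⬝ᵥ v = 1) {g : GL (Fin 3 × Fin 3) F}
    (hg : g ∈ M) (h : g * kr (hh u) (hh v) = kr (hh u) (hh v) * g) : InK g := by
  obtain ⟨X, hX, eX⟩ := unit_move C.h2 hu (ee_self 0)
  obtain ⟨Y, hY, eY⟩ := unit_move C.h2 hv (ee_self 0)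
  have e := comm_conj (h := kr X Y) h
  rw [conj_kr, eX, eY] at e
  exact (inK_conj (inK_kr X Y)).1 (cent_inner0 (C.conj (kr_iso C.h2 (mem_SO3.1 hX).1 (mem_SO3.1 hY).1)
    (inK_kr _ _)) (conj_mem_cj hg) e)

end Cfsg.Agent.TensorSquare
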