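/-
Inner and outer mixed involutions are not conjugate; every member is a Kronecker product.
-/
import Cfsg.Agent.Lib.TensorSquare.Inner

set_option autoImplicit false
set_option linter.unusedSectionVars false

namespace Cfsg.Agent.TensorSquare

open scoped Matrix Kronecker
open Matrix Cfsg.Agent.Transvec Cfsg.Agent.TensorMax
open Cfsg.Agent.TensorMax.U (kr mv_kr_ten isKron_kr isKron_mul isKron_inv mv_kron_ten ext_ten_mv)
open Cfsg.Agent.Transvec.Orth (pol IsSiegel)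

variable {F : Type*} [Field F] [Fintype F] {M : Subgroup (GL (Fin 3 × Fin 3) F)}

theorem ringChar_ne_two (h2 : (2 : F) ≠ 0) : ringChar F ≠ 2 := fun hc => h2 (by
  haveI := ringChar.charP F
  have := CharP.cast_eq_zero F (ringChar F)
  rw [hc] at this
  exact_mod_cast this)

open Classical in
/-- The order of the rotation group of the plane of discriminant d. -/
noncomputable def nOf (d : F) : ℕ := if IsSquare (-d) then Fintype.card F - 1 else Fintype.card F + 1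

theorem rot_pow (h2 : (2 : F) ≠ 0) {κ : Type} [Fintype κ] [DecidableEq κ] {A : GL κ F} {u v : κ → F} {c s d : F}
    (hd : d ≠ 0) (hcs : c * c + d * (s * s) = 1) (hu : mv A u = c • u + s • v)
    (hv : mv A v = (-(d * s)) • u + c • v) : mv (A ^ nOf d) u = u ∧ mv (A ^ nOf d) v = v := by
  classical
  let E := AlgebraicClosure F
  let ι := algebraMap F E
  obtain ⟨i, hi⟩ := IsAlgClosed.exists_pow_nat_eq (ι (-d)) (show 0 < 2 by norm_num)
  have hi' : i * i = -ι d := by rw [← pow_two, hi, map_neg]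
  have hcs' : ι c * ι c + ι d * (ι s * ι s) = 1 := by rw [← map_mul, ← map_mul, ← map_mul, ← map_add, hcs, map_one]
  set lam := ι c + i * ι s with hlam
  set mu := ι c - i * ι s with hmu
  have hlm : lam * mu = 1 := by rw [hlam, hmu]; linear_combination hcs' - ι s * ι s * hi'
  have hi0 : i ≠ 0 := fun h => by
    rw [h, mul_zero] at hi'
    exact hd (ι.injective (by rw [map_zero]; linear_combination hi'))
  have hpow : ∀ n : ℕ, ∃ cn sn : F, mv (A ^ n) u = cn • u + sn • v ∧ mv (A ^ n) v = (-(d * sn)) • u + cn • v ∧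
      ι cn + i * ι sn = lam ^ n ∧ ι cn - i * ι sn = mu ^ n := by
    intro n
    induction n with
    | zero => exact ⟨1, 0, by simp [mv_one], by simp [mv_one], by simp, by simp⟩
    | succ n ih =>
      obtain ⟨cn, sn, e1, e2, e3, e4⟩ := ih
      refine ⟨c * cn - d * (s * sn), c * sn + s * cn, ?_, ?_, ?_, ?_⟩
      · rw [pow_succ, mv_mul, hu, mv_add, mv_smul, mv_smul, e1, e2]; module
      · rw [pow_succ, mv_mul, hv, mv_add, mv_smul, mv_smul, e1, e2]; module
      · rw [pow_succ, ← e3, hlam]; simp only [map_add, map_sub, map_mul]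
        linear_combination (-(ι s * ι sn)) * hi'
      · rw [pow_succ, ← e4, hmu]; simp only [map_add, map_sub, map_mul]
        linear_combination (-(ι s * ι sn)) * hi'
  suffices hn : lam ^ nOf d = 1 by
    obtain ⟨cn, sn, e1, e2, e3, e4⟩ := hpow (nOf d)
    have hm : mu ^ nOf d = 1 := by
      have : (lam * mu) ^ nOf d = 1 := by rw [hlm, one_pow]
      rwa [mul_pow, hn, one_mul] at this
    rw [hn] at e3
    rw [hm] at e4
    have h2E : (2 : E) ≠ 0 := by rw [← map_ofNat ι 2]; exact fun h => h2 (ι.injective (h.trans (map_zero ι).symm))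
    have hcn : cn = 1 := ι.injective (by rw [map_one]; exact mul_left_cancel₀ h2E (by linear_combination e3 + e4))
    have hsn : sn = 0 := ι.injective (by
      rw [map_zero]
      exact mul_left_cancel₀ (mul_ne_zero h2E hi0) (by linear_combination e3 - e4))
    exact ⟨by rw [e1, hcn, hsn]; simp, by rw [e2, hcn, hsn]; simp⟩
  set q := Fintype.card F with hq
  have hfr : ∀ x : E, FiniteField.frobeniusAlgHom F E x = x ^ q := fun x => rfl
  have hlq : lam ^ q = ι c + i ^ q * ι s := by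
    rw [← hfr, hlam, map_add, map_mul, AlgHom.commutes, AlgHom.commutes, hfr]
  have hodd : q % 2 = 1 := FiniteField.odd_card_of_char_ne_two (ringChar_ne_two h2)
  have hiq : i ^ q = ι ((-d) ^ (q / 2)) * i := by
    conv_lhs => rw [show q = 2 * (q / 2) + 1 by omega, pow_succ, pow_mul, hi, ← map_pow]
  have hl0 : lam ≠ 0 := fun h => by rw [h, zero_mul] at hlm; exact zero_ne_one hlm
  have hd' : -d ≠ 0 := neg_ne_zero.2 hd
  have hpos : 1 ≤ q := Fintype.card_pos
  unfold nOf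
  split_ifs with hs
  · rw [(FiniteField.isSquare_iff (ringChar_ne_two h2) hd').1 hs, map_one, one_mul] at hiq
    rw [hiq, ← hlam] at hlq
    rw [← hq]
    exact mul_right_cancel₀ hl0 (by rw [← pow_succ, Nat.sub_add_cancel hpos, one_mul, hlq])
  · have := (FiniteField.pow_dichotomy (ringChar_ne_two h2) hd').resolve_left
      (fun h => hs ((FiniteField.isSquare_iff (ringChar_ne_two h2) hd').2 h))
    rw [this, map_neg, map_one, neg_one_mul] at hiq
    rw [hiq, neg_mul, ← sub_eq_add_neg, ← hmu] at hlq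
    rw [← hq, pow_succ, hlq, mul_comm, hlm]

theorem nsq_ratio (h2 : (2 : F) ≠ 0) {a b : F} (ha : ¬ IsSquare a) (hb : ¬ IsSquare b) : IsSquare (a / b) := by
  have hc := ringChar_ne_two h2
  have h0 : ∀ x : F, ¬ IsSquare x → x ≠ 0 := fun x hx h => hx (h ▸ ⟨0, by ring⟩)
  have hp : ∀ x : F, ¬ IsSquare x → x ^ (Fintype.card F / 2) = -1 := fun x hx =>
    (FiniteField.pow_dichotomy hc (h0 x hx)).resolve_left fun h => hx ((FiniteField.isSquare_iff hc (h0 x hx)).2 h)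
  rw [FiniteField.isSquare_iff hc (div_ne_zero (h0 a ha) (h0 b hb)), div_pow, hp a ha, hp b hb, neg_div_neg_eq,
    div_one]

theorem nu_move (h2 : (2 : F) ≠ 0) {u v : Fin 3 → F} (hu : ¬ IsSquare (u ⬝ᵥ u)) (hv : ¬ IsSquare (v ⬝ᵥ v)) :
    ∃ X ∈ SO3 F, X * hh u * X⁻¹ = hh v := by
  obtain ⟨s, hs⟩ := nsq_ratio h2 hv hu
  have hu0 := nsq_ne hu
  have hs0 : s ≠ 0 := fun h => by
    rw [h, mul_zero, div_eq_zero_iff] at hs
    exact hs.elim (nsq_ne hv) hu0
  have hval : (s • u) ⬝ᵥ (s • u) = v ⬝ᵥ v := by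
    rw [smul_dotProduct, dotProduct_smul, smul_eq_mul, smul_eq_mul, ← mul_assoc, ← hs, div_mul_cancel₀ _ hu0]
  obtain ⟨x, -, hx, -⟩ := move h2 (a := s • u) (b := v) (by rw [hval]; exact nsq_ne hv) hval
  refine ⟨_, hh_mem h2 x, ?_⟩
  rw [← hh_smul hs0 u]
  exact hh_move h2 hx

theorem axis_order (h2 : (2 : F) ≠ 0) {a : Fin 3 → F} (ha : a ⬝ᵥ a = 1) {A : GL (Fin 3) F} (hA : A ∈ SO3 F)
    (h : A * hh a = hh a * A) : A ^ (2 * nOf (1 : F)) = 1 := by
  obtain ⟨x, hx, hxa, -⟩ := move h2 (a := a) (b := ee 0) (unit_ne ha) (by rw [ha, ee_self])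
  have hfix : mv (A * A) a = a := by
    rcases hh_comm h2 (unit_ne ha) (mem_SO3.1 hA).1 h with e | e
    · rw [mv_mul, e, e]
    · rw [mv_mul, e, mv_neg, e, neg_neg]
  set A' := hh x * (A * A) * (hh x)⁻¹ with hA'
  have hA'S : A' ∈ SO3 F := (SO3 F).mul_mem ((SO3 F).mul_mem (hh_mem h2 x) ((SO3 F).mul_mem hA hA))
    ((SO3 F).inv_mem (hh_mem h2 x))
  have hA'0 : mv A' (ee 0) = ee 0 := by
    have e : mv A' (mv (hh x) a) = mv (hh x) a := by rw [hA', mv_mul, mv_mul, mv_inv_mv, hfix]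
    rcases hxa with h' | h' <;> rw [h'] at e
    · exact e
    · rw [mv_neg] at e; exact neg_injective e
  obtain ⟨c, s, hcs, a1, a2⟩ := rot_entries h2 hA'S hA'0
  have split : ∀ x y : F, (![0, x, y] : Fin 3 → F) = x • ee 1 + y • ee 2 := fun x y => by
    funext j; fin_cases j <;> simp [ee_apply]
  obtain ⟨f1, f2⟩ := rot_pow h2 (A := A') (u := ee 1) (v := ee 2) (c := c) (s := s) (d := 1) one_ne_zero
    (by linear_combination hcs) (by rw [a1, split]) (by rw [a2, split, one_mul])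
  have f0 : ∀ n : ℕ, mv (A' ^ n) (ee 0) = ee 0 := fun n => by
    induction n with
    | zero => rw [pow_zero, mv_one]
    | succ n ih => rw [pow_succ, mv_mul, hA'0, ih]
  have e : A' ^ nOf (1 : F) = 1 := rot_ext fun m => by
    rw [mv_one]
    fin_cases m
    · exact f0 _
    · exact f1
    · exact f2
  rw [hA', conj_pow, mul_inv_eq_one, mul_eq_left] at e
  rw [pow_mul, pow_two]
  exact e

/-- Inner and outer mixed involutions are not conjugate in M. -/
theorem not_conj_std (C : Ctx M) {r s : F} (hν : ¬ IsSquare (r * r + s * s)) {a b : Fin 3 → F} (ha : a ⬝ᵥ a = 1)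
    (hb : b ⬝ᵥ b = 1) {g : GL (Fin 3 × Fin 3) F} (hg : g ∈ M)
    (h : g * kr (hh a) (hh b) * g⁻¹ = kr (hh ![0, r, s]) (hh ![0, r, s])) : False := by
  classical
  have h2 := C.h2
  obtain ⟨ν, hνd⟩ : ∃ ν, ν = r * r + s * s := ⟨_, rfl⟩
  rw [← hνd] at hν
  have hν0 : ν ≠ 0 := fun h0 => hν (h0 ▸ ⟨0, by ring⟩)
  obtain ⟨m, hm0, hmd⟩ : ∃ m : F, m ≠ 0 ∧ m * m + ν ≠ 0 := by
    by_contra hcon
    push Not at hcon
    have hsub : (Finset.univ : Finset F) ⊆ {0, 1, -1} := fun x _ => by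
      simp only [Finset.mem_insert, Finset.mem_singleton]
      by_cases hx : x = 0
      · exact Or.inl hx
      · exact Or.inr (mul_self_eq_one_iff.1 (by linear_combination hcon x hx - hcon 1 one_ne_zero))
    have := (Finset.card_le_card hsub).trans Finset.card_le_three
    rw [Finset.card_univ] at this
    have := C.h5
    omega
  obtain ⟨q, hq⟩ : ∃ q, q = -(2 * m) / (m * m + ν) := ⟨_, rfl⟩
  obtain ⟨p, hp⟩ : ∃ p, p = 1 + m * q := ⟨_, rfl⟩
  have hq0 : q ≠ 0 := hq ▸ div_ne_zero (neg_ne_zero.2 (mul_ne_zero h2 hm0)) hmd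
  have hpq : p * p + ν * (q * q) = 1 := by
    have hqm : q * (m * m + ν) = -(2 * m) := by rw [hq, div_mul_cancel₀ _ hmd]
    rw [hp]; linear_combination q * hqm
  set v0 : Fin 3 → F := ![0, r, s] with hv0
  set v2 : Fin 3 → F := ![0, -s, r] with hv2
  set β : Fin 3 → F := ![p, -(q * s), q * r] with hβ
  have hv00 : v0 ⬝ᵥ v0 ≠ 0 := by simp [hv0, dot3, ← hνd, hν0]
  have hββ : β ⬝ᵥ β = 1 := by simp [hβ, dot3]; rw [hνd] at hpq; linear_combination hpq
  have hβv : β ⬝ᵥ v0 = 0 := by simp [hβ, hv0, dot3]; ring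
  set X : GL (Fin 3) F := hh (ee 0) * hh β with hX
  have hXv : mv X v0 = v0 := by
    rw [hX, mv_mul, mv_hh_orth (unit_ne hββ) hβv, mv_neg, mv_hh_orth (unit_ne (ee_self 0)) (by rw [ee_dot, hv0]; rfl),
      neg_neg]
  have hXO := ((O3 F).mul_mem (mem_SO3.1 (hh_mem h2 (ee 0))).1 (mem_SO3.1 (hh_mem h2 β)).1)
  have hXc : X * hh v0 = hh v0 * X := by
    rw [← mul_inv_eq_iff_eq_mul, hh_conj h2 hXO, hXv]
  have hrM : kr (1 : GL (Fin 3) F) X ∈ M := by
    have := M.mul_mem (C.memR (ee_self 0)) (C.memR hββ)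
    rwa [kr_mul, mul_one] at this
  set r' := g⁻¹ * kr 1 X * g with hr'
  have hr'M : r' ∈ M := M.mul_mem (M.mul_mem (M.inv_mem hg) hrM) hg
  have hr'c : r' * kr (hh a) (hh b) = kr (hh a) (hh b) * r' := by
    have e : kr 1 X * kr (hh v0) (hh v0) = kr (hh v0) (hh v0) * kr (1 : GL (Fin 3) F) X := by
      rw [kr_mul, kr_mul, one_mul, mul_one, hXc]
    have e' := comm_conj (h := g⁻¹) e
    rw [inv_inv, ← h] at e'
    simpa [mul_assoc, hr'] using e'
  obtain ⟨A, hA, B, hB, hAB, hAa, hBb⟩ : ∃ A ∈ SO3 F, ∃ B ∈ SO3 F, r' * r' = kr A B ∧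
      A * hh a = hh a * A ∧ B * hh b = hh b * B := by
    rcases om_cases h2 (C.le hr'M) (cent_inner C ha hb hr'M hr'c) with ⟨A, hA, B, hB, e⟩ | ⟨A, hA, B, hB, e⟩
    · rw [e, kr_mul, kr_mul] at hr'c
      obtain ⟨c1, c2⟩ := kr_inj h2 ((SO3 F).mul_mem hA (hh_mem h2 _)) ((SO3 F).mul_mem hB (hh_mem h2 _))
        ((SO3 F).mul_mem (hh_mem h2 _) hA) ((SO3 F).mul_mem (hh_mem h2 _) hB) hr'c
      refine ⟨A * A, (SO3 F).mul_mem hA hA, B * B, (SO3 F).mul_mem hB hB, by rw [e, kr_mul], ?_, ?_⟩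
      · rw [mul_assoc, c1, ← mul_assoc, c1, mul_assoc]
      · rw [mul_assoc, c2, ← mul_assoc, c2, mul_assoc]
    · rw [e] at hr'c
      have e' : kr (A * hh b * A⁻¹) (B * hh a * B⁻¹) = kr (hh a) (hh b) := by
        rw [← swap_conj, hr'c, mul_inv_cancel_right]
      obtain ⟨c1, c2⟩ := kr_inj h2 ((SO3 F).mul_mem ((SO3 F).mul_mem hA (hh_mem h2 _)) ((SO3 F).inv_mem hA))
        ((SO3 F).mul_mem ((SO3 F).mul_mem hB (hh_mem h2 _)) ((SO3 F).inv_mem hB)) (hh_mem h2 _) (hh_mem h2 _) e'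
      rw [mul_inv_eq_iff_eq_mul] at c1 c2
      refine ⟨A * B, (SO3 F).mul_mem hA hB, B * A, (SO3 F).mul_mem hB hA, ?_, ?_, ?_⟩
      · rw [e, neg_mul_neg, show kr A B * sw * (kr A B * sw) = kr A B * (sw * kr A B * sw) by simp only [mul_assoc],
          sw_kr, kr_mul]
      · rw [mul_assoc, c2, ← mul_assoc, c1, mul_assoc]
      · rw [mul_assoc, c1, ← mul_assoc, c2, mul_assoc]
  have hr4 : r' ^ (2 * (2 * nOf (1 : F))) = 1 := by
    rw [pow_mul, pow_two, hAB, OrthTensor.kr_pow, axis_order h2 ha hA hAa, axis_order h2 hb hB hBb, kr_one]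
  have hX4 : X ^ (4 * nOf (1 : F)) = 1 := by
    have e : (kr (1 : GL (Fin 3) F) X) ^ (4 * nOf (1 : F)) = 1 := by
      rw [show kr (1 : GL (Fin 3) F) X = g * r' * g⁻¹ by rw [hr']; group, conj_pow,
        show 4 * nOf (1 : F) = 2 * (2 * nOf (1 : F)) by ring, hr4, mul_one, mul_inv_cancel]
    rw [OrthTensor.kr_pow, one_pow] at e
    refine ext_mv fun w => ten_right_cancel (ee_ne_zero (F := F) 0) ?_
    rw [mv_one]
    have := congrArg (fun g : GL (Fin 3 × Fin 3) F => mv g (ten (ee 0) w)) e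
    simpa only [mv_kr_ten, mv_one] using this
  have hβe : β ⬝ᵥ ee 0 = p := by rw [dot_ee, hβ]; rfl
  have hβ2 : β ⬝ᵥ v2 = q * ν := by simp [hβ, hv2, dot3, hνd]; ring
  have e1 : mv X (ee 0) = (2 * p * p - 1) • ee 0 + (-(2 * p * q)) • v2 := by
    rw [hX, mv_mul, mv_hh (unit_ne hββ), hββ, div_one, hβe, mv_hh_ee]
    funext j
    fin_cases j <;> simp [hβ, hv2, ee_apply] <;> ring
  have e2 : mv X v2 = (-(ν * -(2 * p * q))) • ee 0 + (2 * p * p - 1) • v2 := by
    rw [hX, mv_mul, mv_hh (unit_ne hββ), hββ, div_one, hβ2, mv_hh_ee]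
    funext j
    fin_cases j <;> simp [hβ, hv2, ee_apply]
    · ring
    · linear_combination (2 * s) * hpq
    · linear_combination (-(2 * r)) * hpq
  obtain ⟨f1, f2⟩ := rot_pow h2 (A := X) (u := ee 0) (v := v2) (d := ν) hν0
    (by linear_combination (4 * p * p) * hpq) e1 e2
  have f0 : ∀ n : ℕ, mv (X ^ n) v0 = v0 := fun n => by
    induction n with
    | zero => rw [pow_zero, mv_one]
    | succ n ih => rw [pow_succ, mv_mul, hXv, ih]
  have hXn : X ^ nOf ν = 1 := rot_ext fun j => by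
    rw [mv_one]
    have d1 : (ee 1 : Fin 3 → F) = (r / ν) • v0 + (-(s / ν)) • v2 := by
      funext i; fin_cases i <;> simp [hv0, hv2, ee_apply] <;> field_simp <;> first | ring1 | linear_combination hνd | linear_combination -hνd
    have d2 : (ee 2 : Fin 3 → F) = (s / ν) • v0 + (r / ν) • v2 := by
      funext i; fin_cases i <;> simp [hv0, hv2, ee_apply] <;> field_simp <;> first | ring1 | linear_combination hνd | linear_combination -hνd
    fin_cases j
    · exact f1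
    · show mv (X ^ nOf ν) (ee 1) = ee 1
      rw [d1, mv_add, mv_smul, mv_smul, f0, f2]
    · show mv (X ^ nOf ν) (ee 2) = ee 2
      rw [d2, mv_add, mv_smul, mv_smul, f0, f2]
  have hX2 : X ^ 2 = 1 := by
    have hd1 := orderOf_dvd_of_pow_eq_one hX4
    have hd2 := orderOf_dvd_of_pow_eq_one hXn
    rw [← orderOf_dvd_iff_pow_eq_one]
    have hodd : Fintype.card F % 2 = 1 := FiniteField.odd_card_of_char_ne_two (ringChar_ne_two h2)
    have h5 := C.h5
    have hcases : (nOf (1 : F) + 2 = nOf ν ∧ nOf ν % 4 = 2) ∨ (nOf ν + 2 = nOf (1 : F) ∧ nOf ν % 4 = 2) := by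
      have hiff : IsSquare (-(1 : F)) ↔ ¬ IsSquare (-ν) := by
        constructor
        · intro h1 h3
          exact hν (by simpa using h3.mul h1)
        · intro h3
          by_contra h1
          exact h3 (by simpa [div_neg] using (nsq_ratio h2 hν h1))
      have hmod : IsSquare (-(1 : F)) ↔ Fintype.card F % 4 ≠ 3 := FiniteField.isSquare_neg_one_iff
      unfold nOf
      by_cases h1 : IsSquare (-(1 : F))
      · have := hmod.1 h1
        rw [if_pos h1, if_neg (hiff.1 h1)]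
        omega
      · have : Fintype.card F % 4 = 3 := by_contra fun h' => h1 (hmod.2 h')
        rw [if_neg h1, if_pos (by_contra fun h' => h1 (hiff.2 h'))]
        omega
    have hn4 : nOf ν % 4 = 2 := hcases.elim And.right And.right
    have h8 : orderOf X ∣ 8 := by
      have := hd2.mul_left 4
      rcases hcases with ⟨he, -⟩ | ⟨he, -⟩
      · have := Nat.dvd_sub this hd1
        rwa [show 4 * nOf ν - 4 * nOf (1 : F) = 8 by omega] at this
      · have := Nat.dvd_sub hd1 this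
        rwa [show 4 * nOf (1 : F) - 4 * nOf ν = 8 by omega] at this
    have hmem : orderOf X ∈ Nat.divisors 8 := Nat.mem_divisors.2 ⟨h8, by norm_num⟩
    rw [show Nat.divisors 8 = {1, 2, 4, 8} from by decide] at hmem
    simp only [Finset.mem_insert, Finset.mem_singleton] at hmem
    rcases hmem with e | e | e | e <;> rw [e] at hd2 ⊢
    · exact one_dvd _
    · exfalso; omega
    · exfalso; omega
  rw [pow_two, hX] at hX2
  have hcomm : (hh (ee 0) : GL (Fin 3) F) * hh β = hh β * hh (ee 0) := by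
    have := inv_eq_of_mul_eq_one_right hX2
    rw [_root_.mul_inv_rev, hh_inv, hh_inv] at this
    exact this.symm
  rcases hh_comm_hh h2 (unit_ne (ee_self 0)) (unit_ne hββ) hcomm with ⟨t, -, e⟩ | e
  · have e1 := congrFun e 1
    have e3 := congrFun e 2
    simp [hβ, ee_apply] at e1 e3
    rcases e1 with e1 | e1
    · exact hq0 e1
    · rcases e3 with e3 | e3
      · exact hq0 e3
      · exact hν0 (by rw [hνd, e1, e3]; ring)
  · rw [dotProduct_comm, hβe] at e
    refine hν ⟨q⁻¹, ?_⟩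
    rw [e] at hpq
    field_simp
    linear_combination hpq

theorem not_conj (C : Ctx M) {a b u v : Fin 3 → F} (ha : a ⬝ᵥ a = 1) (hb : b ⬝ᵥ b = 1)
    (hu : ¬ IsSquare (u ⬝ᵥ u)) (hv : ¬ IsSquare (v ⬝ᵥ v)) {g : GL (Fin 3 × Fin 3) F} (hg : g ∈ M) :
    g * kr (hh a) (hh b) * g⁻¹ ≠ kr (hh u) (hh v) := fun h => by
  have h2 := C.h2
  obtain ⟨n, hn, hn0⟩ := exists_nu (F := F) h2 (0 : Fin 3)
  have hn' : n = ![0, n 1, n 2] := by funext j; fin_cases j <;> simp [hn0]
  have hν : ¬ IsSquare (n 1 * n 1 + n 2 * n 2) := by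
    rw [dot3, hn0] at hn; simpa using hn
  obtain ⟨X, hX, eX⟩ := nu_move h2 hu hn
  obtain ⟨Y, hY, eY⟩ := nu_move h2 hv hn
  refine not_conj_std (C.conj (kr_iso h2 (mem_SO3.1 hX).1 (mem_SO3.1 hY).1) (inK_kr X Y)) (r := n 1) (s := n 2) hν
    (a := mv X a) (b := mv Y b) (by rw [SO3.dot h2 hX, ha]) (by rw [SO3.dot h2 hY, hb]) (conj_mem_cj hg) ?_
  rw [← hn', ← hh_conj h2 (mem_SO3.1 hX).1 a, ← hh_conj h2 (mem_SO3.1 hY).1 b, ← conj_kr,
    show kr X Y * g * (kr X Y)⁻¹ * (kr X Y * kr (hh a) (hh b) * (kr X Y)⁻¹) * (kr X Y * g * (kr X Y)⁻¹)⁻¹ =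
      kr X Y * (g * kr (hh a) (hh b) * g⁻¹) * (kr X Y)⁻¹ by group, h, conj_kr, eX, eY]

/-- Members conjugating an inner mixed involution into a Kronecker product. -/
theorem fuse_Z (C : Ctx M) {g : GL (Fin 3 × Fin 3) F} (hg : g ∈ M)
    (hK : InK (g * kr (hh (ee 0)) (hh (ee 0)) * g⁻¹)) : InK g := by
  have h2 := C.h2
  have h0 := unit_ne (ee_self (F := F) 0)
  have hm : g * kr (hh (ee 0)) (hh (ee 0)) * g⁻¹ ∈ M :=
    M.mul_mem (M.mul_mem hg (C.memZ h0 h0 Iff.rfl)) (M.inv_mem hg)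
  obtain ⟨u, v, hu, hv, e⟩ := mixed_of_trace h2 (C.le hm) hK
    (invol_conj g (kr_self_one (hh_mul_self _) (hh_mul_self _)))
    (ne_one_conj g fun e => hh_ne_one h2 h0 (kr_eq_one h2 (hh_mem h2 _) (hh_mem h2 _) e).1)
    (by rw [trace_conj, trace_Z h2 h0 h0])
  have hsq := (hZ_iff h2 hu hv).1 (C.le (e ▸ hm))
  by_cases hsu : IsSquare (u ⬝ᵥ u)
  swap
  · exact absurd e (not_conj C (ee_self 0) (ee_self 0) hsu (fun h => hsu (hsq.2 h)) hg)
  obtain ⟨a, ha, eu⟩ := exists_unit hu hsu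
  obtain ⟨b, hb, ev⟩ := exists_unit hv (hsq.1 hsu)
  rw [← eu, ← ev] at e
  obtain ⟨n, hn, hn0⟩ := exists_nu (F := F) h2 (0 : Fin 3)
  obtain ⟨X, hX, eX⟩ := unit_move h2 ha (ee_self 0)
  obtain ⟨Y, hY, eY⟩ := unit_move h2 hb (ee_self 0)
  obtain ⟨X', hm', eX'⟩ : ∃ X', kr X' Y ∈ M ∧ X' * hh a * X'⁻¹ = hh (ee 0) := by
    rcases C.adjust hn hX hY with h | h
    · exact ⟨X, h, eX⟩
    · refine ⟨_, h, ?_⟩
      rw [show hh n * X * hh a * (hh n * X)⁻¹ = hh n * (X * hh a * X⁻¹) * (hh n)⁻¹ by group, eX,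
        hh_orth_comm h2 h0 (by rw [dot_ee, hn0]), mul_inv_cancel_right]
  have hc : kr X' Y * g * kr (hh (ee 0)) (hh (ee 0)) * (kr X' Y * g)⁻¹ = kr (hh (ee 0)) (hh (ee 0)) := by
    rw [show kr X' Y * g * kr (hh (ee 0)) (hh (ee 0)) * (kr X' Y * g)⁻¹ =
      kr X' Y * (g * kr (hh (ee 0)) (hh (ee 0)) * g⁻¹) * (kr X' Y)⁻¹ by group, e, conj_kr, eX', eY]
  have hk := cent_inner0 C (M.mul_mem hm' hg) (mul_inv_eq_iff_eq_mul.1 hc)
  have := inK_mul (inK_inv (inK_kr X' Y)) hk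
  rwa [inv_mul_cancel_left] at this

theorem key_outer (C : Ctx M) {v0 : Fin 3 → F} (hν : ¬ IsSquare (v0 ⬝ᵥ v0)) (hv0 : v0 0 = 0)
    {w : GL (Fin 3 × Fin 3) F} (hw : w ∈ M) (hww : w * w = 1)
    (hwz : w * kr (hh v0) (hh v0) = kr (hh v0) (hh v0) * w)
    (htr : (w : Matrix (Fin 3 × Fin 3) (Fin 3 × Fin 3) F).trace = 1)
    (htz : ((kr (hh v0) (hh v0) * w : GL (Fin 3 × Fin 3) F) :
      Matrix (Fin 3 × Fin 3) (Fin 3 × Fin 3) F).trace = 1) : InK w := by
  have h2 := C.h2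
  have h0 := unit_ne (ee_self (F := F) 0)
  have hv := nsq_ne hν
  have hev : (ee 0 : Fin 3 → F) ⬝ᵥ v0 = 0 := by rw [ee_dot, hv0]
  obtain ⟨A, B, hA, hB, hAA, hBB, hm, hne, hB1, hwc, hcz, hf⟩ := dihedral_step C (ee_self 0) hw hww htr
  set z : GL (Fin 3 × Fin 3) F := kr (hh v0) (hh v0) with hz
  have hzM : z ∈ M := C.memZ hv hv Iff.rfl
  have hcomm : (hh (ee 0) : GL (Fin 3) F) * hh v0 = hh v0 * hh (ee 0) := hh_orth_comm h2 hv hev
  have hzt : z * kr 1 (hh (ee 0)) = kr 1 (hh (ee 0)) * z := by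
    rw [hz, kr_mul, kr_mul, one_mul, mul_one, hcomm]
  have hzc := hcz z hzt hwz.symm
  have hne0 : kr A B ≠ z := by
    intro e
    rw [e] at hf
    rcases hf with h | h
    · rw [hz, kr_mul, one_mul, trace_tc h2 h0 hv hev hv] at h
      exact neg_three_ne_one h2 h.symm
    · rw [htz] at h
      exact neg_three_ne_one h2 h.symm
  rw [hz, kr_mul, kr_mul] at hzc
  obtain ⟨hA0, hB0⟩ := kr_inj h2 ((SO3 F).mul_mem (hh_mem h2 _) hA) ((SO3 F).mul_mem (hh_mem h2 _) hB)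
    ((SO3 F).mul_mem hA (hh_mem h2 _)) ((SO3 F).mul_mem hB (hh_mem h2 _)) hzc
  have hwz' : w * (kr A B * z) = kr A B * z * w := by rw [← mul_assoc, hwc, mul_assoc, hwz, ← mul_assoc]
  have hczM : kr A B * z ∈ M := M.mul_mem hm hzM
  have sq : ∀ {P : GL (Fin 3) F}, P * P = 1 → hh v0 * P = P * hh v0 → P * hh v0 * (P * hh v0) = 1 := by
    intro P hP hc
    rw [show P * hh v0 * (P * hh v0) = P * (hh v0 * P) * hh v0 by simp only [mul_assoc], hc,
      show P * (P * hh v0) * hh v0 = P * P * (hh v0 * hh v0) by simp only [mul_assoc], hP, hh_mul_self, mul_one]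
  have inner : ∀ {a : Fin 3 → F}, a ⬝ᵥ a ≠ 0 → kr (hh a) (hh (ee 0)) ∈ M →
      w * kr (hh a) (hh (ee 0)) = kr (hh a) (hh (ee 0)) * w → InK w := by
    intro a ha hm hc
    obtain ⟨u, hu, e⟩ := exists_unit ha (((hZ_iff h2 ha h0).1 (C.le hm)).2 (unit_sq (ee_self 0)))
    rw [← e] at hc
    exact cent_inner C hu (ee_self 0) hw hc
  rcases so3_invol h2 hB hBB with rfl | ⟨b, hb, rfl⟩
  · exact pureA C hA hm hAA (fun e => hne (by rw [e, kr_one])) hw hwc
  rcases hh_comm_hh h2 h0 hb hB1.symm with ⟨t, ht, e⟩ | e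
  · rw [show (hh b : GL (Fin 3) F) = hh (ee 0) by rw [e, hh_smul ht]] at hm hwc
    rcases so3_invol h2 hA hAA with rfl | ⟨a, ha, rfl⟩
    · exact cent_R C (ee_self 0) hw hwc
    · exact inner ha hm hwc
  rcases hh_comm_hh h2 hv hb hB0 with ⟨t, ht, e'⟩ | e'
  · have hbv : (hh b : GL (Fin 3) F) = hh v0 := by rw [e', hh_smul ht]
    rw [hbv] at hwz' hczM hne0
    rw [hz, kr_mul, hh_mul_self] at hwz' hczM
    refine pureA C ((SO3 F).mul_mem hA (hh_mem h2 _)) hczM (sq hAA hA0) (fun h => hne0 ?_) hw hwz'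
    rw [hz, mul_eq_one_iff_eq_inv.1 h, hh_inv]
  · obtain ⟨x, hx, ex⟩ := exists_third h2 hb hv (by rw [dotProduct_comm]; exact e')
    have hfix : mv (hh b * hh v0) (ee 0) = ee 0 := by
      rw [mv_mul, mv_hh_orth hv (by rw [dotProduct_comm]; exact hev), mv_neg,
        mv_hh_orth hb (by rw [dotProduct_comm]; exact e), neg_neg]
    have hbz : (hh b : GL (Fin 3) F) * hh v0 = hh (ee 0) := by
      rw [ex] at hfix ⊢
      exact hh_fix h2 hx (ee_ne_zero 0) hfix
    rw [hz, kr_mul, hbz] at hwz' hczM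
    rcases so3_invol h2 ((SO3 F).mul_mem hA (hh_mem h2 v0)) (sq hAA hA0) with h | ⟨a, ha, h⟩ <;>
      rw [h] at hwz' hczM
    · exact cent_R C (ee_self 0) hw hwz'
    · exact inner ha hczM hwz'

/-- The centraliser of an outer mixed involution. -/
theorem cent_outer (C : Ctx M) {u v : Fin 3 → F} (hu : ¬ IsSquare (u ⬝ᵥ u)) (hv : ¬ IsSquare (v ⬝ᵥ v))
    {g : GL (Fin 3 × Fin 3) F} (hg : g ∈ M) (h : g * kr (hh u) (hh v) = kr (hh u) (hh v) * g) : InK g := by
  have h2 := C.h2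
  obtain ⟨n, hn, hn0⟩ := exists_nu (F := F) h2 (0 : Fin 3)
  obtain ⟨X, hX, eX⟩ := nu_move h2 hu hn
  obtain ⟨Y, hY, eY⟩ := nu_move h2 hv hn
  have e := comm_conj (h := kr X Y) h
  rw [conj_kr, eX, eY] at e
  refine (inK_conj (inK_kr X Y)).1 ?_
  have C' := C.conj (kr_iso h2 (mem_SO3.1 hX).1 (mem_SO3.1 hY).1) (inK_kr X Y)
  have hg' := conj_mem_cj (h := kr X Y) hg
  generalize kr X Y * g * (kr X Y)⁻¹ = g' at e hg'
  refine fuse_Z C' hg' ?_
  have h0 := unit_ne (ee_self (F := F) 0)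
  set z : GL (Fin 3 × Fin 3) F := kr (hh n) (hh n) with hz
  set w : GL (Fin 3 × Fin 3) F := kr (hh (ee 0)) (hh (ee 0)) with hw
  have hgz : g' * z * g'⁻¹ = z := mul_inv_eq_iff_eq_mul.2 e
  have hev : (ee 0 : Fin 3 → F) ⬝ᵥ n = 0 := by rw [ee_dot, hn0]
  refine key_outer C' hn hn0 ((cj _ M).mul_mem ((cj _ M).mul_mem hg' (C'.memZ h0 h0 Iff.rfl)) ((cj _ M).inv_mem hg'))
    (invol_conj g' (kr_self_one (hh_mul_self _) (hh_mul_self _))) ?_ (by rw [trace_conj, hw, trace_Z h2 h0 h0]) ?_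
  · have := comm_conj (h := g') (show w * z = z * w by rw [hw, hz, kr_mul, kr_mul, hh_orth_comm h2 (nsq_ne hn) hev])
    rwa [hgz] at this
  · obtain ⟨x, hx, ex⟩ := exists_third h2 (nsq_ne hn) h0 (by rw [dotProduct_comm]; exact hev)
    rw [← hz, show z * (g' * w * g'⁻¹) = g' * (z * w) * g'⁻¹ by nth_rw 1 [← hgz]; group, trace_conj, hw, hz, kr_mul,
      ex, trace_Z h2 hx hx]

/-- Every member of a proper overgroup is a Kronecker product or one followed by the swap. -/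
theorem all_inK (C : Ctx M) {g : GL (Fin 3 × Fin 3) F} (hg : g ∈ M) : InK g := by
  have h2 := C.h2
  have h0 := unit_ne (ee_self (F := F) 0)
  refine fuse_Z C hg ?_
  have hm : g * kr (hh (ee 0)) (hh (ee 0)) * g⁻¹ ∈ M :=
    M.mul_mem (M.mul_mem hg (C.memZ h0 h0 Iff.rfl)) (M.inv_mem hg)
  obtain ⟨A, B, hA, hB, hAA, hBB, hc, hne, -, hwc, -, -⟩ := dihedral_step C (ee_self 0) hm
    (invol_conj g (kr_self_one (hh_mul_self _) (hh_mul_self _))) (by rw [trace_conj, trace_Z h2 h0 h0])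
  rcases invol_cases h2 hA hB (C.le hc) (kr_self_one hAA hBB) hne with
    (⟨v, hv, e⟩ | ⟨v, hv, e⟩ | ⟨v, v', hv, hv', e⟩) | ⟨v, v', hv, hv', e⟩ <;> rw [e] at hwc
  · exact cent_L C hv hm hwc
  · exact cent_R C hv hm hwc
  · exact cent_inner C hv hv' hm hwc
  · exact cent_outer C hv hv' hm hwc

/-- Some member of Ω is neither a Kronecker product nor one followed by the swap. -/
theorem exists_not_inK (h2 : (2 : F) ≠ 0) : ∃ g ∈ Om F, ¬ InK g := by
  obtain ⟨c, hc0, hc⟩ := exists_singular3 (F := F) h2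
  obtain ⟨d, y, η, hη, hdd, hcd, hcy, hdy, hyy⟩ := exists_triple h2 hc0 hc
  obtain ⟨S, -, -, hS⟩ := exists_sg h2 hc hcy
  have hsg := dg_single_siegel h2 (2 : Fin 3) hS
  have hu : Qd (ten (ee 2) c : Fin 3 × Fin 3 → F) = 0 := by rw [Qd, ten_dot, hc, mul_zero, zero_div]
  have hOm : dg (Pi.mulSingle (2 : Fin 3) S) ∈ Om F :=
    OrthEvenMax.siegel_mem_omega' (nondeg_Qd h2) (by simp) hu (by rw [pol_Qd h2, ten_dot, hcy, mul_zero]) hsg
  refine ⟨_, hOm, fun hK => ?_⟩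
  obtain ⟨A, -, -, e⟩ := inK_fix0 h2 hOm hK (mem_fix0.2 fun w => by
    rw [mv_dg_ten, Pi.mulSingle_eq_of_ne (show (0 : Fin 3) ≠ 2 by decide), mv_one])
  have hSy : mv S y ≠ y := by
    rw [siegel_iff h2] at hS
    rw [hS, dotProduct_comm y c, hcy, hyy]
    simp [hc0, hη]
  refine hSy ?_
  have e' := congrArg (fun g : GL (Fin 3 × Fin 3) F => mv g (ten (ee 2) y)) e
  simp only [mv_dg_ten, Pi.mulSingle_eq_same, mv_kr_ten, mv_one] at e'
  obtain ⟨t, ht⟩ := ten_eq' (ee_ne_zero 2) e'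
  have htt : t * t = 1 := by
    have := congrArg (fun v => v ⬝ᵥ v) ht
    simp only [smul_dotProduct, dotProduct_smul, smul_eq_mul, hyy] at this
    rw [siegel_iff h2] at hS
    have hn : mv S y ⬝ᵥ mv S y = η := by
      rw [hS, dotProduct_comm y c, hcy, hyy]
      simp only [zero_smul, add_zero, mul_zero, sub_dotProduct, dotProduct_sub, smul_dotProduct, dotProduct_smul,
        smul_eq_mul, hc, hyy, hcy, dotProduct_comm y c, sub_zero]
    rw [hn] at this
    exact mul_right_cancel₀ hη (by linear_combination -this)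
  rw [siegel_iff h2] at hS
  have := congrArg (fun v => v ⬝ᵥ d) ht
  simp [hS, dotProduct_comm y c, hcy, hyy, hcd, dotProduct_comm y d, hdy, hη] at this

end Cfsg.Agent.TensorSquare
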