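/-
Stabilisers of tensor square decompositions of a nine-dimensional orthogonal space are maximal.
-/
import Cfsg.Agent.Lib.TensorSquare.Outer
import Cfsg.Agent.Lib.Transvec.OrthSubfieldMax
import Cfsg.Agent.Lib.WreathMax.Main

set_option autoImplicit false
set_option linter.unusedSectionVars false

namespace Cfsg.Agent.TensorSquare

open scoped Matrix Kronecker
open Matrix Cfsg.Agent.Transvec Cfsg.Agent.TensorMax
open Cfsg.Agent.TensorMax.U (kr mv_kr_ten isKron_kr isKron_mul isKron_inv mv_kron_ten ext_ten_mv)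
open Cfsg.Agent.WreathMax (pten Mono)
open Cfsg.Agent.Transvec.Orth (pol IsSiegel)

variable {F : Type*} [Field F]

/-- Pairs as functions on a two-element set. -/
def pair : (Fin 2 → Fin 3) ≃ Fin 3 × Fin 3 := finTwoArrowEquiv (Fin 3)

theorem pten_pair (x : Fin 2 → Fin 3 → F) : pten x ∘ pair.symm = ten (x 0) (x 1) := by
  funext ⟨i, j⟩
  simp [pten, pair, ten, Fin.prod_univ_two]

theorem mv_pair (h : GL (Fin 2 → Fin 3) F) (x : Fin 2 → Fin 3 → F) :
    mv (Geo.glReindex pair h) (ten (x 0) (x 1)) = mv h (pten x) ∘ pair.symm := by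
  rw [← pten_pair]
  exact TensorMax.S.mv_reindex' pair.symm h (pten x)

/-- The standard tensor-wreath group on pairs. -/
noncomputable def stdK (F : Type*) [Field F] : Subgroup (GL (Fin 3 × Fin 3) F) :=
  (Geo.tensorWreathStandard 3 2 F).map (Geo.glReindex pair).toMonoidHom

theorem mem_stdK [Finite F] {g : GL (Fin 3 × Fin 3) F} : g ∈ stdK F ↔ InK g := by
  constructor
  · rintro ⟨h, hh, rfl⟩
    obtain ⟨σ, A, hA⟩ := (WreathMax.mem_standard_iff h).1 hh
    have key : ∀ x : Fin 2 → Fin 3 → F, mv (Geo.glReindex pair h) (ten (x 0) (x 1)) =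
        ten (mv (A 0) (x (σ 0))) (mv (A 1) (x (σ 1))) := fun x => by
      rw [mv_pair, hA, pten_pair]
    rcases (show ∀ σ : Equiv.Perm (Fin 2), (σ 0 = 0 ∧ σ 1 = 1) ∨ (σ 0 = 1 ∧ σ 1 = 0) by decide) σ with
      ⟨e0, e1⟩ | ⟨e0, e1⟩
    · refine Or.inl ?_
      show IsKron (Geo.glReindex pair h)
      rw [show Geo.glReindex pair h = kr (A 0) (A 1) from ext_ten_mv fun u w => by
        have := key ![u, w]
        rw [e0, e1] at this
        simpa [mv_kr_ten] using this]
      exact isKron_kr _ _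
    · refine Or.inr ?_
      show IsKron (Geo.glReindex pair h * sw)
      rw [show Geo.glReindex pair h * sw = kr (A 0) (A 1) from ext_ten_mv fun u w => by
        have := key ![w, u]
        rw [e0, e1] at this
        rw [mv_mul, mv_sw_ten]
        simpa [mv_kr_ten] using this]
      exact isKron_kr _ _
  · intro hg
    refine ⟨(Geo.glReindex pair).symm g, (WreathMax.mem_standard_iff _).2 ?_, (Geo.glReindex pair).apply_symm_apply g⟩
    have key : ∀ x : Fin 2 → Fin 3 → F,
        mv ((Geo.glReindex pair).symm g) (pten x) = mv g (ten (x 0) (x 1)) ∘ pair := fun x => by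
      conv_rhs => rw [← (Geo.glReindex pair).apply_symm_apply g, mv_pair, Function.comp_assoc,
        Equiv.symm_comp_self, Function.comp_id]
    rcases hg with hg | hg <;> obtain ⟨A, B, e⟩ := kron_eq hg
    · refine ⟨1, ![A, B], fun x => ?_⟩
      rw [key, e, mv_kr_ten, ← show pten (fun j => mv (![A, B] j) (x ((1 : Equiv.Perm (Fin 2)) j))) ∘ pair.symm =
        ten (mv A (x 0)) (mv B (x 1)) by rw [pten_pair]; simp]
      rw [Function.comp_assoc, Equiv.symm_comp_self, Function.comp_id]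
    · refine ⟨Equiv.swap 0 1, ![A, B], fun x => ?_⟩
      have e' : g = kr A B * sw := by rw [← e, mul_assoc, sw_mul_self, mul_one]
      rw [key, e', mv_mul, mv_sw_ten, mv_kr_ten,
        ← show pten (fun j => mv (![A, B] j) (x (Equiv.swap 0 1 j))) ∘ pair.symm =
          ten (mv A (x 1)) (mv B (x 0)) by rw [pten_pair]; simp]
      rw [Function.comp_assoc, Equiv.symm_comp_self, Function.comp_id]

theorem maximal_std [Fintype F] (h2 : (2 : F) ≠ 0) (h5 : 5 ≤ Fintype.card F) :
    Geo.IsMaximalIn (Om F) (stdK F ⊓ Om F) := by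
  obtain ⟨g, hg, hgK⟩ := exists_not_inK (F := F) h2
  refine ⟨lt_of_le_of_ne inf_le_right fun e => hgK (mem_stdK.1 (e.symm ▸ hg : g ∈ stdK F ⊓ Om F).1),
    fun M hM1 hM2 => ?_⟩
  by_cases hM : M = Om F
  · exact Or.inr hM
  have C : Ctx M := ⟨h2, h5, hM2, fun x hx hxO => hM1 ⟨mem_stdK.2 hx, hxO⟩, hM⟩
  exact Or.inl (le_antisymm (fun x hx => ⟨mem_stdK.2 (all_inK C hx), hM2 hx⟩) hM1)

section Transport

variable {ι κ : Type} [Fintype ι] [DecidableEq ι] [Fintype κ] [DecidableEq κ]

/-- A similarity of coordinates carries commutator subgroups of isometry groups to each other. -/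
theorem omega_transport (E : ι ≃ κ) (P : GL ι F) {Q : (ι → F) → F} {Q' : (κ → F) → F} {a : F} (ha : a ≠ 0)
    (h : ∀ x, Q' x = a * Q (mv P (x ∘ E))) :
    ((Geo.omegaGL Q').map (Geo.glReindex (F := F) E.symm).toMonoidHom).map (MulAut.conj P).toMonoidHom =
      Geo.omegaGL Q := by
  have hsurj : ∀ y, ∃ x : κ → F, mv P (x ∘ E) = y := fun y => ⟨(mv P⁻¹ y) ∘ E.symm, by
    rw [Function.comp_assoc, Equiv.symm_comp_self, Function.comp_id, mv_mv_inv]⟩
  let φ : GL κ F ≃* GL ι F := (Geo.glReindex E.symm).trans (MulAut.conj P)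
  have hφ : ∀ g x, mv (φ g) (mv P (x ∘ E)) = mv P ((mv g x) ∘ E) := fun g x => by
    show mv (MulAut.conj P (Geo.glReindex E.symm g)) (mv P (x ∘ E)) = _
    rw [MulAut.conj_apply, mv_mul, mv_mul, mv_inv_mv, TensorMax.S.mv_reindex']
  have hiso : (isometryGroup F Q').map φ.toMonoidHom = isometryGroup F Q := by
    ext x
    constructor
    · rintro ⟨y, hy, rfl⟩
      refine Transvec.Orth.mem_isometry.2 fun z => ?_
      obtain ⟨w, rfl⟩ := hsurj z
      refine mul_left_cancel₀ ha ?_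
      show a * Q (mv (φ y) (mv P (w ∘ E))) = _
      rw [hφ, ← h, ← h]
      exact Transvec.Orth.mem_isometry.1 hy w
    · intro hx
      obtain ⟨y, rfl⟩ := φ.surjective x
      refine ⟨y, Transvec.Orth.mem_isometry.2 fun w => ?_, rfl⟩
      rw [h, h, ← hφ, Transvec.Orth.mem_isometry.1 hx]
  rw [Subgroup.map_map, show (MulAut.conj P).toMonoidHom.comp (Geo.glReindex (F := F) E.symm).toMonoidHom =
    φ.toMonoidHom from rfl, Transvec.Orth.omegaGL_eq_commutator, Transvec.Orth.omegaGL_eq_commutator,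
    Subgroup.map_commutator, hiso]

end Transport

/-- A ternary symmetric form is a multiple of the dot product in some basis. -/
theorem exists_gram [Fintype F] (h2 : (2 : F) ≠ 0) {f : (Fin 3 → F) → (Fin 3 → F) → F}
    (hf : Geo.IsSymmetricForm f) :
    ∃ (C : GL (Fin 3) F) (k : F), k ≠ 0 ∧ ∀ u v, f (mv C u) (mv C v) = k * (u ⬝ᵥ v) := by
  haveI : Invertible (2 : F) := invertibleOfNonzero h2
  obtain ⟨B, hB⟩ : ∃ B : LinearMap.BilinForm F (Fin 3 → F), ∀ u v, B u v = f u v :=
    ⟨LinearMap.mk₂ F f hf.bilinear.add_left hf.bilinear.smul_left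
      (fun a b c => hf.bilinear.add_right a b c) (fun t a c => hf.bilinear.smul_right t a c), fun u v => rfl⟩
  obtain ⟨e₀, he₀⟩ := LinearMap.BilinForm.exists_orthogonal_basis (B := B)
    ⟨fun u v => by simp [hB, hf.symm]⟩
  obtain ⟨e, he⟩ : ∃ e : Module.Basis (Fin 3) F (Fin 3 → F), ∀ i j, i ≠ j → f (e i) (e j) = 0 := by
    refine ⟨e₀.reindex (finCongr (Module.finrank_fin_fun F)), fun i j hij => ?_⟩
    rw [← hB, Module.Basis.reindex_apply, Module.Basis.reindex_apply]
    exact he₀ fun h => hij ((finCongr _).symm.injective h)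
  have hd : ∀ i, f (e i) (e i) ≠ 0 := fun i hi => by
    obtain ⟨-, ⟨y, hy⟩⟩ := hf.nondegenerate (e i) (e.ne_zero i)
    refine hy ?_
    have := LinearMap.congr_fun (e.ext (f₁ := B (e i)) (f₂ := 0) fun j => by
      rw [hB, LinearMap.zero_apply]
      rcases eq_or_ne i j with rfl | h
      · exact hi
      · exact he i j h) y
    rw [hB] at this
    exact this
  set k := f (e 0) (e 0) * f (e 1) (e 1) * f (e 2) (e 2) with hk
  obtain ⟨x, y, hxy⟩ : ∃ x y : F, f (e 0) (e 0) * x ^ 2 + f (e 1) (e 1) * y ^ 2 = k := by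
    open Polynomial in
    obtain ⟨a, b, hab⟩ := FiniteField.exists_root_sum_quadratic (R := F)
      (f := Polynomial.C (f (e 0) (e 0)) * Polynomial.X ^ 2)
      (g := Polynomial.C (f (e 1) (e 1)) * Polynomial.X ^ 2 - Polynomial.C k)
      (Polynomial.degree_C_mul_X_pow 2 (hd 0))
      (by rw [Polynomial.degree_sub_eq_left_of_degree_lt (by
          rw [Polynomial.degree_C_mul_X_pow 2 (hd 1)]
          exact lt_of_le_of_lt Polynomial.degree_C_le (by norm_num))]
          exact Polynomial.degree_C_mul_X_pow 2 (hd 1))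
      (FiniteField.odd_card_of_char_ne_two fun h => h2 (by
        haveI := ringChar.of_eq h
        exact CharTwo.two_eq_zero))
    refine ⟨a, b, ?_⟩
    simp only [eval_mul, eval_C, eval_pow, eval_X, eval_sub] at hab
    linear_combination hab
  set d0 := f (e 0) (e 0) with hd0
  set d1 := f (e 1) (e 1) with hd1
  set d2 := f (e 2) (e 2) with hd2
  obtain ⟨s, t, hst⟩ : ∃ s t : F, d0 * d1 * k * s ^ 2 + d2 * t ^ 2 = k := by
    obtain ⟨a, b, hab⟩ := FiniteField.exists_root_sum_quadratic (R := F)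
      (f := Polynomial.C (d0 * d1 * k) * Polynomial.X ^ 2)
      (g := Polynomial.C d2 * Polynomial.X ^ 2 - Polynomial.C k)
      (Polynomial.degree_C_mul_X_pow 2 (mul_ne_zero (mul_ne_zero (hd 0) (hd 1))
        (mul_ne_zero (mul_ne_zero (hd 0) (hd 1)) (hd 2))))
      (by rw [Polynomial.degree_sub_eq_left_of_degree_lt (by
          rw [Polynomial.degree_C_mul_X_pow 2 (hd 2)]
          exact lt_of_le_of_lt Polynomial.degree_C_le (by norm_num))]
          exact Polynomial.degree_C_mul_X_pow 2 (hd 2))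
      (FiniteField.odd_card_of_char_ne_two fun h => h2 (by
        haveI := ringChar.of_eq h
        exact CharTwo.two_eq_zero))
    refine ⟨a, b, ?_⟩
    simp only [Polynomial.eval_mul, Polynomial.eval_C, Polynomial.eval_pow, Polynomial.eval_X,
      Polynomial.eval_sub] at hab
    linear_combination hab
  have hk0 : k ≠ 0 := mul_ne_zero (mul_ne_zero (hd 0) (hd 1)) (hd 2)
  have hfe : ∀ a b : Fin 3 → F, f (a 0 • e 0 + a 1 • e 1 + a 2 • e 2) (b 0 • e 0 + b 1 • e 1 + b 2 • e 2) =
      d0 * a 0 * b 0 + d1 * a 1 * b 1 + d2 * a 2 * b 2 := fun a b => by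
    simp only [hf.bilinear.add_left, hf.bilinear.add_right, hf.bilinear.smul_left, hf.bilinear.smul_right,
      he 0 1 (by decide), he 0 2 (by decide), he 1 2 (by decide), he 1 0 (by decide), he 2 0 (by decide),
      he 2 1 (by decide), ← hd0, ← hd1, ← hd2]
    ring
  obtain ⟨m, hm⟩ : ∃ m : Fin 3 → Fin 3 → F, m = ![![x, y, 0], ![-(s * (d1 * y)), s * (d0 * x), t],
      ![d2 * t * (d1 * y) / k, -(d2 * t * (d0 * x)) / k, d0 * d1 * k * s / k]] := ⟨_, rfl⟩
  obtain ⟨w, hw⟩ : ∃ w : Fin 3 → Fin 3 → F, ∀ i, w i = m i 0 • e 0 + m i 1 • e 1 + m i 2 • e 2 :=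
    ⟨_, fun _ => rfl⟩
  have hwf : ∀ i j, f (w i) (w j) = if i = j then k else 0 := by
    intro i j
    rw [hw, hw, hfe, hm]
    fin_cases i <;> fin_cases j <;> simp
    all_goals first
      | linear_combination hxy
      | linear_combination d0 * d1 * s ^ 2 * hxy + hst
      | (field_simp; linear_combination d0 * d1 * d2 ^ 2 * t ^ 2 * hxy + d0 * d1 * d2 * k * hst)
      | ring1
      | (field_simp; ring1)
      | (field_simp; linear_combination (-(d0 * d1 * d2 * t * s)) * hxy)
      | (field_simp; linear_combination (d0 * d1 * d2 * t * s) * hxy)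
  have hCu : ∀ u, (Matrix.of fun a b => w b a) *ᵥ u = ∑ i, u i • w i := fun u => by
    funext a
    simp [Matrix.mulVec, dotProduct, mul_comm]
  have hfu : ∀ u v, f ((Matrix.of fun a b => w b a) *ᵥ u) ((Matrix.of fun a b => w b a) *ᵥ v) = k * (u ⬝ᵥ v) :=
    fun u v => by
      rw [hCu, hCu, Fin.sum_univ_three, Fin.sum_univ_three, dot3]
      simp only [hf.bilinear.add_left, hf.bilinear.add_right, hf.bilinear.smul_left, hf.bilinear.smul_right, hwf,
        Fin.reduceEq, if_true, if_false]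
      ring
  have hinj : Function.Injective (Matrix.of fun a b => w b a).mulVec := by
    refine (injective_iff_map_eq_zero ((Matrix.of fun a b => w b a).mulVecLin)).2 fun u hu => ?_
    funext i
    have h0 : f ((Matrix.of fun a b => w b a) *ᵥ u) ((Matrix.of fun a b => w b a) *ᵥ ee i) = 0 := by
      rw [show (Matrix.of fun a b => w b a) *ᵥ u = 0 from hu, ← hB, map_zero, LinearMap.zero_apply]
    rw [hfu, dot_ee] at h0
    exact (mul_eq_zero.1 h0).resolve_left hk0
  obtain ⟨C, hC⟩ := Matrix.mulVec_injective_iff_isUnit.1 hinj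
  refine ⟨C, k, hk0, fun u v => ?_⟩
  show f ((C : Matrix (Fin 3) (Fin 3) F) *ᵥ u) ((C : Matrix (Fin 3) (Fin 3) F) *ᵥ v) = _
  rw [hC, hfu]

/-- Stabilisers of tensor square decompositions are maximal. -/
theorem tensor_square_maximal [Fintype F] {ι : Type} [Fintype ι] [DecidableEq ι] {Q : (ι → F) → F}
    (hQ : Geo.IsNondegenerateQuadraticForm Q) (h2 : (2 : F) ≠ 0) (h5 : 5 ≤ Fintype.card F)
    (e : ι ≃ (Fin 2 → Fin 3)) (P : GL ι F) {f₁ : (Fin 3 → F) → (Fin 3 → F) → F}
    (hf : Geo.IsSymmetricForm f₁) (hT : Geo.IsTensorPowerFormStructure id (QuadraticMap.polar Q) f₁ e P) :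
    Geo.IsMaximalIn (Geo.omegaGL Q) (Geo.tensorWreathSubgroup 3 2 e P ⊓ Geo.omegaGL Q) := by
  obtain ⟨c, hc, hT⟩ := hT
  obtain ⟨E, hE⟩ : ∃ E : ι ≃ Fin 3 × Fin 3, E = e.trans pair := ⟨_, rfl⟩
  have hbase : ∀ u v, ∑ i, ∑ j, u i * Geo.gramMatrix f₁ i j * v j = f₁ u v := by
    intro u v
    have hl : ∀ (s : Finset (Fin 3)) (x : Fin 3 → Fin 3 → F) w, f₁ (∑ i ∈ s, x i) w = ∑ i ∈ s, f₁ (x i) w :=
      fun s x w => map_sum (AddMonoidHom.mk' (fun a => f₁ a w) fun a b => hf.bilinear.add_left a b w) x s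
    have hr : ∀ (s : Finset (Fin 3)) (x : Fin 3 → Fin 3 → F) w, f₁ w (∑ i ∈ s, x i) = ∑ i ∈ s, f₁ w (x i) :=
      fun s x w => map_sum (AddMonoidHom.mk' (fun a => f₁ w a) fun a b => hf.bilinear.add_right w a b) x s
    conv_rhs => rw [pi_eq_sum_univ' u, pi_eq_sum_univ' v, hl]
    refine Finset.sum_congr rfl fun i _ => ?_
    rw [hf.bilinear.smul_left, hr, Finset.mul_sum]
    refine Finset.sum_congr rfl fun j _ => ?_
    rw [hf.bilinear.smul_right, Geo.gramMatrix]
    ring
  have hform : ∀ u w v z : Fin 3 → F,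
      pol Q (mv P (ten u w ∘ E)) (mv P (ten v z ∘ E)) = c * (f₁ u v * f₁ w z) := by
    intro u w v z
    have h := hT (ten u w ∘ pair) (ten v z ∘ pair)
    rw [show (ten u w ∘ pair) ∘ e = ten u w ∘ E by rw [hE]; rfl,
      show (ten v z ∘ pair) ∘ e = ten v z ∘ E by rw [hE]; rfl] at h
    refine h.trans ?_
    rw [← hbase, ← hbase]
    congr 1
    simp only [← pair.symm.sum_comp, Function.comp_apply, Equiv.apply_symm_apply, id_eq, Fintype.sum_prod_type,
      Fin.prod_univ_two, Fin.sum_univ_three]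
    simp [pair, ten]
    ring
  obtain ⟨C, k, hk, hC⟩ := exists_gram h2 hf
  obtain ⟨R, hR⟩ : ∃ R : GL ι F, R = Geo.glReindex E.symm (kr C C) := ⟨_, rfl⟩
  have hck : c * (k * k) ≠ 0 := mul_ne_zero hc (mul_ne_zero hk hk)
  have hP2 : ∀ x : Fin 3 × Fin 3 → F, mv (P * R) (x ∘ E) = mv P (mv (kr C C) x ∘ E) := fun x => by
    rw [mv_mul, hR, TensorMax.S.mv_reindex']
  have hQd : ∀ x, Qd x = (c * (k * k))⁻¹ * Q (mv (P * R) (x ∘ E)) := by
    have hbil : ∀ x y : Fin 3 × Fin 3 → F,
        pol Q (mv (P * R) (x ∘ E)) (mv (P * R) (y ∘ E)) = c * (k * k) * (x ⬝ᵥ y) := by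
      obtain ⟨L, hL⟩ : ∃ L : (Fin 3 × Fin 3 → F) →ₗ[F] (Fin 3 × Fin 3 → F) →ₗ[F] F,
          ∀ x y, L x y = pol Q (mv (P * R) (x ∘ E)) (mv (P * R) (y ∘ E)) - c * (k * k) * (x ⬝ᵥ y) := by
        refine ⟨LinearMap.mk₂ F
          (fun x y => pol Q (mv (P * R) (x ∘ E)) (mv (P * R) (y ∘ E)) - c * (k * k) * (x ⬝ᵥ y))
          (fun a b y => ?_) (fun r a y => ?_) (fun y a b => ?_) (fun r y a => ?_), fun x y => rfl⟩
        · rw [show (a + b) ∘ E = a ∘ E + b ∘ E from rfl, mv_add, Transvec.Orth.pol_add_left hQ, add_dotProduct]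
          ring
        · rw [show (r • a) ∘ E = r • (a ∘ E) from rfl, mv_smul, Transvec.Orth.pol_smul_left hQ, smul_dotProduct,
            smul_eq_mul, smul_eq_mul]
          ring
        · rw [show (a + b) ∘ E = a ∘ E + b ∘ E from rfl, mv_add, Transvec.Orth.pol_add_right hQ, dotProduct_add]
          ring
        · rw [show (r • a) ∘ E = r • (a ∘ E) from rfl, mv_smul, Transvec.Orth.pol_smul_right hQ, dotProduct_smul,
            smul_eq_mul, smul_eq_mul]
          ring
      have hL0 : L = 0 := ext_ten fun u w => ext_ten fun v z => by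
        rw [hL, LinearMap.zero_apply, LinearMap.zero_apply, hP2, hP2, mv_kr_ten, mv_kr_ten, hform, hC, hC, ten_dot]
        ring
      intro x y
      rw [← sub_eq_zero, ← hL, hL0]
      rfl
    intro x
    refine mul_left_cancel₀ (mul_ne_zero h2 hck) ?_
    rw [show 2 * (c * (k * k)) * ((c * (k * k))⁻¹ * Q (mv (P * R) (x ∘ E))) = 2 * Q (mv (P * R) (x ∘ E)) by
      rw [mul_assoc, mul_inv_cancel_left₀ hck], ← Transvec.Orth.pol_self hQ, hbil, Qd]
    field_simp
  have hΩ := omega_transport E (P * R) (inv_ne_zero hck) hQd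
  have hK : ((stdK F).map (Geo.glReindex (F := F) E.symm).toMonoidHom).map (MulAut.conj (P * R)).toMonoidHom =
      Geo.tensorWreathSubgroup 3 2 e P := by
    have h1 : (stdK F).map (Geo.glReindex (F := F) E.symm).toMonoidHom =
        (Geo.tensorWreathStandard 3 2 F).map (Geo.glReindex (F := F) e.symm).toMonoidHom := by
      rw [stdK, Subgroup.map_map]
      congr 1
      refine MonoidHom.ext fun g => Units.ext ?_
      show Matrix.reindex E.symm E.symm (Matrix.reindex pair pair _) = Matrix.reindex e.symm e.symm _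
      ext a b
      simp [hE]
    have hRm : R ∈ (stdK F).map (Geo.glReindex (F := F) E.symm).toMonoidHom :=
      ⟨_, mem_stdK.2 (inK_kr C C), hR.symm⟩
    rw [Geo.tensorWreathSubgroup, ← h1]
    generalize (stdK F).map (Geo.glReindex (F := F) E.symm).toMonoidHom = S at hRm
    ext g
    constructor
    · rintro ⟨s, hs, rfl⟩
      exact ⟨R * s * R⁻¹, S.mul_mem (S.mul_mem hRm hs) (S.inv_mem hRm), by simp [mul_assoc]⟩
    · rintro ⟨s, hs, rfl⟩
      exact ⟨R⁻¹ * s * R, S.mul_mem (S.mul_mem (S.inv_mem hRm) hs) hRm, by simp [mul_assoc]⟩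
  have h := Transvec.isMaximalIn_map (MulAut.conj (P * R))
    (Transvec.isMaximalIn_map (Geo.glReindex (F := F) E.symm) (maximal_std h2 h5))
  rw [Subgroup.map_inf _ _ (Geo.glReindex (F := F) E.symm).toMonoidHom (Geo.glReindex E.symm).injective,
    Subgroup.map_inf _ _ (MulAut.conj (P * R)).toMonoidHom (MulAut.conj (P * R)).injective, hΩ, hK] at h
  exact h

end Cfsg.Agent.TensorSquare
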